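import Cfsg.Agent.SporadicA.M24.KBlock
import Cfsg.Agent.SmallSimple.PrimeLocal
import Cfsg.Agent.SmallSimple.InvolColumn
import Cfsg.Agent.SmallSimple.LocalData
import Cfsg.Agent.M23.Sylow23
set_option linter.all false

/-!
# The Sylow `23`-subgroups of a simple group of order `244823040 = |M₂₄|`

`centralizer_eq : C_G(P) = P`, `relIndex_eq : |N(P) : C(P)| = 11` and
`card_normalizer : |N_G(P)| = 253` for every Sylow `23`-subgroup `P` of a simple group `G` of order
`244823040`.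

If `C(P) = P × K` with `K ≠ 1` then the relation between the degrees of the principal `23`-block
forces an odd degree different from `1`; it is one of `231`, `495`, `10395`, and all three are
impossible.
-/

set_option autoImplicit false
set_option linter.unusedSectionVars false

namespace Cfsg.Agent.SporadicA.M24.Sylow23

open Cfsg Subgroup
open Cfsg.Agent.Characters.Core
open Cfsg.Agent.SmallSimple Cfsg.Agent.SmallSimple.PrimeLocal
open Cfsg.Agent.M22.NonSelfCent (KBlock NEData XData InvVal exists_commuting)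
open Cfsg.Agent.SporadicA.M24.KBlock

universe u

/-! ### Arithmetic -/

theorem smooth {k : ℕ} (h : k ∣ 967680) :
    ∃ a < 11, ∃ b < 4, ∃ c < 2, ∃ d < 2, k = 2 ^ a * 3 ^ b * 5 ^ c * 7 ^ d := by
  have h1 : k ∣ 2 ^ 10 * (3 ^ 3 * (5 ^ 1 * 7 ^ 1)) := by norm_num; exact h
  obtain ⟨x, y, hx, hy, hxy⟩ := (Nat.dvd_mul).1 h1
  obtain ⟨z, w, hz, hw, hzw⟩ := (Nat.dvd_mul).1 hy
  obtain ⟨s, t, hs, ht, hst⟩ := (Nat.dvd_mul).1 hw
  obtain ⟨a, ha, rfl⟩ := (Nat.dvd_prime_pow Nat.prime_two).1 hx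
  obtain ⟨b, hb, rfl⟩ := (Nat.dvd_prime_pow Nat.prime_three).1 hz
  obtain ⟨c, hc, rfl⟩ := (Nat.dvd_prime_pow (by norm_num : Nat.Prime 5)).1 hs
  obtain ⟨d, hd, rfl⟩ := (Nat.dvd_prime_pow (by norm_num : Nat.Prime 7)).1 ht
  exact ⟨a, by omega, b, by omega, c, by omega, d, by omega, by
    rw [← hxy, ← hzw, ← hst]; ring⟩

/-- The test for `e = 11`. -/
def chk11 (k : ℕ) : Bool :=
  !(k % 23 == 1) || (k == 1 || (k == 967680 ||
    (k % 2 == 0 && (!(k % 1024 == 0) && (k % 3 == 0 || k % 5 == 0)))))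

/-- The test for `e = 22`. -/
def chk22 (k : ℕ) : Bool :=
  !(k % 23 == 12) || (k == 35 || (k % 1024 == 0 ||
    (k % 2 == 0 && (!(k % 1024 == 0) && (k % 3 == 0 || k % 5 == 0)))))

theorem arith11' : ∀ a < 11, ∀ b < 4, ∀ c < 2, ∀ d < 2,
    chk11 (2 ^ a * 3 ^ b * 5 ^ c * 7 ^ d) = true := by
  decide +kernel

theorem arith22' : ∀ a < 11, ∀ b < 4, ∀ c < 2, ∀ d < 2,
    chk22 (2 ^ a * 3 ^ b * 5 ^ c * 7 ^ d) = true := by
  decide +kernel

theorem arith11 {n k : ℕ} (h : n * k = 967680) (hn : n % 23 = 1) (hn1 : n ≠ 1) :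
    k = 1 ∨ (k % 2 = 0 ∧ k % 1024 ≠ 0 ∧ (k % 3 = 0 ∨ k % 5 = 0)) := by
  have hk : k % 23 = 1 := by
    have h1 : (n * k) % 23 = 1 := by rw [h]
    rw [Nat.mul_mod, hn, one_mul, Nat.mod_mod] at h1
    exact h1
  obtain ⟨a, ha, b, hb, c, hc, d, hd, rfl⟩ := smooth (k := k) ⟨n, by rw [mul_comm]; exact h.symm⟩
  have h0 := arith11' a ha b hb c hc d hd
  generalize 2 ^ a * 3 ^ b * 5 ^ c * 7 ^ d = k at *
  simp only [chk11, Bool.or_eq_true, Bool.not_eq_true', Bool.and_eq_true, beq_iff_eq,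
    beq_eq_false_iff_ne] at h0
  rcases h0 with h1 | h1 | h1 | h1
  · exact absurd hk h1
  · exact Or.inl h1
  · exfalso
    rw [h1] at h
    omega
  · exact Or.inr h1

theorem arith22 {n k : ℕ} (h : n * k = 483840) (hn : n % 23 = 1) :
    k = 35 ∨ (k % 2 = 0 ∧ k % 1024 ≠ 0 ∧ (k % 3 = 0 ∨ k % 5 = 0)) := by
  have hk : k % 23 = 12 := by
    have h1 : (n * k) % 23 = 12 := by rw [h]
    rw [Nat.mul_mod, hn, one_mul, Nat.mod_mod] at h1
    exact h1
  obtain ⟨a, ha, b, hb, c, hc, d, hd, hk'⟩ := smooth (k := k)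
    ⟨2 * n, by rw [show k * (2 * n) = 2 * (n * k) by ring, h]⟩
  have h2 := arith22' a ha b hb c hc d hd
  rw [← hk'] at h2
  simp only [chk22, Bool.or_eq_true, Bool.not_eq_true', Bool.and_eq_true, beq_iff_eq,
    beq_eq_false_iff_ne] at h2
  rcases h2 with h1 | h1 | h1 | h1
  · exact absurd hk h1
  · exact Or.inl h1
  · exfalso
    have h3 : 1024 ∣ n * k := (Nat.dvd_of_mod_eq_zero h1).mul_left n
    rw [h] at h3
    revert h3; norm_num
  · exact Or.inr h1

/-- The test for odd degrees. -/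
def chkOdd (n : ℕ) : Bool :=
  !(n % 23 == 1 || (n % 23 == 22 || (n % 23 == 11 || n % 23 == 12))) ||
    (Nat.blt n 47 || (n == 231 || (n == 495 || n == 10395)))

theorem odd_arith : ∀ b < 4, ∀ c < 2, ∀ d < 2, ∀ f < 2,
    chkOdd (3 ^ b * 5 ^ c * 7 ^ d * 11 ^ f) = true := by
  decide +kernel

theorem odd_degrees {n : ℕ} (hn : n ∣ 244823040) (hodd : ¬ 2 ∣ n)
    (hmod : n % 23 = 1 ∨ n % 23 = 22 ∨ n % 23 = 11 ∨ n % 23 = 12) :
    n < 47 ∨ n = 231 ∨ n = 495 ∨ n = 10395 := by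
  have h1 : Nat.Coprime n (2 ^ 10) :=
    (Nat.Coprime.pow_left 10 ((Nat.Prime.coprime_iff_not_dvd Nat.prime_two).2 hodd)).symm
  have h2 : Nat.Coprime n 23 :=
    ((Nat.Prime.coprime_iff_not_dvd (by norm_num)).2 (by omega)).symm
  have h3 : n ∣ 2 ^ 10 * (23 * (3 ^ 3 * (5 ^ 1 * (7 ^ 1 * 11 ^ 1)))) := by norm_num; exact hn
  have h4 := h2.dvd_of_dvd_mul_left (h1.dvd_of_dvd_mul_left h3)
  obtain ⟨z, w, hz, hw, hzw⟩ := (Nat.dvd_mul).1 h4
  obtain ⟨s, t, hs, ht, hst⟩ := (Nat.dvd_mul).1 hw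
  obtain ⟨x, y, hx, hy, hxy⟩ := (Nat.dvd_mul).1 ht
  obtain ⟨b, hb, rfl⟩ := (Nat.dvd_prime_pow Nat.prime_three).1 hz
  obtain ⟨c, hc, rfl⟩ := (Nat.dvd_prime_pow (by norm_num : Nat.Prime 5)).1 hs
  obtain ⟨d, hd, rfl⟩ := (Nat.dvd_prime_pow (by norm_num : Nat.Prime 7)).1 hx
  obtain ⟨f, hf, rfl⟩ := (Nat.dvd_prime_pow (by norm_num : Nat.Prime 11)).1 hy
  have h5 : n = 3 ^ b * 5 ^ c * 7 ^ d * 11 ^ f := by rw [← hzw, ← hst, ← hxy]; ring
  have h6 := odd_arith b (by omega) c (by omega) d (by omega) f (by omega)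
  rw [← h5] at h6
  simp only [chkOdd, Bool.or_eq_true, Bool.not_eq_true', beq_iff_eq, Bool.or_eq_false_iff,
    beq_eq_false_iff_ne, Nat.blt_eq] at h6
  rcases h6 with h6 | h6
  · exfalso
    rcases hmod with h | h | h | h
    · exact h6.1 h
    · exact h6.2.1 h
    · exact h6.2.2.1 h
    · exact h6.2.2.2 h
  · exact h6

theorem two_arith : ∀ j < 681, 2 ≤ j → (244823040 % (1 + 23 * j) = 0 →
      244823040 % (2 + 23 * j) ≠ 0) ∧
    (244823040 % (22 + 23 * j) = 0 → 244823040 % (21 + 23 * j) ≠ 0) := by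
  decide +kernel

/-! ### The group -/

variable {G : Type u} [Group G] [Finite G] [IsSimpleGroup G]

theorem not_prime (hcard : Nat.card G = 244823040) : ¬ (Nat.card G).Prime := by
  rw [hcard]; norm_num

theorem not_comm (hcard : Nat.card G = 244823040) : ¬ IsMulCommutative G :=
  Embed.not_comm_of_card_not_prime (not_prime hcard)

theorem charDegree_dvd (hcard : Nat.card G = 244823040) (χ : IrrCharacter G) :
    charDegree (χ : G → ℂ) ∣ 244823040 := by
  rw [← hcard]; exact Blocks.Knorr.charDegree_dvd χ.2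

theorem charDegree_lt (hcard : Nat.card G = 244823040) (χ : IrrCharacter G) :
    charDegree (χ : G → ℂ) < 15647 := by
  have h1 := M23.Sylow23.degree_sq_le χ
  rw [hcard] at h1
  by_contra hcon
  have h2 : 15647 ^ 2 ≤ charDegree (χ : G → ℂ) ^ 2 := Nat.pow_le_pow_left (by omega) 2
  omega

/-- The hypothesis on `K` used to exclude odd degrees. -/
def Bad (K : Subgroup G) : Prop :=
  ((∃ s ∈ K, s * s = 1 ∧ s ≠ 1 ∧ ¬ (11 : ℤ) ∣ ((centralizer ({s} : Set G)).index : ℤ)) ∧
    (3 ∣ Nat.card K ∨ 5 ∣ Nat.card K)) ∨ (5 ∣ Nat.card K ∧ 7 ∣ Nat.card K)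

theorem eleven_false {s : G} {χ : IrrCharacter G} {n a : ℕ} (hn : charDegree (χ : G → ℂ) = n)
    (h11n : 11 ∣ n) (ha : a < 22) {K : Subgroup G} (hinv : InvVal 23 (χ : G → ℂ) a K)
    (hs : s ∈ K) (hs2 : s * s = 1) (hs1 : s ≠ 1)
    (h11 : ¬ (11 : ℤ) ∣ ((centralizer ({s} : Set G)).index : ℤ)) : False := by
  obtain ⟨m, hm, hma, hv⟩ := hinv s hs hs2 hs1
  have h1 := InvolColumn.dvd_index_mul χ.2 hv
  rw [hn] at h1
  have h2 : (11 : ℤ) ∣ (n : ℤ) := by exact_mod_cast h11n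
  have h3 := (Int.Prime.dvd_mul' (p := 11) (by norm_num) (h2.trans h1)).resolve_left h11
  obtain ⟨q, hq⟩ := h11n
  subst hq
  push_cast at h3
  omega

theorem even_degree (hcard : Nat.card G = 244823040) {P : Sylow 23 G}
    {e t : ℕ} {NE X : Finset (IrrCharacter G)} {ε : IrrCharacter G → ℤ} {d : ℤ}
    (hB : KBlock 23 (P : Subgroup G) e t NE X ε d)
    (hmod : ∀ χ : IrrCharacter G, (χ ∈ NE ∨ χ ∈ X) → ∀ w ∈ centralizer (P : Set G),
        ¬ 23 ∣ orderOf w → ∀ z : ℤ, (χ : G → ℂ) w = z →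
        ((23 : ℕ) : ℤ) ∣ (charDegree (χ : G → ℂ) : ℤ) - z)
    (he : e = 11 ∨ e = 22) {K : Subgroup G} (hK : K ≤ centralizer (P : Set G))
    (hpK : ¬ 23 ∣ Nat.card K) (hKne : K ≠ ⊥) (hbad : Bad K) {χ : IrrCharacter G}
    (hχ : (χ ∈ NE ∧ χ ≠ ⟨1, isIrr_one⟩) ∨ χ ∈ X) : 2 ∣ charDegree (χ : G → ℂ) := by
  by_contra hodd
  have hp23 : Nat.Prime 23 := by norm_num
  have hcop : Nat.Coprime 23 (Nat.card K) := (Nat.Prime.coprime_iff_not_dvd hp23).2 hpK
  have hχ' : χ ∈ NE ∨ χ ∈ X := hχ.imp And.left id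
  obtain ⟨a, ha2, hdeg, hinv⟩ : ∃ a : ℕ, 2 ≤ a ∧
      (charDegree (χ : G → ℂ) = 23 * a + 1 ∨ charDegree (χ : G → ℂ) + 1 = 23 * (a + 1) ∨
        charDegree (χ : G → ℂ) = 23 * a + 11 ∨ charDegree (χ : G → ℂ) + 11 = 23 * (a + 1)) ∧
      InvVal 23 (χ : G → ℂ) a K := by
    rcases hχ with ⟨h1, h2⟩ | h1
    · obtain ⟨a, h3, h4, h5⟩ := hB.ne_data K hK hcop hKne χ h1 h2
      exact ⟨a, h3, by tauto, h5⟩
    · obtain ⟨a, h3, h4, h5⟩ := hB.x_data K hK hcop hKne χ h1
      refine ⟨a, h3, ?_, h5⟩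
      rcases he with rfl | rfl
      · tauto
      · rcases h4 with ⟨-, h4⟩ | ⟨-, h4⟩
        · right; left; omega
        · left; omega
  have hlt := charDegree_lt hcard χ
  have hdvd := charDegree_dvd hcard χ
  have hn23 : ¬ 23 ∣ charDegree (χ : G → ℂ) := by omega
  have h1 := odd_degrees hdvd hodd (by omega)
  have hdz := fun {r n : ℕ} (hr : r.Prime) (hn : r ^ n ∣ Nat.card G)
    (hn' : ¬ r ^ (n + 1) ∣ Nat.card G) (hrK : r ∣ Nat.card K) =>
      not_defect_zero hmod hχ' hn23 hr hn hn' hK hpK hrK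
  have hdz3 : 3 ∣ Nat.card K → ¬ 27 ∣ charDegree (χ : G → ℂ) := fun h =>
    hdz (r := 3) (n := 3) (by norm_num) (by rw [hcard]; norm_num) (by rw [hcard]; norm_num) h
  have hdz5 : 5 ∣ Nat.card K → ¬ 5 ∣ charDegree (χ : G → ℂ) := fun h => by
    have := hdz (r := 5) (n := 1) (by norm_num) (by rw [hcard]; norm_num)
      (by rw [hcard]; norm_num) h
    rwa [pow_one] at this
  have hdz7 : 7 ∣ Nat.card K → ¬ 7 ∣ charDegree (χ : G → ℂ) := fun h => by
    have := hdz (r := 7) (n := 1) (by norm_num) (by rw [hcard]; norm_num)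
      (by rw [hcard]; norm_num) h
    rwa [pow_one] at this
  rcases hbad with ⟨⟨s, hs, hs2, hs1, h11⟩, h35⟩ | ⟨h5, h7⟩
  · rcases h1 with h1 | h1 | h1 | h1
    · omega
    · exact eleven_false h1 (by norm_num) (by omega) hinv hs hs2 hs1 h11
    · exact eleven_false h1 (by norm_num) (by omega) hinv hs hs2 hs1 h11
    · rcases h35 with h3 | h5
      · exact hdz3 h3 (by rw [h1]; norm_num)
      · exact hdz5 h5 (by rw [h1]; norm_num)
  · rcases h1 with h1 | h1 | h1 | h1
    · omega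
    · exact hdz7 h7 (by rw [h1]; norm_num)
    · exact hdz5 h5 (by rw [h1]; norm_num)
    · exact hdz5 h5 (by rw [h1]; norm_num)

theorem charDegree_one' : charDegree ((1 : G → ℂ)) = 1 := by
  have h1 := Blocks.Basic.irr_one_eq_charDegree (isIrr_one (G := G))
  have h2 : ((charDegree (1 : G → ℂ) : ℕ) : ℂ) = ((1 : ℕ) : ℂ) := by
    rw [← h1]; simp
  exact_mod_cast h2

theorem no_bad (hcard : Nat.card G = 244823040) [Fact (Nat.Prime 23)] {P : Sylow 23 G}
    (hP : Nat.card P = 23) {e : ℕ}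
    (hrel : (centralizer (P : Set G)).relIndex (normalizer (P : Set G)) = e)
    (he : e = 11 ∨ e = 22) {K : Subgroup G} (hK : K ≤ centralizer (P : Set G))
    (hpK : ¬ 23 ∣ Nat.card K) (hKne : K ≠ ⊥) : ¬ Bad K := by
  classical
  intro hbad
  obtain ⟨NE, X, ε, d, hB, hmod⟩ := exists_kblock' (not_prime hcard) 23 (by norm_num) P hP e
    (22 / e) hrel (by rcases he with rfl | rfl <;> norm_num)
  have hXpos : 0 < X.card := by
    rw [hB.card_X]; rcases he with rfl | rfl <;> norm_num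
  obtain ⟨Θ, hΘ⟩ := Finset.card_pos.1 hXpos
  have hdeg := hB.rel_one Θ hΘ
  rw [← Finset.add_sum_erase _ _ hB.one_mem, hB.eps_one] at hdeg
  have h1 : (2 : ℤ) ∣ ∑ χ ∈ NE.erase ⟨1, isIrr_one⟩, ε χ * (charDegree (χ : G → ℂ) : ℤ) :=
    Finset.dvd_sum fun χ hχ => by
      have h2 := even_degree hcard hB hmod he hK hpK hKne hbad (χ := χ)
        (Or.inl ⟨Finset.mem_of_mem_erase hχ, Finset.ne_of_mem_erase hχ⟩)
      have h3 : (2 : ℤ) ∣ (charDegree (χ : G → ℂ) : ℤ) := by exact_mod_cast h2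
      exact h3.mul_left _
  have h2 : (2 : ℤ) ∣ d * (charDegree (Θ : G → ℂ) : ℤ) := by
    have h2 := even_degree hcard hB hmod he hK hpK hKne hbad (χ := Θ) (Or.inr hΘ)
    have h3 : (2 : ℤ) ∣ (charDegree (Θ : G → ℂ) : ℤ) := by exact_mod_cast h2
    exact h3.mul_left _
  rw [← hdeg] at h2
  have h4 : (charDegree (((⟨1, isIrr_one⟩ : IrrCharacter G) : G → ℂ)) : ℤ) = 1 := by
    exact_mod_cast charDegree_one' (G := G)
  rw [h4] at h2
  have h5 := (dvd_add_left h1).1 h2
  norm_num at h5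

/-- The case `e = 2`. -/
theorem two_false (hcard : Nat.card G = 244823040) [Fact (Nat.Prime 23)] {P : Sylow 23 G}
    (hP : Nat.card P = 23)
    (hrel : (centralizer (P : Set G)).relIndex (normalizer (P : Set G)) = 2)
    {K : Subgroup G} (hK : K ≤ centralizer (P : Set G))
    (hpK : ¬ 23 ∣ Nat.card K) (hKne : K ≠ ⊥) : False := by
  classical
  obtain ⟨NE, X, ε, d, hB, hmod⟩ := exists_kblock' (not_prime hcard) 23 (by norm_num) P hP 2
    11 hrel (by norm_num)
  have hp23 : Nat.Prime 23 := by norm_num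
  have hcop : Nat.Coprime 23 (Nat.card K) := (Nat.Prime.coprime_iff_not_dvd hp23).2 hpK
  have hXpos : 0 < X.card := by
    rw [hB.card_X]; norm_num
  obtain ⟨Θ, hΘ⟩ := Finset.card_pos.1 hXpos
  have hdeg := hB.rel_one Θ hΘ
  rw [← Finset.add_sum_erase _ _ hB.one_mem, hB.eps_one] at hdeg
  have h4 : (charDegree (((⟨1, isIrr_one⟩ : IrrCharacter G) : G → ℂ)) : ℤ) = 1 := by
    exact_mod_cast charDegree_one' (G := G)
  rw [h4] at hdeg
  obtain ⟨χ, hχ⟩ : ∃ χ, NE.erase ⟨1, isIrr_one⟩ = {χ} := by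
    apply Finset.card_eq_one.1
    rw [Finset.card_erase_of_mem hB.one_mem, hB.card_NE]
  have hχm : χ ∈ NE.erase ⟨1, isIrr_one⟩ := by rw [hχ]; exact Finset.mem_singleton_self _
  have hχN := Finset.mem_of_mem_erase hχm
  rw [hχ, Finset.sum_singleton] at hdeg
  obtain ⟨a, ha, hn, -⟩ := hB.ne_data K hK hcop hKne χ hχN (Finset.ne_of_mem_erase hχm)
  have hlt := charDegree_lt hcard χ
  have hχd := charDegree_dvd hcard χ
  have hΘd := charDegree_dvd hcard Θ
  rcases hn with ⟨hε, hn⟩ | ⟨hε, hn⟩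
  · rw [hε] at hdeg
    have h5 : charDegree (Θ : G → ℂ) = 2 + 23 * a := by
      rcases hB.hd with h | h <;> rw [h] at hdeg <;> omega
    rw [hn, show 23 * a + 1 = 1 + 23 * a by ring] at hχd
    rw [h5] at hΘd
    exact (two_arith a (by omega) ha).1 (Nat.mod_eq_zero_of_dvd hχd) (Nat.mod_eq_zero_of_dvd hΘd)
  · rw [hε] at hdeg
    have h5 : charDegree (Θ : G → ℂ) = 21 + 23 * a := by
      rcases hB.hd with h | h <;> rw [h] at hdeg <;> omega
    have h6 : charDegree (χ : G → ℂ) = 22 + 23 * a := by omega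
    rw [h6] at hχd
    rw [h5] at hΘd
    exact (two_arith a (by omega) ha).2 (Nat.mod_eq_zero_of_dvd hχd) (Nat.mod_eq_zero_of_dvd hΘd)

theorem card_P (hcard : Nat.card G = 244823040) (P : Sylow 23 G) : Nat.card P = 23 := by
  have : Fact (Nat.Prime 23) := ⟨by norm_num⟩
  exact card_of_not_sq_dvd (by rw [hcard]; norm_num) (by rw [hcard]; norm_num) P

theorem relIndex_of_local {p : ℕ} [hp : Fact p.Prime] {P : Sylow p G} {e : ℕ} {K : Subgroup G}
    (h : IsLocal p P e K) :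
    (centralizer (P : Set G)).relIndex (normalizer (P : Set G)) = e := by
  have hle := SylowPrimeCount.centralizer_le_normalizer' (P : Subgroup G)
  have h1 := relIndex_mul_relIndex (⊥ : Subgroup G) _ _ bot_le hle
  rw [relIndex_bot_left, relIndex_bot_left] at h1
  have h2 := h.card_normalizer
  have h3 := h.card_centralizer
  change Nat.card (centralizer (P : Set G)) *
    (centralizer (P : Set G)).relIndex (normalizer (P : Set G)) =
    Nat.card (normalizer (P : Set G)) at h1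
  rw [h2, h3] at h1
  have h4 : 0 < p * Nat.card K := Nat.mul_pos hp.out.pos Nat.card_pos
  apply Nat.eq_of_mul_eq_mul_left h4
  rw [h1]; ring

/-- A good involution of `K`. -/
theorem exists_involution (hcard : Nat.card G = 244823040) {e : ℕ} {P : Sylow 23 G}
    {K : Subgroup G} [Fact (Nat.Prime 23)] (h : IsLocal 23 P e K) (he : 11 ∣ e)
    (h2 : Nat.card K % 2 = 0) (h10 : Nat.card K % 1024 ≠ 0) (h11K : ¬ 11 ∣ Nat.card K) :
    ∃ s ∈ K, s * s = 1 ∧ s ≠ 1 ∧ ¬ (11 : ℤ) ∣ ((centralizer ({s} : Set G)).index : ℤ) := by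
  have : Fact (Nat.Prime 11) := ⟨by norm_num⟩
  have : Fact (Nat.Prime 2) := ⟨by norm_num⟩
  have h11 : 11 ∣ Nat.card (normalizer (P : Set G)) := by
    rw [h.card_normalizer]
    exact (he.mul_left _).mul_right _
  obtain ⟨⟨f, hf⟩, hof⟩ := exists_prime_orderOf_dvd_card' 11 h11
  have hof' : orderOf f = 11 := by rwa [← Subgroup.orderOf_coe] at hof
  obtain ⟨s, hs, hos, hcomm⟩ := exists_commuting (q := 11) (r := 2) K (h.normalizer_le hf) hof'
    h11K (Nat.dvd_of_mod_eq_zero h2) (by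
      intro j hj hjd hj11
      have hj10 : j < 10 := by
        by_contra hcon
        apply h10
        apply Nat.mod_eq_zero_of_dvd
        exact (pow_dvd_pow 2 (by omega : 10 ≤ j)).trans hjd
      interval_cases j <;> revert hj11 <;> decide)
  refine ⟨s, hs, ?_, ?_, ?_⟩
  · rw [← pow_two, ← hos]; exact pow_orderOf_eq_one s
  · rintro rfl
    rw [orderOf_one] at hos
    omega
  · intro hd
    have hd' : 11 ∣ (centralizer ({s} : Set G)).index := by exact_mod_cast hd
    have h2 : 11 ∣ Nat.card (centralizer ({s} : Set G)) := by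
      have h3 := orderOf_dvd_natCard (⟨f, mem_centralizer_singleton_iff.2 hcomm⟩ :
        centralizer ({s} : Set G))
      rwa [Subgroup.orderOf_mk, hof'] at h3
    have h3 := Nat.mul_dvd_mul h2 hd'
    rw [card_mul_index, hcard] at h3
    revert h3
    norm_num

/-- The local data: `e = 11`, `K = 1`. -/
theorem local_data (hcard : Nat.card G = 244823040) (P : Sylow 23 G) :
    ∃ K : Subgroup G, IsLocal 23 P 11 K ∧ Nat.card K = 1 := by
  have : Fact (Nat.Prime 23) := ⟨by norm_num⟩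
  obtain ⟨e, K, h⟩ := exists_local (not_comm hcard) (p := 23) (by rw [hcard]; norm_num)
    (by rw [hcard]; norm_num) P
  have hP := card_P hcard P
  have hrel := relIndex_of_local h
  have hn : Nat.card (Sylow 23 G) % 23 = 1 := card_sylow_modEq_one 23 G
  have hn1 : Nat.card (Sylow 23 G) ≠ 1 := by
    have := Embed.five_le_card_sylow (not_comm hcard) (p := 23) (by rw [hcard]; norm_num)
    omega
  have hG := h.card_eq
  rw [hcard] at hG
  have he : e = 2 ∨ e = 11 ∨ e = 22 := by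
    have h1 := h.one_lt
    have h2 := h.dvd_pred
    have h3 : e ≤ 22 := Nat.le_of_dvd (by norm_num) h2
    interval_cases e <;> simp_all
  have hk1 : Nat.card K = 1 → K = ⊥ := fun h => Subgroup.eq_bot_of_card_eq K h
  have hbot : K = ⊥ → Nat.card K = 1 := by rintro rfl; simp
  rcases he with rfl | rfl | rfl
  · exfalso
    by_cases hKb : K = ⊥
    · rw [hbot hKb] at hG
      omega
    · exact two_false hcard hP hrel h.le_centralizer h.not_dvd hKb
  · have h1 : Nat.card (Sylow 23 G) * Nat.card K = 967680 := by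
      have : 253 * (Nat.card (Sylow 23 G) * Nat.card K) = 253 * 967680 := by
        rw [show 253 * 967680 = 244823040 by norm_num, hG]; ring
      exact Nat.eq_of_mul_eq_mul_left (by norm_num) this
    rcases arith11 h1 hn hn1 with h2 | ⟨h2, h3, h4⟩
    · exact ⟨K, h, h2⟩
    · exfalso
      have hKne : K ≠ ⊥ := by
        intro h5
        rw [hbot h5] at h2
        omega
      have h11K : ¬ 11 ∣ Nat.card K := by
        intro h5
        have h6 := h5.mul_left (Nat.card (Sylow 23 G))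
        rw [h1] at h6
        revert h6; norm_num
      refine no_bad hcard hP hrel (Or.inl rfl) h.le_centralizer h.not_dvd hKne (Or.inl ⟨?_, ?_⟩)
      · exact exists_involution hcard h (dvd_refl _) h2 h3 h11K
      · exact h4.imp Nat.dvd_of_mod_eq_zero Nat.dvd_of_mod_eq_zero
  · exfalso
    have h1 : Nat.card (Sylow 23 G) * Nat.card K = 483840 := by
      have : 506 * (Nat.card (Sylow 23 G) * Nat.card K) = 506 * 483840 := by
        rw [show 506 * 483840 = 244823040 by norm_num, hG]; ring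
      exact Nat.eq_of_mul_eq_mul_left (by norm_num) this
    have h2 := arith22 h1 hn
    have hKne : K ≠ ⊥ := by
      intro h5
      rw [hbot h5] at h2
      omega
    have h11K : ¬ 11 ∣ Nat.card K := by
      intro h5
      have h6 := h5.mul_left (Nat.card (Sylow 23 G))
      rw [h1] at h6
      revert h6; norm_num
    refine no_bad hcard hP hrel (Or.inr rfl) h.le_centralizer h.not_dvd hKne ?_
    rcases h2 with h2 | ⟨h2, h3, h4⟩
    · right
      rw [h2]
      norm_num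
    · left
      exact ⟨exists_involution hcard h (by norm_num) h2 h3 h11K,
        h4.imp Nat.dvd_of_mod_eq_zero Nat.dvd_of_mod_eq_zero⟩

/-- The Sylow `23`-subgroups are self-centralising. -/
theorem centralizer_eq (hcard : Nat.card G = 244823040) (P : Sylow 23 G) :
    centralizer (P : Set G) = (P : Subgroup G) := by
  obtain ⟨K, h, hK⟩ := local_data hcard P
  have h1 := h.card_centralizer
  rw [hK] at h1
  have h2 : (P : Subgroup G) ≤ centralizer (P : Set G) := by
    intro x hx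
    rw [mem_centralizer_iff]
    intro y hy
    exact comm_of_card_prime (by norm_num) (P : Subgroup G) (card_P hcard P) y hy x hx
  refine (Subgroup.eq_of_le_of_card_ge h2 ?_).symm
  rw [h1]
  exact (card_P hcard P).symm.le

theorem relIndex_eq (hcard : Nat.card G = 244823040) (P : Sylow 23 G) :
    (centralizer (P : Set G)).relIndex (normalizer (P : Set G)) = 11 := by
  have : Fact (Nat.Prime 23) := ⟨by norm_num⟩
  obtain ⟨K, h, hK⟩ := local_data hcard P
  exact relIndex_of_local h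

theorem card_normalizer (hcard : Nat.card G = 244823040) (P : Sylow 23 G) :
    Nat.card (normalizer (P : Set G)) = 253 := by
  obtain ⟨K, h, hK⟩ := local_data hcard P
  have h1 := h.card_normalizer
  rw [hK] at h1
  exact h1

end Cfsg.Agent.SporadicA.M24.Sylow23
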