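import Cfsg.Agent.M23Order.Base
import Cfsg.Agent.SmallSimple.PrimeDual
import Cfsg.Agent.SmallSimple.FlatBlock
import Cfsg.Agent.SmallSimple.DegreeData
import Cfsg.Agent.SmallSimple.BurnsideNC
import Cfsg.Agent.SmallSimple.Simple168Max
import Cfsg.Agent.SmallSimple.BlockShared
import Cfsg.Agent.SmallSimple.DegreeSearch
set_option linter.all false

-- part: SporadicA/M24/Setup
section
/-!
# Degrees of a simple group of order 244823040 with self-centralizing Sylow 11- and 23-subgroups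
-/

set_option autoImplicit false
set_option linter.unusedSectionVars false

open Cfsg Subgroup
open Cfsg.Agent.Characters.Core
open Cfsg.Agent.SmallSimple
open Cfsg.Agent.M23Order.Base
open scoped ComplexConjugate

namespace Cfsg.Agent.SporadicA.M24.Setup

universe u

/-- The hypotheses of the character-theoretic step. -/
structure Hyp (G : Type u) [Group G] [Finite G] where
  hcard : Nat.card G = 244823040
  hcomm : commutator G = ⊤
  /-- a Sylow 23-subgroup -/
  P : Sylow 23 G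
  hP : Nat.card P = 23
  hCP : centralizer (P : Set G) = (P : Subgroup G)
  heP : (centralizer (P : Set G)).relIndex (normalizer (P : Set G)) = 11
  /-- a Sylow 11-subgroup -/
  Q : Sylow 11 G
  hQ : Nat.card Q = 11
  hCQ : centralizer (Q : Set G) = (Q : Subgroup G)
  heQ : (centralizer (Q : Set G)).relIndex (normalizer (Q : Set G)) = 10
  /-- Brauer's theorem for 23 -/
  D : SC 23 11 2 P
  /-- Brauer's theorem for 11 -/
  E : SC 11 10 1 Q

/-- the possible degrees -/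
def A : List ℕ := [1, 11, 12, 22, 23, 45, 230, 231, 252, 253, 264, 276, 483, 495, 506, 528, 540, 736, 759,
  770, 990, 1012, 1024, 1035, 1242, 1265, 1288, 1518, 1540, 1760, 1771, 2024, 2277, 2530,
  2760, 2772, 3024, 3036, 3312, 3520, 3542, 3795, 3840, 4048, 4554, 4830, 5060, 5313, 5544,
  5796, 6072, 6336, 6831, 7084, 7360, 7590, 8096, 8832, 8855, 9108, 9856, 10120, 10395,
  10626, 11385, 11880, 12144, 12420, 12672, 12880, 13662, 14168, 15180, 15456]

theorem arith_A : ∀ d < 15647, d ∣ 244823040 →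
    (d % 23 = 0 ∨ d % 23 = 1 ∨ d % 23 = 22 ∨ d % 23 = 11 ∨ d % 23 = 12) →
    (d % 11 = 0 ∨ d % 11 = 1 ∨ d % 11 = 10) → d ∈ A := by
  have key : (List.range 15647).all (fun d => !(244823040 % d == 0) ||
      !(d % 23 == 0 || d % 23 == 1 || d % 23 == 22 || d % 23 == 11 || d % 23 == 12) ||
      !(d % 11 == 0 || d % 11 == 1 || d % 11 == 10) ||
      A.contains d) = true := by decide +kernel
  intro d hd h1 h2 h3
  have h4 := List.all_eq_true.1 key d (List.mem_range.2 hd)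
  simp only [Bool.or_eq_true, Bool.not_eq_true', beq_eq_false_iff_ne, Bool.or_eq_false_iff,
    List.contains_iff_mem] at h4
  have h5 : 244823040 % d = 0 := Nat.mod_eq_zero_of_dvd h1
  rcases h4 with ((h4 | h4) | h4) | h4
  · exact absurd h5 h4
  · omega
  · omega
  · exact h4

variable {G : Type u} [Group G] [Finite G] [IsSimpleGroup G] (H : Hyp G)

include H

theorem mod_NE {p e t : ℕ} {P : Sylow p G} (D : SC p e t P) {χ : IrrCharacter G} (hχ : χ ∈ D.NE) :
    (D.ε χ = 1 ∧ (p : ℤ) ∣ dg χ - 1) ∨ (D.ε χ = -1 ∧ (p : ℤ) ∣ dg χ + 1) := by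
  rcases D.ε_mem χ hχ with h | h
  · left; refine ⟨h, ?_⟩; have := D.mod_NE χ hχ; rwa [h] at this
  · right; refine ⟨h, ?_⟩; have := D.mod_NE χ hχ; rwa [h, sub_neg_eq_add] at this

/-- congruences modulo 23 -/
theorem mod23_NE {χ : IrrCharacter G} (hχ : χ ∈ H.D.NE) :
    (H.D.ε χ = 1 ∧ dg χ % 23 = 1) ∨ (H.D.ε χ = -1 ∧ dg χ % 23 = 22) := by
  rcases mod_NE H H.D hχ with ⟨h1, h2⟩ | ⟨h1, h2⟩
  · left; exact ⟨h1, by omega⟩
  · right; exact ⟨h1, by omega⟩

theorem mod23_X {χ : IrrCharacter G} (hχ : χ ∈ H.D.X) :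
    (H.D.d = 1 ∧ dg χ % 23 = 11) ∨ (H.D.d = -1 ∧ dg χ % 23 = 12) := by
  rw [H.D.deg_X χ hχ]
  have h := H.D.mod_X
  rcases H.D.d_mem with h1 | h1
  · left; rw [h1] at h; exact ⟨h1, by omega⟩
  · right; rw [h1] at h; exact ⟨h1, by omega⟩

theorem mod23_out {χ : IrrCharacter G} (hχ : χ ∉ H.D.NE) (hχ' : χ ∉ H.D.X) : dg χ % 23 = 0 := by
  have := H.D.mod_out χ hχ hχ'
  omega

theorem mod11_NE {χ : IrrCharacter G} (hχ : χ ∈ H.E.NE) :
    (H.E.ε χ = 1 ∧ dg χ % 11 = 1) ∨ (H.E.ε χ = -1 ∧ dg χ % 11 = 10) := by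
  rcases mod_NE H H.E hχ with ⟨h1, h2⟩ | ⟨h1, h2⟩
  · left; exact ⟨h1, by omega⟩
  · right; exact ⟨h1, by omega⟩

theorem mod11_X {χ : IrrCharacter G} (hχ : χ ∈ H.E.X) :
    (H.E.d = 1 ∧ dg χ % 11 = 10) ∨ (H.E.d = -1 ∧ dg χ % 11 = 1) := by
  rw [H.E.deg_X χ hχ]
  have h := H.E.mod_X
  rcases H.E.d_mem with h1 | h1
  · left; rw [h1] at h; exact ⟨h1, by omega⟩
  · right; rw [h1] at h; exact ⟨h1, by omega⟩

theorem mod11_out {χ : IrrCharacter G} (hχ : χ ∉ H.E.NE) (hχ' : χ ∉ H.E.X) : dg χ % 11 = 0 := by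
  have := H.E.mod_out χ hχ hχ'
  omega

theorem dg_lt (χ : IrrCharacter G) : dg χ < 15647 := by
  have h := sum_dg_sq_le ({χ} : Finset (IrrCharacter G))
  rw [Finset.sum_singleton, H.hcard] at h
  by_contra h1
  push Not at h1
  have : 15647 ^ 2 ≤ dg χ ^ 2 := Nat.pow_le_pow_left h1 2
  omega

theorem dg_mem_A (χ : IrrCharacter G) : dg χ ∈ A := by
  refine arith_A _ (dg_lt H χ) (by rw [← H.hcard]; exact dg_dvd χ) ?_ ?_
  · by_cases h1 : χ ∈ H.D.NE
    · rcases mod23_NE H h1 with h | h <;> omega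
    · by_cases h2 : χ ∈ H.D.X
      · rcases mod23_X H h2 with h | h <;> omega
      · left; exact mod23_out H h1 h2
  · by_cases h1 : χ ∈ H.E.NE
    · rcases mod11_NE H h1 with h | h <;> omega
    · by_cases h2 : χ ∈ H.E.X
      · rcases mod11_X H h2 with h | h <;> omega
      · left; exact mod11_out H h1 h2

/-- characters whose degree is exceptional modulo 23 -/
theorem mem_X23 {χ : IrrCharacter G} (h : dg χ % 23 = 11 ∨ dg χ % 23 = 12) : χ ∈ H.D.X := by
  by_contra h2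
  by_cases h1 : χ ∈ H.D.NE
  · rcases mod23_NE H h1 with h | h <;> omega
  · have := mod23_out H h1 h2; omega

theorem mem_NE23 {χ : IrrCharacter G} (h : dg χ % 23 = 1 ∨ dg χ % 23 = 22) : χ ∈ H.D.NE := by
  by_contra h1
  by_cases h2 : χ ∈ H.D.X
  · rcases mod23_X H h2 with h | h <;> omega
  · have := mod23_out H h1 h2; omega

/-- Two characters whose degrees are exceptional modulo 23 have the same degree. -/
theorem compat23 {χ ψ : IrrCharacter G} (h : dg χ % 23 = 11 ∨ dg χ % 23 = 12)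
    (h' : dg ψ % 23 = 11 ∨ dg ψ % 23 = 12) : dg χ = dg ψ :=
  (H.D.deg_X χ (mem_X23 H h)).trans (H.D.deg_X ψ (mem_X23 H h')).symm

theorem eq_one_of_dg {χ : IrrCharacter G} (h : dg χ = 1) : χ = H.D.one := by
  apply Subtype.ext
  rw [H.D.coe_one]
  exact coe_eq_one_of_dg H.hcomm h

theorem one_eq_one : H.E.one = H.D.one := by
  apply Subtype.ext
  rw [H.D.coe_one, H.E.coe_one]

theorem dg_one : dg H.D.one = 1 := dg_of_eq (by rw [H.D.coe_one]; simp)

open Classical in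
/-- `23 χ(1) - 21 ∑_{x ∈ P} χ(x)`. -/
noncomputable def kk (χ : IrrCharacter G) : ℤ :=
  if χ ∈ H.D.NE then 2 * dg χ - 462 * H.D.ε χ
  else if χ ∈ H.D.X then 2 * dg χ + 231 * H.D.d else 2 * dg χ

theorem kk_eq [Fintype (H.P : Subgroup G)] (χ : IrrCharacter G) :
    (23 : ℂ) * (χ : G → ℂ) 1 - 21 * ∑ x : (H.P : Subgroup G), (χ : G → ℂ) x = kk H χ := by
  unfold kk
  rw [dg_eq]
  split_ifs with h1 h2
  · rw [H.D.sum_NE H.hP h1]; push_cast; ring
  · rw [H.D.sum_X h2]; push_cast; ring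
  · rw [H.D.sum_out h1 h2]; push_cast; ring

theorem kk_one : kk H H.D.one = -460 := by
  unfold kk
  rw [if_pos H.D.one_mem, dg_one H, H.D.ε_one]
  norm_num

theorem kk_NE_pos {χ : IrrCharacter G} (h : χ ∈ H.D.NE) (h1 : H.D.ε χ = 1) :
    kk H χ = 2 * dg χ - 462 := by
  unfold kk; rw [if_pos h, h1]; ring

theorem kk_NE_neg {χ : IrrCharacter G} (h : χ ∈ H.D.NE) (h1 : H.D.ε χ = -1) :
    kk H χ = 2 * dg χ + 462 := by
  unfold kk; rw [if_pos h, h1]; ring

theorem kk_X {χ : IrrCharacter G} (h : χ ∈ H.D.X) :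
    kk H χ = 2 * dg χ + 231 * H.D.d := by
  unfold kk
  rw [if_neg (fun h' => Finset.disjoint_left.1 H.D.disj h' h), if_pos h]

theorem kk_out {χ : IrrCharacter G} (h : χ ∉ H.D.NE) (h1 : χ ∉ H.D.X) :
    kk H χ = 2 * dg χ := by
  unfold kk; rw [if_neg h, if_neg h1]

theorem arith_pos : ∀ d ∈ A, d % 23 = 1 → d ≠ 1 → 231 ≤ d := by decide

theorem arith_X : ∀ d ∈ A, d % 23 = 12 → d ≠ 12 → 495 ≤ d := by decide

/-- `kk` is nonnegative on the nontrivial irreducible characters, unless the exceptional degree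
is 12. -/
theorem kk_nonneg (h12 : H.D.f ≠ 12) {χ : IrrCharacter G} (hχ : χ ≠ H.D.one) : 0 ≤ kk H χ := by
  by_cases h1 : χ ∈ H.D.NE
  · rcases mod23_NE H h1 with ⟨h, h'⟩ | ⟨h, h'⟩
    · rw [kk_NE_pos H h1 h]
      have := arith_pos H _ (dg_mem_A H χ) h' (fun h2 => hχ (eq_one_of_dg H h2))
      omega
    · rw [kk_NE_neg H h1 h]; omega
  · by_cases h2 : χ ∈ H.D.X
    · rw [kk_X H h2]
      rcases mod23_X H h2 with ⟨h, h'⟩ | ⟨h, h'⟩
      · rw [h]; omega
      · have := arith_X H _ (dg_mem_A H χ) h' (by rw [H.D.deg_X χ h2]; exact h12)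
        rw [h]; omega
    · rw [kk_out H h1 h2]; omega

omit H in
/-- A character as a combination of irreducible characters. -/
theorem exists_coeff [Fintype G] [Fintype (IrrCharacter G)] {φ : G → ℂ} (hφ : IsCharacter G φ) :
    ∃ c : IrrCharacter G → ℕ, (∀ g, φ g = ∑ χ : IrrCharacter G, (c χ : ℂ) * (χ : G → ℂ) g) ∧
      ∀ χ : IrrCharacter G, classInner φ (χ : G → ℂ) = c χ := by
  obtain ⟨m, hm⟩ := exists_nat_comb hφ
  refine ⟨m, fun g => ?_, fun χ => ?_⟩
  · rw [hm, Finset.sum_apply]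
    exact Finset.sum_congr rfl fun χ _ => by rw [Pi.smul_apply, nsmul_eq_mul]
  · rw [hm, classInner_sum_nsmul_irr]

/-- The functional on a character. -/
theorem sum_kk [Fintype (IrrCharacter G)] [Fintype (H.P : Subgroup G)] {φ : G → ℂ}
    {c : IrrCharacter G → ℕ} (hc : ∀ g, φ g = ∑ χ : IrrCharacter G, (c χ : ℂ) * (χ : G → ℂ) g)
    {z : ℤ} (hz : (23 : ℂ) * φ 1 - 21 * ∑ x : (H.P : Subgroup G), φ x = z) :
    ∑ χ : IrrCharacter G, (c χ : ℤ) * kk H χ = z := by
  have h1 : ((∑ χ : IrrCharacter G, (c χ : ℤ) * kk H χ : ℤ) : ℂ) = z := by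
    have h2 : ∑ x : (H.P : Subgroup G), φ x =
        ∑ x : (H.P : Subgroup G), ∑ χ : IrrCharacter G, (c χ : ℂ) * (χ : G → ℂ) x :=
      Finset.sum_congr rfl fun x _ => hc (x : G)
    rw [← hz, hc 1, h2, Finset.sum_comm, Finset.mul_sum, Finset.mul_sum,
      ← Finset.sum_sub_distrib]
    push_cast
    refine Finset.sum_congr rfl fun χ _ => ?_
    rw [← kk_eq, ← Finset.mul_sum]
    ring
  exact_mod_cast h1

/-- There is no irreducible character of degree 11. -/
theorem dg_ne_eleven (χ : IrrCharacter G) : dg χ ≠ 11 := by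
  classical
  intro hχ
  have := finite_irr (G := G)
  have := Fintype.ofFinite (IrrCharacter G)
  have := Fintype.ofFinite G
  have := Fintype.ofFinite (H.P : Subgroup G)
  have hX : χ ∈ H.D.X := mem_X23 H (Or.inl (by rw [hχ]))
  have hf : H.D.f = 11 := by rw [← H.D.deg_X χ hX, hχ]
  have hd : H.D.d = 1 := by
    rcases mod23_X H hX with h | h
    · exact h.1
    · rw [hχ] at h; omega
  have hχ1 : χ ≠ H.D.one := by
    rintro rfl
    rw [dg_one H] at hχ; omega
  obtain ⟨c, hc, hc'⟩ := exists_coeff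
    (isCharacter_mul (isIrr_isCharacter χ.2) (isCharacter_conj (isIrr_isCharacter χ.2)))
  -- the restriction to `P`
  have hval : ∀ x : (H.P : Subgroup G), (χ : G → ℂ) x = ∑ l ∈ H.D.S χ, ((l x : ℂˣ) : ℂ) := by
    intro x
    by_cases hx : x = 1
    · subst hx
      rw [OneMemClass.coe_one, dg_eq, hχ]
      simp only [map_one, Units.val_one, Finset.sum_const, nsmul_eq_mul, mul_one]
      rw [H.D.card_S χ hX]
    · have := H.D.val_X χ hX x hx
      rw [this, hd, Int.cast_one, one_mul]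
  have hsum : ∑ x : (H.P : Subgroup G), (χ : G → ℂ) x * conj ((χ : G → ℂ) x) = 253 := by
    calc ∑ x : (H.P : Subgroup G), (χ : G → ℂ) x * conj ((χ : G → ℂ) x)
        = ∑ x : (H.P : Subgroup G), ∑ l ∈ H.D.S χ, ∑ l' ∈ H.D.S χ,
            ((l x : ℂˣ) : ℂ) * conj ((l' x : ℂˣ) : ℂ) := by
          refine Finset.sum_congr rfl fun x _ => ?_
          rw [hval x, map_sum, Finset.sum_mul_sum]
      _ = ∑ l ∈ H.D.S χ, ∑ l' ∈ H.D.S χ, ∑ x : (H.P : Subgroup G),
            ((l x : ℂˣ) : ℂ) * conj ((l' x : ℂˣ) : ℂ) := by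
          rw [Finset.sum_comm]
          exact Finset.sum_congr rfl fun l _ => Finset.sum_comm
      _ = ∑ l ∈ H.D.S χ, (23 : ℂ) := by
          refine Finset.sum_congr rfl fun l hl => ?_
          have : ∀ l' ∈ H.D.S χ, ∑ x : (H.P : Subgroup G),
              ((l x : ℂˣ) : ℂ) * conj ((l' x : ℂˣ) : ℂ) = if l = l' then 23 else 0 := by
            intro l' _
            rw [PrimeDual.sum_hom_mul_conj l l']
            have hP' : Nat.card (H.P : Subgroup G) = 23 := H.hP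
            rw [hP']
            norm_num
          rw [Finset.sum_congr rfl this, Finset.sum_ite_eq, if_pos hl]
      _ = 253 := by
          rw [Finset.sum_const, H.D.card_S χ hX]; norm_num
  have hz : (23 : ℂ) * ((χ : G → ℂ) * fun g => conj ((χ : G → ℂ) g)) 1 -
      21 * ∑ x : (H.P : Subgroup G), ((χ : G → ℂ) * fun g => conj ((χ : G → ℂ) g)) x =
        ((-2530 : ℤ) : ℂ) := by
    simp only [Pi.mul_apply]
    rw [hsum, dg_eq, hχ, Complex.conj_natCast]
    norm_num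
  have hk := sum_kk H hc hz
  have h1 : c H.D.one = 1 := by
    have h2 := hc' H.D.one
    have h3 : classInner ((χ : G → ℂ) * fun g => conj ((χ : G → ℂ) g)) (H.D.one : G → ℂ) = 1 := by
      rw [← classInner_irr_self χ.2, classInner_def, classInner_def]
      congr 1
      refine Finset.sum_congr rfl fun g _ => ?_
      rw [H.D.coe_one, Pi.mul_apply, Pi.one_apply, map_one, mul_one]
    rw [h3] at h2
    exact_mod_cast h2.symm
  rw [← Finset.add_sum_erase _ _ (Finset.mem_univ H.D.one), kk_one, h1, Nat.cast_one,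
    one_mul] at hk
  have h4 : 0 ≤ ∑ ψ ∈ Finset.univ.erase H.D.one, (c ψ : ℤ) * kk H ψ := by
    refine Finset.sum_nonneg fun ψ hψ => mul_nonneg (Int.natCast_nonneg _) ?_
    exact kk_nonneg H (by rw [hf]; norm_num) (Finset.ne_of_mem_erase hψ)
  linarith

end Cfsg.Agent.SporadicA.M24.Setup
end

-- part: SporadicA/M24/Five
section
/-!
# The principal 5-block of a simple group of order 244823040
-/

set_option autoImplicit false
set_option linter.unusedSectionVars false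

open Cfsg Subgroup
open Cfsg.Agent.Characters.Core
open Cfsg.Agent.SmallSimple
open Cfsg.Agent.SmallSimple.FlatBlock
open Cfsg.Agent.M23Order.Base
open Cfsg.Agent.SporadicA.M24.Setup
open scoped ComplexConjugate

namespace Cfsg.Agent.SporadicA.M24.Five

universe u

/-- signed degrees `≡ 1` modulo 5 -/
def L5 : List ℤ := [-12144, -7084, -5544, -4554, -3024, -2024, -1024, -759, -264, 231, 276, 506,
  736, 1771, 3036, 5796, 6336, 6831, 8096, 9856, 10626, 15456]

theorem arith_L5 : ∀ d ∈ A, d ≠ 1 → d ≠ 11 → (d % 5 = 1 → (d : ℤ) ∈ L5) ∧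
    (d % 5 = 4 → (-(d : ℤ)) ∈ L5) := by
  decide

/-- exceptional modulo 23 -/
def ex (s : ℤ) : Bool := s.natAbs % 23 == 11 || s.natAbs % 23 == 12

/-- the compatibility condition for degrees exceptional modulo 23 -/
def cp (s t : ℤ) : Bool := !(ex s) || !(ex t) || s.natAbs == t.natAbs

/-- signed degrees of the nontrivial characters of the principal 5-block -/
def sols5 : List (List ℤ) := [[-7084, -5544, 5796, 6831], [-5544, -2024, 736, 6831],
  [-5544, -2024, 1771, 5796], [-5544, -759, 506, 5796], [-5544, 736, 1771, 3036],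
  [-1024, -1024, 276, 1771]]

theorem arith_five : ∀ s₁ ∈ L5, ∀ s₂ ∈ L5, s₁ ≤ s₂ → ∀ s₃ ∈ L5, s₂ ≤ s₃ →
    -(1 + s₁ + s₂ + s₃) ∈ L5 → s₃ ≤ -(1 + s₁ + s₂ + s₃) → cp s₁ s₂ = true → cp s₁ s₃ = true →
    cp s₁ (-(1 + s₁ + s₂ + s₃)) = true → cp s₂ s₃ = true →
    cp s₂ (-(1 + s₁ + s₂ + s₃)) = true → cp s₃ (-(1 + s₁ + s₂ + s₃)) = true →
    [s₁, s₂, s₃, -(1 + s₁ + s₂ + s₃)] ∈ sols5 := by
  decide +kernel

/-- signed degrees `≡ 1` modulo 5, `e = 2` -/
theorem arith_two : ∀ s ∈ L5, (1 + s).natAbs ∉ A := by decide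

/-- the orders of the complement -/
theorem arith_index {k : ℕ} {l : List ℤ} (hl : l ∈ sols5) (hk : k % 5 = 2)
    (h : ∀ s ∈ l, s.natAbs * (5 * k) ∣ 244823040) :
    (l = [-7084, -5544, 5796, 6831] ∧ (k = 2 ∨ k = 32)) ∨
    (l = [-5544, -2024, 736, 6831] ∧ (k = 2 ∨ k = 32)) ∨
    (l = [-5544, -2024, 1771, 5796] ∧ (k = 2 ∨ k = 12 ∨ k = 32 ∨ k = 192)) ∨
    (l = [-5544, -759, 506, 5796] ∧ (k = 2 ∨ k = 12 ∨ k = 32 ∨ k = 192)) ∨
    (l = [-5544, 736, 1771, 3036] ∧ (k = 2 ∨ k = 12 ∨ k = 32)) := by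
  have hdvd : ∀ m s : ℕ, 0 < s → 244823040 = 5 * s * m → s * (5 * k) ∣ 244823040 → k ∣ m := by
    intro m s hs hm h
    have h1 : 5 * s * k ∣ 5 * s * m := by
      rw [← hm, show 5 * s * k = s * (5 * k) by ring]; exact h
    exact Nat.dvd_of_mul_dvd_mul_left (by positivity) h1
  simp only [sols5, List.mem_cons, List.not_mem_nil, or_false] at hl
  rcases hl with rfl | rfl | rfl | rfl | rfl | rfl
  · left
    refine ⟨rfl, ?_⟩
    simp only [List.mem_cons, List.not_mem_nil, or_false, forall_eq_or_imp, forall_eq] at h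
    obtain ⟨h1, h2, h3, h4⟩ := h
    have e1 := hdvd 6912 7084 (by norm_num) (by norm_num) h1
    have e4 := hdvd 7168 6831 (by norm_num) (by norm_num) h4
    have e5 : k ∣ 256 := by simpa using Nat.dvd_gcd e1 e4
    have e2 := hdvd 8832 5544 (by norm_num) (by norm_num) h2
    have e6 : k ∣ 128 := by simpa using Nat.dvd_gcd e5 e2
    have e7 : k ∈ Nat.divisors 128 := Nat.mem_divisors.2 ⟨e6, by norm_num⟩
    have e8 : ∀ k ∈ Nat.divisors 128, k % 5 = 2 → k = 2 ∨ k = 32 := by decide +kernel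
    exact e8 k e7 hk
  · right; left
    refine ⟨rfl, ?_⟩
    simp only [List.mem_cons, List.not_mem_nil, or_false, forall_eq_or_imp, forall_eq] at h
    obtain ⟨h1, h2, h3, h4⟩ := h
    have e1 := hdvd 8832 5544 (by norm_num) (by norm_num) h1
    have e4 := hdvd 7168 6831 (by norm_num) (by norm_num) h4
    have e3 := hdvd 66528 736 (by norm_num) (by norm_num) h3
    have e5 : k ∣ 128 := by simpa using (Nat.dvd_gcd e1 e4).trans (by norm_num)
    have e6 : k ∣ 32 := by simpa using Nat.dvd_gcd e5 e3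
    have e7 : k ∈ Nat.divisors 32 := Nat.mem_divisors.2 ⟨e6, by norm_num⟩
    have e8 : ∀ k ∈ Nat.divisors 32, k % 5 = 2 → k = 2 ∨ k = 32 := by decide +kernel
    exact e8 k e7 hk
  · right; right; left
    refine ⟨rfl, ?_⟩
    simp only [List.mem_cons, List.not_mem_nil, or_false, forall_eq_or_imp, forall_eq] at h
    obtain ⟨h1, h2, h3, h4⟩ := h
    have e1 := hdvd 8832 5544 (by norm_num) (by norm_num) h1
    have e4 := hdvd 8448 5796 (by norm_num) (by norm_num) h4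
    have e5 : k ∣ 384 := by simpa using Nat.dvd_gcd e1 e4
    have e7 : k ∈ Nat.divisors 384 := Nat.mem_divisors.2 ⟨e5, by norm_num⟩
    have e8 : ∀ k ∈ Nat.divisors 384, k % 5 = 2 → k = 2 ∨ k = 12 ∨ k = 32 ∨ k = 192 := by
      decide +kernel
    exact e8 k e7 hk
  · right; right; right; left
    refine ⟨rfl, ?_⟩
    simp only [List.mem_cons, List.not_mem_nil, or_false, forall_eq_or_imp, forall_eq] at h
    obtain ⟨h1, h2, h3, h4⟩ := h
    have e1 := hdvd 8832 5544 (by norm_num) (by norm_num) h1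
    have e4 := hdvd 8448 5796 (by norm_num) (by norm_num) h4
    have e5 : k ∣ 384 := by simpa using Nat.dvd_gcd e1 e4
    have e7 : k ∈ Nat.divisors 384 := Nat.mem_divisors.2 ⟨e5, by norm_num⟩
    have e8 : ∀ k ∈ Nat.divisors 384, k % 5 = 2 → k = 2 ∨ k = 12 ∨ k = 32 ∨ k = 192 := by
      decide +kernel
    exact e8 k e7 hk
  · right; right; right; right
    refine ⟨rfl, ?_⟩
    simp only [List.mem_cons, List.not_mem_nil, or_false, forall_eq_or_imp, forall_eq] at h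
    obtain ⟨h1, h2, h3, h4⟩ := h
    have e1 := hdvd 8832 5544 (by norm_num) (by norm_num) h1
    have e2 := hdvd 66528 736 (by norm_num) (by norm_num) h2
    have e5 : k ∣ 96 := by simpa using Nat.dvd_gcd e1 e2
    have e7 : k ∈ Nat.divisors 96 := Nat.mem_divisors.2 ⟨e5, by norm_num⟩
    have e8 : ∀ k ∈ Nat.divisors 96, k % 5 = 2 → k = 2 ∨ k = 12 ∨ k = 32 := by decide +kernel
    exact e8 k e7 hk
  · exfalso
    simp only [List.mem_cons, List.not_mem_nil, or_false, forall_eq_or_imp, forall_eq] at h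
    obtain ⟨h1, h2, h3, h4⟩ := h
    have e1 := hdvd 47817 1024 (by norm_num) (by norm_num) h1
    have e3 := hdvd 177408 276 (by norm_num) (by norm_num) h3
    have e4 := hdvd 27648 1771 (by norm_num) (by norm_num) h4
    have e5 : k ∣ 693 := by simpa using Nat.dvd_gcd e1 e3
    have e6 : k ∣ 9 := by simpa using Nat.dvd_gcd e5 e4
    have e7 : k ∈ Nat.divisors 9 := Nat.mem_divisors.2 ⟨e6, by norm_num⟩
    have e8 : ∀ k ∈ Nat.divisors 9, k % 5 ≠ 2 := by decide +kernel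
    exact e8 k e7 hk

variable {G : Type u} [Group G] [Finite G] [IsSimpleGroup G] (H : Hyp G)

include H

theorem not_prime : ¬ (Nat.card G).Prime := by rw [H.hcard]; norm_num

theorem not_comm : ¬ IsMulCommutative G := by
  intro h
  obtain ⟨a, b, hab⟩ := M22.NonSelfCent.not_comm_of_not_prime (not_prime H)
  exact hab (h.is_comm.comm a b)

theorem tr_eq : tr G = H.D.one := by
  apply Subtype.ext
  rw [H.D.coe_one, coe_tr]

theorem cp_of {ε₁ ε₂ : ℤ} (h₁ : ε₁ = 1 ∨ ε₁ = -1) (h₂ : ε₂ = 1 ∨ ε₂ = -1) (χ ψ : IrrCharacter G) :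
    cp (ε₁ * (dg χ : ℤ)) (ε₂ * (dg ψ : ℤ)) = true := by
  have e1 : (ε₁ * (dg χ : ℤ)).natAbs = dg χ := by
    rcases h₁ with h | h <;> rw [h] <;> simp
  have e2 : (ε₂ * (dg ψ : ℤ)).natAbs = dg ψ := by
    rcases h₂ with h | h <;> rw [h] <;> simp
  unfold cp ex
  rw [e1, e2]
  by_cases h3 : dg χ % 23 = 11 ∨ dg χ % 23 = 12
  · by_cases h4 : dg ψ % 23 = 11 ∨ dg ψ % 23 = 12
    · have := compat23 H h3 h4
      rw [this]; simp
    · push Not at h4
      simp [h4.1, h4.2]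
  · push Not at h3
    simp [h3.1, h3.2]

/-- signed degrees in the principal 5-block, `e = 4` -/
theorem sd_mem {R : Sylow 5 G} (hR : Nat.card R = 5) {M : Ideal AlgInt}
    {B : Finset (IrrCharacter G)} {ε : IrrCharacter G → ℤ}
    (h5 : Fact (Nat.Prime 5)) (h : Flat 5 R M B ε) {χ : IrrCharacter G} (hχ : χ ∈ B)
    (hχ1 : χ ≠ tr G) : ε χ * (dg χ : ℤ) ∈ L5 := by
  have hA := arith_L5 _ (dg_mem_A H χ)
    (fun h => hχ1 ((eq_one_of_dg H h).trans (tr_eq H).symm)) (dg_ne_eleven H χ)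
  have h1 := h.modEq hR hχ
  rcases h.ε_mem χ hχ with h2 | h2
  · rw [h2, one_mul] at h1 ⊢
    exact hA.1 (by have := h1.dvd; omega)
  · rw [h2, neg_one_mul] at h1 ⊢
    exact hA.2 (by have := h1.dvd; omega)

/-- The case `e = 2` is impossible. -/
theorem e_ne_two {R : Sylow 5 G} (hR : Nat.card R = 5)
    (he : (centralizer (R : Set G)).relIndex (normalizer (R : Set G)) = 2) : False := by
  have h5 : Fact (Nat.Prime 5) := ⟨by norm_num⟩
  obtain ⟨M, hM⟩ := Blocks.ExistsModular.exists_isPModular (p := 5) (by norm_num)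
  obtain ⟨B⟩ := DegreeData.exists_blockData 5 (by norm_num) M hM R hR 2 2 he (by norm_num)
  have hone : B.one = H.D.one := by
    apply Subtype.ext
    rw [B.coe_one, H.D.coe_one]
  obtain ⟨χ, hl⟩ : ∃ χ, B.l = [χ] := List.length_eq_one_iff.1 (by have := B.length; omega)
  have h1 := B.dexc_eq (by norm_num)
  have hχ : χ ∈ B.l := by rw [hl]; simp
  have h2 : B.ε χ * (dg χ : ℤ) ∈ L5 := by
    have hχ1 : χ ≠ H.D.one := by
      rw [← hone]
      rintro rfl
      exact (List.nodup_cons.1 B.nodup).1 hχ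
    have hA := arith_L5 _ (dg_mem_A H χ) (fun h => hχ1 (eq_one_of_dg H h)) (dg_ne_eleven H χ)
    have h1 : B.ε χ * (dg χ : ℤ) ≡ 1 [ZMOD 5] := B.sd_modEq hR (List.mem_cons_of_mem _ hχ)
    rcases B.ε_mem χ (List.mem_cons_of_mem _ hχ) with h | h
    · rw [h, one_mul] at h1 ⊢
      exact hA.1 (by have := h1.dvd; omega)
    · rw [h, neg_one_mul] at h1 ⊢
      exact hA.2 (by have := h1.dvd; omega)
  obtain ⟨Θ, hΘ⟩ := B.exists_X (by norm_num)
  have h3 : B.degs.sum = B.ε χ * (dg χ : ℤ) := by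
    rw [DegreeData.BlockData.degs, hl]
    simp [DegreeData.BlockData.sd, dg]
  rw [h3] at h1
  apply arith_two _ h2
  rw [h1, B.natAbs_dexc, ← B.deg_X Θ hΘ]
  exact dg_mem_A H Θ

/-- The principal 5-block. -/
theorem exists_five (R : Sylow 5 G) : ∃ (K : Subgroup G) (M : Ideal AlgInt)
    (B : Finset (IrrCharacter G)) (ε : IrrCharacter G → ℤ) (l : List (IrrCharacter G)),
    FlatLoc 5 R K M B ε ∧ (tr G :: l).Nodup ∧ (∀ χ, χ ∈ B ↔ χ ∈ tr G :: l) ∧
    ((l.map (fun χ => ε χ * (dg χ : ℤ)) = [-7084, -5544, 5796, 6831] ∧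
        (Nat.card K = 2 ∨ Nat.card K = 32)) ∨
    (l.map (fun χ => ε χ * (dg χ : ℤ)) = [-5544, -2024, 736, 6831] ∧
        (Nat.card K = 2 ∨ Nat.card K = 32)) ∨
    (l.map (fun χ => ε χ * (dg χ : ℤ)) = [-5544, -2024, 1771, 5796] ∧
        (Nat.card K = 2 ∨ Nat.card K = 12 ∨ Nat.card K = 32 ∨ Nat.card K = 192)) ∨
    (l.map (fun χ => ε χ * (dg χ : ℤ)) = [-5544, -759, 506, 5796] ∧
        (Nat.card K = 2 ∨ Nat.card K = 12 ∨ Nat.card K = 32 ∨ Nat.card K = 192)) ∨
    (l.map (fun χ => ε χ * (dg χ : ℤ)) = [-5544, 736, 1771, 3036] ∧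
        (Nat.card K = 2 ∨ Nat.card K = 12 ∨ Nat.card K = 32))) := by
  classical
  have h5 : Fact (Nat.Prime 5) := ⟨by norm_num⟩
  have hR : Nat.card R = 5 := by
    refine Simple168Max.card_sylow_eq_prime R ?_ ?_ <;> rw [H.hcard] <;> norm_num
  obtain ⟨e, K, hK⟩ := PrimeLocal.exists_local (not_comm H) (p := 5)
    (by rw [H.hcard]; norm_num) (by rw [H.hcard]; norm_num) R
  have he : e = 4 := by
    have h1 : e ∣ 4 := hK.dvd_pred
    have h2 : e ≤ 4 := Nat.le_of_dvd (by norm_num) h1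
    have h3 := hK.one_lt
    have h4 := e_ne_two H hR
    rw [BlockIndex.relIndex_eq hK] at h4
    interval_cases e
    · exact absurd rfl h4
    · omega
    · rfl
  subst he
  obtain ⟨M, B, ε, hB⟩ := exists_flatLoc (not_prime H) 5 (by norm_num) R hR hK
  obtain ⟨l, hl1, hl2, hl3, hl4, hl5, -⟩ := hB.toFlat.exists_list
  refine ⟨K, M, B, ε, l, hB, hl1, hl2, ?_⟩
  have hmem : ∀ χ ∈ l, χ ∈ B := fun χ hχ => (hl2 χ).2 (List.mem_cons_of_mem _ hχ)
  have hne : ∀ χ ∈ l, χ ≠ tr G := by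
    rintro χ hχ rfl
    exact (List.nodup_cons.1 hl1).1 hχ
  have hmod : Nat.card K % 5 = 2 := by
    have h1 := local_modEq hK (m := 48964608) (by rw [H.hcard])
    have h2 : 4 * Nat.card K % 5 = 48964608 % 5 := h1
    omega
  have hdvd : ∀ s ∈ l.map (fun χ => ε χ * (dg χ : ℤ)), s.natAbs * (5 * Nat.card K) ∣ 244823040 := by
    intro s hs
    obtain ⟨χ, hχ, rfl⟩ := List.mem_map.1 hs
    rw [hB.toFlat.natAbs_sd (hmem χ hχ), ← H.hcard]
    exact hB.toFlat.mul_dvd_card hR hK.card_centralizer (hmem χ hχ)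
  refine arith_index ?_ hmod hdvd
  obtain ⟨x, y, z, w, rfl⟩ : ∃ x y z w, l = [x, y, z, w] := by
    match l, hl3 with
    | [x, y, z, w], _ => exact ⟨x, y, z, w, rfl⟩
  simp only [List.map_cons, List.map_nil, List.pairwise_cons, List.mem_cons, List.not_mem_nil,
    or_false, forall_eq_or_imp, forall_eq, IsEmpty.forall_iff, implies_true, List.Pairwise.nil,
    and_true, false_imp_iff, List.sum_cons, List.sum_nil, add_zero] at hl4 hl5 ⊢
  have hx := sd_mem H hR h5 hB.toFlat (hmem x (by simp)) (hne x (by simp))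
  have hy := sd_mem H hR h5 hB.toFlat (hmem y (by simp)) (hne y (by simp))
  have hz := sd_mem H hR h5 hB.toFlat (hmem z (by simp)) (hne z (by simp))
  have hw := sd_mem H hR h5 hB.toFlat (hmem w (by simp)) (hne w (by simp))
  have ex := hB.ε_mem x (hmem x (by simp))
  have ey := hB.ε_mem y (hmem y (by simp))
  have ez := hB.ε_mem z (hmem z (by simp))
  have ew := hB.ε_mem w (hmem w (by simp))
  have hw' : ε w * (dg w : ℤ) =
      -(1 + ε x * (dg x : ℤ) + ε y * (dg y : ℤ) + ε z * (dg z : ℤ)) := by linarith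
  have c1 := cp_of H ex ey x y
  have c2 := cp_of H ex ez x z
  have c3 := cp_of H ex ew x w
  have c4 := cp_of H ey ez y z
  have c5 := cp_of H ey ew y w
  have c6 := cp_of H ez ew z w
  rw [hw'] at hw c3 c5 c6 hl4 ⊢
  exact arith_five _ hx _ hy hl4.1.1 _ hz hl4.2.1.1 hw hl4.2.2 c1 c2 c3 c4 c5 c6

end Cfsg.Agent.SporadicA.M24.Five
end

-- part: SporadicA/M24/Seven
section
/-!
# The principal 5- and 7-blocks of a simple group of order 244823040

`exists_blocks` : the possibilities for the two principal blocks (with the orders of the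
complements of the centralizers).
-/

set_option autoImplicit false
set_option linter.unusedSectionVars false

open Cfsg Subgroup
open Cfsg.Agent.Characters.Core
open Cfsg.Agent.SmallSimple
open Cfsg.Agent.SmallSimple.FlatBlock Cfsg.Agent.SmallSimple.BlockShared
open Cfsg.Agent.SmallSimple.DegreeData
open Cfsg.Agent.M23Order.Base
open Cfsg.Agent.SporadicA.M24.Setup Cfsg.Agent.SporadicA.M24.Five
open scoped ComplexConjugate

namespace Cfsg.Agent.SporadicA.M24.Seven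

universe u

/-- signed degrees `≡ 1` modulo 7 -/
def L7 : List ℤ := [-12144, -6831, -5060, -3520, -1518, -1035, -230, 22, 253, 540, 736, 2024, 3312,
  3795, 6336, 9108, 11880]

/-- negatives of the signed degrees of exceptional characters, `e = 3` -/
def X7 : List ℤ := [-11385, -7360, -6072, -2530, -1760, -1242, -990, -759, -528, -276, -45, 1012,
  3840, 4554, 8096, 15180]

theorem arith_L7 : ∀ d ∈ A, d ≠ 1 → d ≠ 11 → (d % 7 = 1 → (d : ℤ) ∈ L7) ∧
    (d % 7 = 6 → (-(d : ℤ)) ∈ L7) ∧ (d % 7 = 3 → (-(d : ℤ)) ∈ X7) ∧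
    (d % 7 = 4 → (d : ℤ) ∈ X7) := by
  decide

/-- solutions of the degree relation for `e = 3` -/
def sols3 : List (List ℤ) := [[-3520, -1035, 4554], [-3520, 3795, -276], [-1035, 22, 1012],
  [-1035, 2024, -990], [22, 22, -45], [22, 253, -276], [22, 736, -759], [253, 736, -990]]

theorem arith_three : ∀ s₁ ∈ L7, ∀ s₂ ∈ L7, s₁ ≤ s₂ → -(1 + s₁ + s₂) ∈ X7 →
    cp s₁ s₂ = true → cp s₁ (-(1 + s₁ + s₂)) = true → cp s₂ (-(1 + s₁ + s₂)) = true →
    [s₁, s₂, -(1 + s₁ + s₂)] ∈ sols3 := by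
  decide +kernel

/-- the lists for the principal 5-block -/
def sols5' : List (List ℤ) := [[-7084, -5544, 5796, 6831], [-5544, -2024, 736, 6831],
  [-5544, -2024, 1771, 5796], [-5544, -759, 506, 5796], [-5544, 736, 1771, 3036]]

theorem arith_inter3 : ∀ l ∈ sols5', ∀ l' ∈ sols3, ∀ s ∈ l, -s ∈ l' →
    l' = [-1035, 2024, -990] ∧ s = -2024 ∧
    (l = [-5544, -2024, 736, 6831] ∨ l = [-5544, -2024, 1771, 5796]) := by
  decide +kernel

/-- signed degrees `≡ 1` modulo 7, `e = 2` -/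
theorem arith_two : ∀ s ∈ L7, (1 + s).natAbs ∈ A → s = 22 := by decide

theorem arith_no_two : ∀ l ∈ sols5', ∀ s ∈ l, s.natAbs ≠ 22 ∧ s.natAbs ≠ 23 := by decide

/-- solutions of the degree relation for `e = 6` -/
def sols6 : List (List ℤ) := [[-12144, -1518, -1035, 2024, 6336, 6336], [-12144, -1035, 22,
  2024, 2024, 9108], [-12144, 22, 253, 736, 2024, 9108], [-6831, -6831, -1035, 2024, 6336, 6336],
  [-6831, -6831, 22, 736, 3795, 9108], [-6831, -6831, 253, 736, 6336, 6336], [-6831, -5060, -1518,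
  736, 6336, 6336], [-6831, -5060, -1035, 22, 3795, 9108], [-6831, -5060, -1035, 253, 6336, 6336],
  [-6831, -5060, 22, 736, 2024, 9108], [-6831, -3520, -1518, -1035, 3795, 9108], [-6831, -3520,
  -1518, 736, 2024, 9108], [-6831, -3520, -1035, -1035, 3312, 9108], [-6831, -3520, -1035, 253,
  2024, 9108], [-6831, -3520, -1035, 3795, 3795, 3795], [-6831, -3520, -230, 736, 736, 9108],
  [-6831, -3520, 253, 253, 736, 9108], [-6831, -3520, 736, 2024, 3795, 3795], [-6831, -1518,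
  -1518, 22, 736, 9108], [-6831, -1518, -1035, 22, 253, 9108], [-6831, -1518, 22, 736, 3795,
  3795], [-6831, -1035, -1035, -230, 22, 9108], [-6831, -1035, 22, 253, 3795, 3795], [-6831,
  -1035, 22, 736, 3312, 3795], [-6831, -1035, 22, 2024, 2024, 3795], [-6831, 22, 253, 736, 2024,
  3795], [-6831, 22, 736, 736, 2024, 3312], [-6831, 22, 736, 2024, 2024, 2024], [-5060, -5060,
  -1035, 22, 2024, 9108], [-5060, -3520, -1518, -1035, 2024, 9108], [-5060, -3520, -1035, 2024,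
  3795, 3795], [-5060, -3520, 736, 2024, 2024, 3795], [-5060, -1518, 22, 736, 2024, 3795], [-5060,
  -1035, 22, 253, 2024, 3795], [-5060, -1035, 22, 736, 2024, 3312], [-5060, -1035, 22, 2024, 2024,
  2024], [-5060, 22, 253, 736, 2024, 2024], [-3520, -1518, -1518, 736, 2024, 3795], [-3520, -1518,
  -1035, 253, 2024, 3795], [-3520, -1518, -1035, 736, 2024, 3312], [-3520, -1518, -1035, 2024,
  2024, 2024], [-3520, -1518, 253, 736, 2024, 2024], [-3520, -1035, -1035, -230, 2024, 3795],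
  [-3520, -1035, -1035, 253, 2024, 3312], [-3520, -1035, -230, 736, 2024, 2024], [-3520, -1035,
  253, 253, 2024, 2024], [-3520, -230, 253, 736, 736, 2024], [-3520, 253, 253, 253, 736, 2024],
  [-1518, -1518, -1035, 22, 2024, 2024], [-1518, -1518, 22, 253, 736, 2024], [-1518, -1035, -230,
  22, 736, 2024], [-1518, -1035, 22, 253, 253, 2024], [-1035, -1035, -1035, 540, 540, 2024],
  [-1035, -1035, -230, 22, 253, 2024]]

/-- pairwise compatibility -/
def cpAll (l : List ℤ) : Bool := l.all fun s => l.all fun t => cp s t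

/-- the test for the kernel search -/
def test6 (l : List ℤ) : Bool :=
  !(cpAll l) || !(l.contains 2024 || l.contains (-6831)) || sols6.contains l

theorem search6 : DegreeSearch.check 10410 6 (DegreeSearch.aff 7 12144 0 fun _ => 0) test6 L7
    [(10409, 244823039)] = true := by
  decide +kernel

/-- the lists of signed degrees and the orders of the complement for `e = 6` -/
def pairs6 : List (List ℤ × ℕ) := [([-12144, -1518, -1035, 2024, 6336, 6336], 3), ([-12144,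
  -1518, -1035, 2024, 6336, 6336], 24), ([-12144, -1035, 22, 2024, 2024, 9108], 3), ([-12144,
  -1035, 22, 2024, 2024, 9108], 24), ([-12144, -1035, 22, 2024, 2024, 9108], 192), ([-12144, 22,
  253, 736, 2024, 9108], 3), ([-12144, 22, 253, 736, 2024, 9108], 24), ([-5060, -5060, -1035, 22,
  2024, 9108], 3), ([-5060, -5060, -1035, 22, 2024, 9108], 24), ([-5060, -5060, -1035, 22, 2024,
  9108], 192), ([-5060, -3520, -1518, -1035, 2024, 9108], 3), ([-5060, -3520, -1518, -1035, 2024,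
  9108], 24), ([-5060, -3520, -1035, 2024, 3795, 3795], 3), ([-5060, -3520, -1035, 2024, 3795,
  3795], 24), ([-5060, -3520, 736, 2024, 2024, 3795], 3), ([-5060, -3520, 736, 2024, 2024, 3795],
  24), ([-5060, -1518, 22, 736, 2024, 3795], 3), ([-5060, -1518, 22, 736, 2024, 3795], 24),
  ([-5060, -1035, 22, 253, 2024, 3795], 3), ([-5060, -1035, 22, 253, 2024, 3795], 24), ([-5060,
  -1035, 22, 253, 2024, 3795], 192), ([-5060, -1035, 22, 736, 2024, 3312], 3), ([-5060, -1035, 22,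
  736, 2024, 3312], 24), ([-5060, -1035, 22, 2024, 2024, 2024], 3), ([-5060, -1035, 22, 2024,
  2024, 2024], 24), ([-5060, -1035, 22, 2024, 2024, 2024], 192), ([-5060, 22, 253, 736, 2024,
  2024], 3), ([-5060, 22, 253, 736, 2024, 2024], 24), ([-5060, 22, 253, 736, 2024, 2024], 108),
  ([-5060, 22, 253, 736, 2024, 2024], 864), ([-3520, -1518, -1518, 736, 2024, 3795], 3), ([-3520,
  -1518, -1518, 736, 2024, 3795], 24), ([-3520, -1518, -1035, 253, 2024, 3795], 3), ([-3520,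
  -1518, -1035, 253, 2024, 3795], 24), ([-3520, -1518, -1035, 736, 2024, 3312], 3), ([-3520,
  -1518, -1035, 736, 2024, 3312], 24), ([-3520, -1518, -1035, 2024, 2024, 2024], 3), ([-3520,
  -1518, -1035, 2024, 2024, 2024], 24), ([-3520, -1518, 253, 736, 2024, 2024], 3), ([-3520, -1518,
  253, 736, 2024, 2024], 24), ([-3520, -1035, -1035, -230, 2024, 3795], 3), ([-3520, -1035, -1035,
  -230, 2024, 3795], 24), ([-3520, -1035, -1035, 253, 2024, 3312], 3), ([-3520, -1035, -1035, 253,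
  2024, 3312], 24), ([-3520, -1035, -230, 736, 2024, 2024], 3), ([-3520, -1035, -230, 736, 2024,
  2024], 24), ([-3520, -1035, 253, 253, 2024, 2024], 3), ([-3520, -1035, 253, 253, 2024, 2024],
  24), ([-3520, -230, 253, 736, 736, 2024], 3), ([-3520, -230, 253, 736, 736, 2024], 24), ([-3520,
  -230, 253, 736, 736, 2024], 108), ([-3520, 253, 253, 253, 736, 2024], 3), ([-3520, 253, 253,
  253, 736, 2024], 24), ([-3520, 253, 253, 253, 736, 2024], 108), ([-1518, -1518, -1035, 22, 2024,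
  2024], 3), ([-1518, -1518, -1035, 22, 2024, 2024], 24), ([-1518, -1518, -1035, 22, 2024, 2024],
  192), ([-1518, -1518, 22, 253, 736, 2024], 3), ([-1518, -1518, 22, 253, 736, 2024], 24),
  ([-1518, -1035, -230, 22, 736, 2024], 3), ([-1518, -1035, -230, 22, 736, 2024], 24), ([-1518,
  -1035, 22, 253, 253, 2024], 3), ([-1518, -1035, 22, 253, 253, 2024], 24), ([-1518, -1035, 22,
  253, 253, 2024], 192), ([-1035, -1035, -230, 22, 253, 2024], 3), ([-1035, -1035, -230, 22, 253,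
  2024], 24), ([-1035, -1035, -230, 22, 253, 2024], 192)]

theorem arith_inter6 : ∀ l ∈ sols5', ∀ s ∈ l, -s ∈ L7 → s.natAbs = 2024 ∨ s.natAbs = 6831 := by
  decide

/-- the orders of the complement -/
theorem arith_index6 {k : ℕ} {l : List ℤ} (hl : l ∈ sols6) (hk : k % 7 = 3) (h5 : k % 5 ≠ 0)
    (h : ∀ s ∈ l, s.natAbs * (7 * k) ∣ 244823040) : (l, k) ∈ pairs6 := by
  have hdvd : ∀ m s : ℕ, 0 < s → 244823040 = 7 * s * m → s * (7 * k) ∣ 244823040 → k ∣ m := by
    intro m s hs hm h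
    have h1 : 7 * s * k ∣ 7 * s * m := by
      rw [← hm, show 7 * s * k = s * (7 * k) by ring]; exact h
    exact Nat.dvd_of_mul_dvd_mul_left (by positivity) h1
  have hkey : ∀ l ∈ sols6, (2024 : ℤ) ∈ l ∨ (-6831 : ℤ) ∈ l := by decide +kernel
  have hk' : k ∈ [3, 24, 108, 192, 864] := by
    rcases hkey l hl with h1 | h1
    · have h2 := hdvd 17280 2024 (by norm_num) (by norm_num) (h _ h1)
      have h3 : k ∈ Nat.divisors 17280 := Nat.mem_divisors.2 ⟨h2, by norm_num⟩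
      have h4 : ∀ k ∈ Nat.divisors 17280, k % 7 = 3 → k % 5 ≠ 0 → k ∈ [3, 24, 108, 192, 864] := by
        decide +kernel
      exact h4 k h3 hk h5
    · have h2 := hdvd 5120 6831 (by norm_num) (by norm_num) (h _ h1)
      have h3 : k ∈ Nat.divisors 5120 := Nat.mem_divisors.2 ⟨h2, by norm_num⟩
      have h4 : ∀ k ∈ Nat.divisors 5120, k % 7 = 3 → k % 5 ≠ 0 → k ∈ [3, 24, 108, 192, 864] := by
        decide +kernel
      exact h4 k h3 hk h5
  have h1 : ∀ l ∈ sols6, ∀ k ∈ [3, 24, 108, 192, 864],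
      (l.all fun s => 244823040 % (s.natAbs * (7 * k)) == 0) = true → (l, k) ∈ pairs6 := by
    decide +kernel
  refine h1 l hl k hk' ?_
  rw [List.all_eq_true]
  intro s hs
  simpa using Nat.mod_eq_zero_of_dvd (h s hs)

theorem pairs6_spec : ∀ x ∈ pairs6, (2024 : ℤ) ∈ x.1 ∧ (-6831 : ℤ) ∉ x.1 := by decide +kernel

theorem arith_inter6' : ∀ x ∈ pairs6, ∀ l ∈ sols5', ∀ s ∈ l, -s ∈ x.1 →
    s = -2024 ∧ (l = [-5544, -2024, 736, 6831] ∨ l = [-5544, -2024, 1771, 5796]) := by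
  decide +kernel

/-- The principal 5-block: `{1, a, b, c, d}`, `a(1) = 5544`, `b(1) = 2024`. -/
structure B5 {G : Type u} [Group G] [Finite G] (R : Sylow 5 G) (K : Subgroup G) (M : Ideal AlgInt)
    (B : Finset (IrrCharacter G)) (ε : IrrCharacter G → ℤ) (a b c d : IrrCharacter G) : Prop where
  loc : FlatLoc 5 R K M B ε
  nodup : [tr G, a, b, c, d].Nodup
  mem : ∀ χ, χ ∈ B ↔ χ ∈ [tr G, a, b, c, d]
  dg_a : dg a = 5544
  ε_a : ε a = -1
  dg_b : dg b = 2024
  ε_b : ε b = -1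
  ε_c : ε c = 1
  ε_d : ε d = 1
  dg_cd : (dg c = 736 ∧ dg d = 6831 ∧ (Nat.card K = 2 ∨ Nat.card K = 32)) ∨
    (dg c = 1771 ∧ dg d = 5796 ∧
      (Nat.card K = 2 ∨ Nat.card K = 12 ∨ Nat.card K = 32 ∨ Nat.card K = 192))

/-- The principal 7-block, `e = 3`: `{1, a, b; Θ, Θ'}`, `a(1) = 1035`, `b(1) = 2024`,
`Θ(1) = 990`. -/
structure B7three {G : Type u} [Group G] [Finite G] (S : Sylow 7 G) (K : Subgroup G)
    (M : Ideal AlgInt) (D : BlockData 7 M S 3 2) (a b : IrrCharacter G) : Prop where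
  modular : IsPModular 7 M
  loc : PrimeLocal.IsLocal 7 S 3 K
  l_eq : D.l = [a, b]
  dg_a : dg a = 1035
  ε_a : D.ε a = -1
  dg_b : dg b = 2024
  ε_b : D.ε b = 1
  d_eq : D.d = 1
  f_eq : D.f = 990
  card_K : Nat.card K = 6 ∨ Nat.card K = 48 ∨ Nat.card K = 384

/-- The principal 7-block, `e = 6`; `b(1) = 2024`. -/
structure B7six {G : Type u} [Group G] [Finite G] (S : Sylow 7 G) (K : Subgroup G)
    (M : Ideal AlgInt) (B : Finset (IrrCharacter G)) (ε : IrrCharacter G → ℤ)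
    (l : List (IrrCharacter G)) (b : IrrCharacter G) : Prop where
  loc : FlatLoc 7 S K M B ε
  nodup : (tr G :: l).Nodup
  mem : ∀ χ, χ ∈ B ↔ χ ∈ tr G :: l
  mem_pairs : (l.map fun χ => ε χ * (dg χ : ℤ), Nat.card K) ∈ pairs6
  b_mem : b ∈ l
  ε_b : ε b = 1

variable {G : Type u} [Group G] [Finite G] [IsSimpleGroup G] (H : Hyp G)

include H

theorem card_seven (S : Sylow 7 G) : Nat.card S = 7 := by
  have h7 : Fact (Nat.Prime 7) := ⟨by norm_num⟩
  refine Simple168Max.card_sylow_eq_prime S ?_ ?_ <;> rw [H.hcard] <;> norm_num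

theorem card_five (S : Sylow 5 G) : Nat.card S = 5 := by
  have h7 : Fact (Nat.Prime 5) := ⟨by norm_num⟩
  refine Simple168Max.card_sylow_eq_prime S ?_ ?_ <;> rw [H.hcard] <;> norm_num

/-- `exists_five` with the two lists only. -/
theorem exists_five' (R : Sylow 5 G) : ∃ (K : Subgroup G) (M : Ideal AlgInt)
    (B : Finset (IrrCharacter G)) (ε : IrrCharacter G → ℤ) (l : List (IrrCharacter G)),
    FlatLoc 5 R K M B ε ∧ (tr G :: l).Nodup ∧ (∀ χ, χ ∈ B ↔ χ ∈ tr G :: l) ∧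
    l.map (fun χ => ε χ * (dg χ : ℤ)) ∈ sols5' ∧
    (Nat.card K = 2 ∨ Nat.card K = 12 ∨ Nat.card K = 32 ∨ Nat.card K = 192) ∧
    (l.map (fun χ => ε χ * (dg χ : ℤ)) = [-5544, -2024, 736, 6831] →
      Nat.card K = 2 ∨ Nat.card K = 32) := by
  obtain ⟨K, M, B, ε, l, h1, h2, h3, h4⟩ := exists_five H R
  refine ⟨K, M, B, ε, l, h1, h2, h3, ?_, ?_, ?_⟩
  · rcases h4 with h | h | h | h | h <;> rw [h.1] <;> simp [sols5']
  · rcases h4 with h | h | h | h | h <;> have h' := h.2 <;> omega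
  · intro h5
    rw [h5] at h4
    rcases h4 with h | h | h | h | h
    · simp at h
    · exact h.2
    · simp at h
    · simp at h
    · simp at h

theorem no_thirtyfive {R : Sylow 5 G} {K : Subgroup G}
    (hK : PrimeLocal.IsLocal 5 R 4 K)
    (h : Nat.card K = 2 ∨ Nat.card K = 12 ∨ Nat.card K = 32 ∨ Nat.card K = 192) (g : G) :
    orderOf g ≠ 5 * 7 := by
  have h5 : Fact (Nat.Prime 5) := ⟨by norm_num⟩
  intro hg
  have h1 := dvd_card_of_orderOf (card_five H R) hK (q := 7) (by norm_num) hg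
  rcases h with h | h | h | h <;> rw [h] at h1 <;> omega

/-- signed degree of a nonexceptional character of the 7-block -/
theorem sd_mem {ε : ℤ} (hε : ε = 1 ∨ ε = -1) {χ : IrrCharacter G} (hχ1 : χ ≠ tr G)
    (h1 : ε * (dg χ : ℤ) ≡ 1 [ZMOD 7]) : ε * (dg χ : ℤ) ∈ L7 := by
  have hA := arith_L7 _ (dg_mem_A H χ)
    (fun h => hχ1 ((eq_one_of_dg H h).trans (tr_eq H).symm)) (dg_ne_eleven H χ)
  rcases hε with h2 | h2
  · rw [h2, one_mul] at h1 ⊢
    exact hA.1 (by have := h1.dvd; omega)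
  · rw [h2, neg_one_mul] at h1 ⊢
    exact hA.2.1 (by have := h1.dvd; omega)

theorem dexc_mem {M : Ideal AlgInt} {S : Sylow 7 G} (D : BlockData 7 M S 3 2) :
    -D.dexc ∈ X7 := by
  have h7 : Fact (Nat.Prime 7) := ⟨by norm_num⟩
  obtain ⟨Θ, hΘ⟩ := D.exists_X (by norm_num)
  have hΘ1 : Θ ≠ tr G := by
    rw [← one_eq D]
    rintro rfl
    exact D.notMem_X _ List.mem_cons_self hΘ
  have hA := arith_L7 _ (dg_mem_A H Θ)
    (fun h => hΘ1 ((eq_one_of_dg H h).trans (tr_eq H).symm)) (dg_ne_eleven H Θ)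
  have h4 : D.dexc ≡ 3 [ZMOD 7] := D.dexc_modEq (card_seven H S) (by norm_num)
  rw [DegreeData.BlockData.dexc, ← D.deg_X Θ hΘ] at h4 ⊢
  change D.d * (dg Θ : ℤ) ≡ 3 [ZMOD 7] at h4
  change -(D.d * (dg Θ : ℤ)) ∈ X7
  rcases D.d_mem with h | h
  · rw [h, one_mul] at h4 ⊢
    exact hA.2.2.1 (by have := h4.dvd; omega)
  · rw [h, neg_one_mul] at h4 ⊢
    rw [neg_neg]
    exact hA.2.2.2 (by have := h4.dvd; omega)

/-- the signed degree of the exceptional characters is compatible -/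
theorem cp_dexc {M : Ideal AlgInt} {S : Sylow 7 G} {e t : ℕ} [Fact (Nat.Prime 7)]
    (D : BlockData 7 M S e t) (ht : e * t = 7 - 1) {χ : IrrCharacter G} {ε : ℤ}
    (hε : ε = 1 ∨ ε = -1) : cp (ε * (dg χ : ℤ)) (-D.dexc) = true := by
  obtain ⟨Θ, hΘ⟩ := D.exists_X ht
  have h1 : -D.dexc = (-D.d) * (dg Θ : ℤ) := by
    rw [DegreeData.BlockData.dexc, ← D.deg_X Θ hΘ]; unfold dg; ring
  rw [h1]
  refine cp_of H hε ?_ χ Θ
  rcases D.d_mem with h | h <;> rw [h] <;> norm_num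

theorem sd_of_mem_five {M : Ideal AlgInt} {R : Sylow 5 G} {B : Finset (IrrCharacter G)}
    {ε : IrrCharacter G → ℤ} (hB : Flat 5 R M B ε) {l : List (IrrCharacter G)}
    (hmem : ∀ χ, χ ∈ B ↔ χ ∈ tr G :: l) {χ : IrrCharacter G} (hχ : χ ∈ B) (hχ1 : χ ≠ tr G) :
    ε χ * (dg χ : ℤ) ∈ l.map (fun χ => ε χ * (dg χ : ℤ)) ∧ (ε χ * (dg χ : ℤ)).natAbs = dg χ := by
  refine ⟨List.mem_map_of_mem ?_, ?_⟩
  · rcases List.mem_cons.1 ((hmem χ).1 hχ) with h | h
    · exact absurd h hχ1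
    · exact h
  · rcases hB.ε_mem χ hχ with h | h <;> rw [h] <;> simp

/-- `e = 2` is impossible for `p = 7`. -/
theorem e7_ne_two {R : Sylow 5 G} {K : Subgroup G} {M : Ideal AlgInt}
    {B : Finset (IrrCharacter G)} {ε : IrrCharacter G → ℤ} {l : List (IrrCharacter G)}
    (hB : FlatLoc 5 R K M B ε) (hmem : ∀ χ, χ ∈ B ↔ χ ∈ tr G :: l)
    (hl : l.map (fun χ => ε χ * (dg χ : ℤ)) ∈ sols5')
    (hno : ∀ g : G, orderOf g ≠ 5 * 7) {S : Sylow 7 G}
    (he : (centralizer (S : Set G)).relIndex (normalizer (S : Set G)) = 2) : False := by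
  have h5 : Fact (Nat.Prime 5) := ⟨by norm_num⟩
  have h7 : Fact (Nat.Prime 7) := ⟨by norm_num⟩
  have hS := card_seven H S
  obtain ⟨M', hM'⟩ := Blocks.ExistsModular.exists_isPModular (p := 7) (by norm_num)
  obtain ⟨D⟩ := exists_blockData 7 (by norm_num) M' hM' S hS 2 3 he (by norm_num)
  obtain ⟨χ, hχl⟩ : ∃ χ, D.l = [χ] := List.length_eq_one_iff.1 (by have := D.length; omega)
  have h1 := D.dexc_eq (by norm_num)
  have hχ : χ ∈ D.one :: D.l := by rw [hχl]; simp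
  have hχ1 : χ ≠ tr G := by
    rw [← one_eq D]
    rintro rfl
    exact (List.nodup_cons.1 D.nodup).1 (by rw [hχl]; simp)
  have h2 : D.ε χ * (dg χ : ℤ) ∈ L7 := sd_mem H (D.ε_mem χ hχ) hχ1 (D.sd_modEq hS hχ)
  obtain ⟨Θ, hΘ⟩ := D.exists_X (by norm_num)
  have h3 : D.degs.sum = D.ε χ * (dg χ : ℤ) := by
    rw [DegreeData.BlockData.degs, hχl]
    simp [DegreeData.BlockData.sd, dg]
  rw [h3] at h1
  have h4 : D.ε χ * (dg χ : ℤ) = 22 := by
    apply arith_two _ h2
    rw [h1, D.natAbs_dexc, ← D.deg_X Θ hΘ]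
    exact dg_mem_A H Θ
  have h5' : dg χ = 22 := by
    rcases D.ε_mem χ hχ with h | h <;> rw [h] at h4 <;> omega
  obtain ⟨ψ, hψ1, hψ2, hψ3⟩ := exists_shared_data (by norm_num) (card_five H R) hS hB.toFlat hM' D
    hno
  obtain ⟨h6, h7'⟩ := sd_of_mem_five H hB.toFlat hmem hψ1 hψ2
  have h8 := arith_no_two _ hl _ h6
  rw [h7'] at h8
  rcases hψ3 with ⟨h9, -⟩ | ⟨h9, -⟩
  · rw [hχl, List.mem_singleton] at h9
    rw [h9] at h8
    exact h8.1 h5'
  · apply h8.2
    have h10 : dg ψ = D.f := D.deg_X ψ h9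
    rw [h10, ← D.natAbs_dexc, ← h1, h4]
    rfl

/-- The case `e = 3` for `p = 7`. -/
theorem exists_three {R : Sylow 5 G} {K : Subgroup G} {M : Ideal AlgInt}
    {B : Finset (IrrCharacter G)} {ε : IrrCharacter G → ℤ} {l : List (IrrCharacter G)}
    (hB : FlatLoc 5 R K M B ε) (hmem : ∀ χ, χ ∈ B ↔ χ ∈ tr G :: l)
    (hl : l.map (fun χ => ε χ * (dg χ : ℤ)) ∈ sols5')
    (hno : ∀ g : G, orderOf g ≠ 5 * 7) {S : Sylow 7 G} {K' : Subgroup G}
    (hK' : PrimeLocal.IsLocal 7 S 3 K') : ∃ (M' : Ideal AlgInt) (D : BlockData 7 M' S 3 2)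
    (a b : IrrCharacter G), B7three S K' M' D a b ∧ b ∈ B ∧ b ≠ tr G ∧
      (l.map (fun χ => ε χ * (dg χ : ℤ)) = [-5544, -2024, 736, 6831] ∨
        l.map (fun χ => ε χ * (dg χ : ℤ)) = [-5544, -2024, 1771, 5796]) := by
  have h5 : Fact (Nat.Prime 5) := ⟨by norm_num⟩
  have h7 : Fact (Nat.Prime 7) := ⟨by norm_num⟩
  have hS := card_seven H S
  obtain ⟨M', hM'⟩ := Blocks.ExistsModular.exists_isPModular (p := 7) (by norm_num)
  obtain ⟨D⟩ := exists_blockData 7 (by norm_num) M' hM' S hS 3 2 (BlockIndex.relIndex_eq hK')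
    (by norm_num)
  obtain ⟨a, b, hab⟩ : ∃ a b, D.l = [a, b] := by
    have := D.length
    match hl : D.l, this with
    | [a, b], _ => exact ⟨a, b, rfl⟩
    | [], h => rw [hl] at this; simp at this
    | [_], h => rw [hl] at this; simp at this
    | _ :: _ :: _ :: _, h => rw [hl] at this; simp at this
  have ha : a ∈ D.one :: D.l := by rw [hab]; simp
  have hb : b ∈ D.one :: D.l := by rw [hab]; simp
  have hne : ∀ χ ∈ D.l, χ ≠ tr G := by
    intro χ hχ
    rw [← one_eq D]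
    rintro rfl
    exact (List.nodup_cons.1 D.nodup).1 hχ
  have ha1 := hne a (by rw [hab]; simp)
  have hb1 := hne b (by rw [hab]; simp)
  have h2a : D.ε a * (dg a : ℤ) ∈ L7 := sd_mem H (D.ε_mem a ha) ha1 (D.sd_modEq hS ha)
  have h2b : D.ε b * (dg b : ℤ) ∈ L7 := sd_mem H (D.ε_mem b hb) hb1 (D.sd_modEq hS hb)
  have h3 : D.degs = [D.ε a * (dg a : ℤ), D.ε b * (dg b : ℤ)] := by
    rw [DegreeData.BlockData.degs, hab]
    simp [DegreeData.BlockData.sd, dg]
  have h1 := D.dexc_eq (by norm_num)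
  have hsort := D.degs_sorted
  rw [h3] at h1 hsort
  simp only [List.sum_cons, List.sum_nil, add_zero] at h1
  simp only [List.pairwise_cons, List.mem_cons, List.not_mem_nil, or_false, forall_eq,
    IsEmpty.forall_iff, implies_true, List.Pairwise.nil, and_true] at hsort
  have h4 : -D.dexc = -(1 + D.ε a * (dg a : ℤ) + D.ε b * (dg b : ℤ)) := by rw [← h1]; ring
  have h6 := dexc_mem H D
  have c1 := cp_of H (D.ε_mem a ha) (D.ε_mem b hb) a b
  have c2 := cp_dexc H D (by norm_num) (χ := a) (D.ε_mem a ha)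
  have c3 := cp_dexc H D (by norm_num) (χ := b) (D.ε_mem b hb)
  have h8 : [D.ε a * (dg a : ℤ), D.ε b * (dg b : ℤ), -D.dexc] ∈ sols3 := by
    rw [h4] at h6 c2 c3 ⊢
    exact arith_three _ h2a _ h2b hsort h6 c1 c2 c3
  obtain ⟨ψ, hψ1, hψ2, hψ3⟩ := exists_shared_data (by norm_num) (card_five H R) hS hB.toFlat hM' D
    hno
  obtain ⟨h9, h10⟩ := sd_of_mem_five H hB.toFlat hmem hψ1 hψ2
  have h11 : -(ε ψ * (dg ψ : ℤ)) ∈ [D.ε a * (dg a : ℤ), D.ε b * (dg b : ℤ), -D.dexc] := by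
    rcases hψ3 with ⟨h, h'⟩ | ⟨h, h'⟩
    · rw [hab] at h
      have h12 : -(ε ψ * (dg ψ : ℤ)) = D.ε ψ * (dg ψ : ℤ) := by rw [h']; ring
      rw [h12]
      simp only [List.mem_cons, List.not_mem_nil, or_false] at h
      rcases h with rfl | rfl <;> simp
    · have h12 : -(ε ψ * (dg ψ : ℤ)) = -D.dexc := by
        rw [DegreeData.BlockData.dexc, ← D.deg_X ψ h, h']; rfl
      rw [h12]; simp
  obtain ⟨h12, h13, h14⟩ := arith_inter3 _ hl _ h8 _ h9 h11
  rw [h13] at h10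
  simp only [List.cons.injEq, and_true] at h12
  obtain ⟨h15, h16, h17⟩ := h12
  have ea := D.ε_mem a ha
  have eb := D.ε_mem b hb
  have hda : D.ε a = -1 ∧ dg a = 1035 := by
    rcases ea with h | h <;> rw [h] at h15 ⊢ <;> constructor <;> omega
  have hdb : D.ε b = 1 ∧ dg b = 2024 := by
    rcases eb with h | h <;> rw [h] at h16 ⊢ <;> constructor <;> omega
  have hdd : D.d = 1 ∧ D.f = 990 := by
    rw [DegreeData.BlockData.dexc] at h17
    rcases D.d_mem with h | h <;> rw [h] at h17 ⊢ <;> constructor <;> omega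
  have hψ : ψ = b := by
    rcases hψ3 with ⟨h, -⟩ | ⟨h, -⟩
    · rw [hab] at h
      simp only [List.mem_cons, List.not_mem_nil, or_false] at h
      rcases h with rfl | rfl
      · rw [hda.2] at h10; norm_num at h10
      · rfl
    · have h18 : dg ψ = D.f := D.deg_X ψ h
      rw [h18, hdd.2] at h10
      norm_num at h10
  subst hψ
  refine ⟨M', D, a, ψ, ⟨hM', hK', hab, hda.2, hda.1, hdb.2, hdb.1, hdd.1, hdd.2, ?_⟩, hψ1, hψ2, h14⟩
  have e1 := mul_dvd_card D hS hK'.card_centralizer ha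
  have e2 := mul_dvd_card D hS hK'.card_centralizer hb
  rw [hda.2, H.hcard, show (244823040 : ℕ) = (1035 * 7) * 33792 by norm_num, ← mul_assoc] at e1
  rw [hdb.2, H.hcard, show (244823040 : ℕ) = (2024 * 7) * 17280 by norm_num, ← mul_assoc] at e2
  have e3 := Nat.dvd_of_mul_dvd_mul_left (by norm_num) e1
  have e4 := Nat.dvd_of_mul_dvd_mul_left (by norm_num) e2
  have e5 : Nat.card K' ∣ 384 := by simpa using Nat.dvd_gcd e3 e4
  have hmod : Nat.card K' % 7 = 6 := by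
    have h1 := local_modEq hK' (m := 34974720) (by rw [H.hcard])
    have h2 : 3 * Nat.card K' % 7 = 34974720 % 7 := h1
    omega
  have e6 : Nat.card K' ∈ Nat.divisors 384 := Nat.mem_divisors.2 ⟨e5, by norm_num⟩
  have e7 : ∀ k ∈ Nat.divisors 384, k % 7 = 6 → k = 6 ∨ k = 48 ∨ k = 384 := by decide +kernel
  exact e7 _ e6 hmod

/-- The case `e = 6` for `p = 7`. -/
theorem exists_six {R : Sylow 5 G} {K : Subgroup G} {M : Ideal AlgInt}
    {B : Finset (IrrCharacter G)} {ε : IrrCharacter G → ℤ} {l : List (IrrCharacter G)}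
    (hB : FlatLoc 5 R K M B ε) (hmem : ∀ χ, χ ∈ B ↔ χ ∈ tr G :: l)
    (hl : l.map (fun χ => ε χ * (dg χ : ℤ)) ∈ sols5')
    (hno : ∀ g : G, orderOf g ≠ 5 * 7) {S : Sylow 7 G} {K' : Subgroup G}
    (hK' : PrimeLocal.IsLocal 7 S 6 K') : ∃ (M' : Ideal AlgInt) (B' : Finset (IrrCharacter G))
    (ε' : IrrCharacter G → ℤ) (l' : List (IrrCharacter G)) (b : IrrCharacter G),
      B7six S K' M' B' ε' l' b ∧ b ∈ B ∧ b ≠ tr G ∧ dg b = 2024 ∧
      (l.map (fun χ => ε χ * (dg χ : ℤ)) = [-5544, -2024, 736, 6831] ∨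
        l.map (fun χ => ε χ * (dg χ : ℤ)) = [-5544, -2024, 1771, 5796]) := by
  have h5 : Fact (Nat.Prime 5) := ⟨by norm_num⟩
  have h7 : Fact (Nat.Prime 7) := ⟨by norm_num⟩
  have hS := card_seven H S
  obtain ⟨M', B', ε', hB'⟩ := exists_flatLoc (not_prime H) 7 (by norm_num) S hS hK'
  obtain ⟨l', hl1, hl2, hl3, hl4, hl5, -⟩ := hB'.toFlat.exists_list
  have hne : ∀ χ ∈ l', χ ≠ tr G := by
    rintro χ hχ rfl
    exact (List.nodup_cons.1 hl1).1 hχ
  have hmem' : ∀ χ ∈ l', χ ∈ B' := fun χ hχ => (hl2 χ).2 (List.mem_cons_of_mem _ hχ)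
  have hL : ∀ z ∈ l'.map (fun χ => ε' χ * (dg χ : ℤ)), z ∈ L7 := by
    intro z hz
    obtain ⟨χ, hχ, rfl⟩ := List.mem_map.1 hz
    exact sd_mem H (hB'.ε_mem χ (hmem' χ hχ)) (hne χ hχ) (hB'.toFlat.modEq hS (hmem' χ hχ))
  obtain ⟨ψ, hψ1, hψ2, hψ3, hψ4⟩ := exists_shared_flat (by norm_num) (card_five H R) hS hB.toFlat
    hB'.toFlat hno
  obtain ⟨h9, h10⟩ := sd_of_mem_five H hB.toFlat hmem hψ1 hψ3
  have hψl : ψ ∈ l' := by
    rcases List.mem_cons.1 ((hl2 ψ).1 hψ2) with h | h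
    · exact absurd h hψ3
    · exact h
  have h11 : -(ε ψ * (dg ψ : ℤ)) ∈ l'.map (fun χ => ε' χ * (dg χ : ℤ)) := by
    have h12 : -(ε ψ * (dg ψ : ℤ)) = ε' ψ * (dg ψ : ℤ) := by rw [hψ4]; ring
    rw [h12]
    exact List.mem_map_of_mem hψl
  have hcp : cpAll (l'.map (fun χ => ε' χ * (dg χ : ℤ))) = true := by
    unfold cpAll
    rw [List.all_eq_true]
    intro s hs
    rw [List.all_eq_true]
    intro t ht
    obtain ⟨χ, hχ, rfl⟩ := List.mem_map.1 hs
    obtain ⟨ξ, hξ, rfl⟩ := List.mem_map.1 ht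
    exact cp_of H (hB'.ε_mem χ (hmem' χ hχ)) (hB'.ε_mem ξ (hmem' ξ hξ)) χ ξ
  have hkey : (-(ε ψ * (dg ψ : ℤ)) = 2024 ∨ -(ε ψ * (dg ψ : ℤ)) = -6831) := by
    have h12 : ∀ l ∈ sols5', ∀ s ∈ l, -s ∈ L7 → (-s = 2024 ∨ -s = -6831) := by decide +kernel
    exact h12 _ hl _ h9 (hL _ h11)
  have h13 : test6 (l'.map (fun χ => ε' χ * (dg χ : ℤ))) = true := by
    refine DegreeSearch.check_spec search6 (by decide) (by rw [List.length_map]; omega) hl4 hL
      ⟨_, List.mem_singleton_self _, ?_, ?_⟩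
    · rw [DegreeSearch.sum_aff (by norm_num)]
      · rw [List.length_map]
        have e1 : l'.length = 6 := by omega
        have e2 : (l'.map (fun χ => ε' χ * (dg χ : ℤ))).sum = -1 := by linarith
        rw [e1, e2]
        norm_num
        rfl
      · intro z hz
        have h14 : ∀ z ∈ L7, (7 : ℤ) ∣ z + 12144 ∧ 0 ≤ z + 12144 := by decide +kernel
        exact h14 z (hL z hz)
    · have h14 := hB'.toFlat.sum_sq_le hl1 hl2
      rw [H.hcard] at h14
      rw [List.map_map]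
      change (l'.map fun χ => (ε' χ * (dg χ : ℤ)).natAbs ^ 2).sum ≤ 244823039
      omega
  have h14 : l'.map (fun χ => ε' χ * (dg χ : ℤ)) ∈ sols6 := by
    unfold test6 at h13
    rw [hcp] at h13
    have h15 : ((l'.map (fun χ => ε' χ * (dg χ : ℤ))).contains 2024 ||
        (l'.map (fun χ => ε' χ * (dg χ : ℤ))).contains (-6831)) = true := by
      rw [Bool.or_eq_true, List.contains_iff_mem, List.contains_iff_mem]
      rcases hkey with h | h
      · left; rw [← h]; exact h11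
      · right; rw [← h]; exact h11
    rw [h15] at h13
    simpa using h13
  have h15 : (l'.map (fun χ => ε' χ * (dg χ : ℤ)), Nat.card K') ∈ pairs6 := by
    refine arith_index6 h14 ?_ ?_ ?_
    · have h1 := local_modEq hK' (m := 34974720) (by rw [H.hcard])
      have h2 : 6 * Nat.card K' % 7 = 34974720 % 7 := h1
      omega
    · intro h
      obtain ⟨g, hg⟩ := exists_orderOf hS hK' (q := 5) (by norm_num) (by norm_num)
        (Nat.dvd_of_mod_eq_zero h)
      exact hno g (by rw [hg])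
    · intro s hs
      obtain ⟨χ, hχ, rfl⟩ := List.mem_map.1 hs
      rw [hB'.toFlat.natAbs_sd (hmem' χ hχ), ← H.hcard]
      exact hB'.toFlat.mul_dvd_card hS hK'.card_centralizer (hmem' χ hχ)
  obtain ⟨h16, h17⟩ := arith_inter6' _ h15 _ hl _ h9 h11
  rw [h16] at h10
  have h18 : ε' ψ = 1 := by
    rw [hψ4]
    rcases hB.ε_mem ψ hψ1 with h | h <;> rw [h] at h16 ⊢
    · omega
    · norm_num
  exact ⟨M', B', ε', l', ψ, ⟨hB', hl1, hl2, h15, hψl, h18⟩, hψ1, hψ3, by omega, h17⟩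

/-- The character `b` of degree 2024 in the sorted list of the principal 5-block. -/
theorem b5_of_list {M : Ideal AlgInt} {R : Sylow 5 G} {K : Subgroup G}
    {B : Finset (IrrCharacter G)} {ε : IrrCharacter G → ℤ} {l : List (IrrCharacter G)}
    (hB : FlatLoc 5 R K M B ε) (hnd : (tr G :: l).Nodup) (hmem : ∀ χ, χ ∈ B ↔ χ ∈ tr G :: l)
    (hl : l.map (fun χ => ε χ * (dg χ : ℤ)) = [-5544, -2024, 736, 6831] ∨
      l.map (fun χ => ε χ * (dg χ : ℤ)) = [-5544, -2024, 1771, 5796])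
    (hK : Nat.card K = 2 ∨ Nat.card K = 12 ∨ Nat.card K = 32 ∨ Nat.card K = 192)
    (hK2 : l.map (fun χ => ε χ * (dg χ : ℤ)) = [-5544, -2024, 736, 6831] →
      Nat.card K = 2 ∨ Nat.card K = 32) {b : IrrCharacter G} (hb : b ∈ B) (hb1 : b ≠ tr G)
    (hdb : dg b = 2024) : ∃ a c d, B5 R K M B ε a b c d := by
  have hlen : l.length = 4 := by
    rcases hl with h | h <;> · rw [← List.length_map (f := fun χ => ε χ * (dg χ : ℤ)), h]; rfl
  obtain ⟨x, y, z, w, rfl⟩ : ∃ x y z w, l = [x, y, z, w] := by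
    match l, hlen with
    | [x, y, z, w], _ => exact ⟨x, y, z, w, rfl⟩
  have hm : ∀ χ ∈ [x, y, z, w], ε χ = 1 ∨ ε χ = -1 := fun χ hχ =>
    hB.ε_mem χ ((hmem χ).2 (List.mem_cons_of_mem _ hχ))
  have ex := hm x (by simp)
  have ey := hm y (by simp)
  have ez := hm z (by simp)
  have ew := hm w (by simp)
  have hbl : b ∈ [x, y, z, w] := by
    rcases List.mem_cons.1 ((hmem b).1 hb) with h | h
    · exact absurd h hb1
    · exact h
  simp only [List.map_cons, List.map_nil, List.cons.injEq, and_true] at hl hK2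
  have key : ∀ {ε' : ℤ} {n m : ℕ}, (ε' = 1 ∨ ε' = -1) → ε' * (n : ℤ) = m → 0 < m →
      ε' = 1 ∧ n = m := by
    intro ε' n m h h' hm
    rcases h with h | h <;> rw [h] at h' ⊢ <;> constructor <;> omega
  have key' : ∀ {ε' : ℤ} {n m : ℕ}, (ε' = 1 ∨ ε' = -1) → ε' * (n : ℤ) = -m → 0 < m →
      ε' = -1 ∧ n = m := by
    intro ε' n m h h' hm
    rcases h with h | h <;> rw [h] at h' ⊢ <;> constructor <;> omega
  rcases hl with h | h
  · have hK3 := hK2 h
    obtain ⟨h1, h2, h3, h4⟩ := h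
    obtain ⟨x1, x2⟩ := key' (m := 5544) ex (by rw [h1]; rfl) (by norm_num)
    obtain ⟨y1, y2⟩ := key' (m := 2024) ey (by rw [h2]; rfl) (by norm_num)
    obtain ⟨z1, z2⟩ := key (m := 736) ez (by rw [h3]; rfl) (by norm_num)
    obtain ⟨w1, w2⟩ := key (m := 6831) ew (by rw [h4]; rfl) (by norm_num)
    have hby : b = y := by
      simp only [List.mem_cons, List.not_mem_nil, or_false] at hbl
      rcases hbl with rfl | rfl | rfl | rfl
      · omega
      · rfl
      · omega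
      · omega
    subst hby
    exact ⟨x, z, w, hB, hnd, hmem, x2, x1, y2, y1, z1, w1, Or.inl ⟨z2, w2, hK3⟩⟩
  · obtain ⟨h1, h2, h3, h4⟩ := h
    obtain ⟨x1, x2⟩ := key' (m := 5544) ex (by rw [h1]; rfl) (by norm_num)
    obtain ⟨y1, y2⟩ := key' (m := 2024) ey (by rw [h2]; rfl) (by norm_num)
    obtain ⟨z1, z2⟩ := key (m := 1771) ez (by rw [h3]; rfl) (by norm_num)
    obtain ⟨w1, w2⟩ := key (m := 5796) ew (by rw [h4]; rfl) (by norm_num)
    have hby : b = y := by
      simp only [List.mem_cons, List.not_mem_nil, or_false] at hbl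
      rcases hbl with rfl | rfl | rfl | rfl
      · omega
      · rfl
      · omega
      · omega
    subst hby
    exact ⟨x, z, w, hB, hnd, hmem, x2, x1, y2, y1, z1, w1, Or.inr ⟨z2, w2, hK⟩⟩

/-- **The principal 5- and 7-blocks.** -/
theorem exists_blocks (R : Sylow 5 G) (S : Sylow 7 G) :
    ∃ (K : Subgroup G) (M : Ideal AlgInt) (B : Finset (IrrCharacter G)) (ε : IrrCharacter G → ℤ)
      (a b c d : IrrCharacter G), B5 R K M B ε a b c d ∧
    ((∃ (K' : Subgroup G) (M' : Ideal AlgInt) (D : BlockData 7 M' S 3 2) (a' : IrrCharacter G),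
      B7three S K' M' D a' b) ∨
    (∃ (K' : Subgroup G) (M' : Ideal AlgInt) (B' : Finset (IrrCharacter G))
      (ε' : IrrCharacter G → ℤ) (l' : List (IrrCharacter G)), B7six S K' M' B' ε' l' b)) := by
  have h5 : Fact (Nat.Prime 5) := ⟨by norm_num⟩
  have h7 : Fact (Nat.Prime 7) := ⟨by norm_num⟩
  obtain ⟨K, M, B, ε, l, hB, hnd, hmem, hl, hK, hK2⟩ := exists_five' H R
  have hno := no_thirtyfive H hB.loc hK
  obtain ⟨e, K', hK'⟩ := PrimeLocal.exists_local (not_comm H) (p := 7)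
    (by rw [H.hcard]; norm_num) (by rw [H.hcard]; norm_num) S
  have he : e = 2 ∨ e = 3 ∨ e = 6 := by
    have h1 : e ∣ 6 := hK'.dvd_pred
    have h2 : e ≤ 6 := Nat.le_of_dvd (by norm_num) h1
    have h3 := hK'.one_lt
    interval_cases e <;> omega
  rcases he with rfl | rfl | rfl
  · exact absurd (BlockIndex.relIndex_eq hK') fun h => e7_ne_two H hB hmem hl hno h
  · obtain ⟨M', D, a', b, h1, h2, h3, h4⟩ := exists_three H hB hmem hl hno hK'
    obtain ⟨a, c, d, h6⟩ := b5_of_list H hB hnd hmem h4 hK hK2 h2 h3 h1.dg_b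
    exact ⟨K, M, B, ε, a, b, c, d, h6, Or.inl ⟨K', M', D, a', h1⟩⟩
  · obtain ⟨M', B', ε', l', b, h1, h2, h3, h3', h4⟩ := exists_six H hB hmem hl hno hK'
    obtain ⟨a, c, d, h6⟩ := b5_of_list H hB hnd hmem h4 hK hK2 h2 h3 h3'
    exact ⟨K, M, B, ε, a, b, c, d, h6, Or.inr ⟨K', M', B', ε', l', h1⟩⟩

end Cfsg.Agent.SporadicA.M24.Seven
end
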