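import Cfsg.Agent.SporadicA.M24.Col
import Cfsg.Agent.SporadicA.M24.Seven
import Cfsg.Agent.SporadicA.M24.KBlock
set_option linter.all false

-- part: SporadicA/M24/Gram
section
/-!
# Gram inequalities for columns of involutions

* `gram` : the column of degrees and the column of an involution;
* `gram_pair` : the columns of two non-conjugate involutions.
-/

set_option autoImplicit false

open Cfsg Subgroup
open Cfsg.Agent.Characters.Core
open Cfsg.Agent.SmallSimple
open Cfsg.Agent.SmallSimple.FlatBlock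
open Cfsg.Agent.M23Order.Base
open Cfsg.Agent.SporadicA.M24.Col
open scoped ComplexConjugate

namespace Cfsg.Agent.SporadicA.M24.Gram

universe u

variable {G : Type u} [Group G] [Finite G]

theorem sum_sq {t : G} {v : IrrCharacter G → ℤ} (h : Column t v) [Fintype (IrrCharacter G)] :
    ∑ χ : IrrCharacter G, v χ ^ 2 = Nat.card (centralizer ({t} : Set G)) := by
  have := Fintype.ofFinite G
  have h1 := (Cfsg.Agent.S0145.result t t).1 (IsConj.refl t)
  rw [finsum_eq_sum_of_fintype] at h1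
  have h' : ((∑ χ : IrrCharacter G, v χ ^ 2 : ℤ) : ℂ) =
      ((Nat.card (centralizer ({t} : Set G)) : ℤ) : ℂ) := by
    rw [Int.cast_sum]
    push_cast at h1 ⊢
    rw [← h1]
    refine Finset.sum_congr rfl fun χ _ => ?_
    rw [h.val, map_intCast, pow_two]
  exact_mod_cast h'

theorem sum_dg_mul {t : G} {v : IrrCharacter G → ℤ} (h : Column t v)
    [Fintype (IrrCharacter G)] : ∑ χ : IrrCharacter G, (dg χ : ℤ) * v χ = 0 := by
  have := Fintype.ofFinite G
  have h1 := (Cfsg.Agent.S0145.result (1 : G) t).2 (fun h' => h.ne_one (isConj_one_right.1 h'))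
  rw [finsum_eq_sum_of_fintype] at h1
  have h' : ((∑ χ : IrrCharacter G, (dg χ : ℤ) * v χ : ℤ) : ℂ) = ((0 : ℤ) : ℂ) := by
    rw [Int.cast_sum, Int.cast_zero, ← h1]
    refine Finset.sum_congr rfl fun χ _ => ?_
    rw [h.val, map_intCast, dg_eq]
    push_cast
    rfl
  exact_mod_cast h'

theorem sum_mul {t u : G} {v w : IrrCharacter G → ℤ} (h : Column t v) (h' : Column u w)
    (hc : ¬ IsConj t u) [Fintype (IrrCharacter G)] :
    ∑ χ : IrrCharacter G, v χ * w χ = 0 := by
  have := Fintype.ofFinite G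
  have h1 := (Cfsg.Agent.S0145.result t u).2 hc
  rw [finsum_eq_sum_of_fintype] at h1
  have h' : ((∑ χ : IrrCharacter G, v χ * w χ : ℤ) : ℂ) = ((0 : ℤ) : ℂ) := by
    rw [Int.cast_sum, Int.cast_zero, ← h1]
    refine Finset.sum_congr rfl fun χ _ => ?_
    rw [h.val, h'.val, map_intCast]
    push_cast
    rfl
  exact_mod_cast h'

theorem cauchy {ι : Type*} [Fintype ι] [DecidableEq ι] {f g : ι → ℤ} {A B : ℤ}
    (hf : ∑ i, f i ^ 2 = A) (hg : ∑ i, g i ^ 2 = B) (h0 : ∑ i, f i * g i = 0) (S : Finset ι) :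
    (∑ i ∈ S, f i * g i) ^ 2 ≤ (A - ∑ i ∈ S, f i ^ 2) * (B - ∑ i ∈ S, g i ^ 2) := by
  have e1 := Finset.sum_add_sum_compl S (fun i => f i ^ 2)
  have e2 := Finset.sum_add_sum_compl S (fun i => g i ^ 2)
  have e3 := Finset.sum_add_sum_compl S (fun i => f i * g i)
  have h4 := Finset.sum_mul_sq_le_sq_mul_sq Sᶜ f g
  have e1' : ∑ i ∈ Sᶜ, f i ^ 2 = A - ∑ i ∈ S, f i ^ 2 := by rw [← hf, ← e1]; ring
  have e2' : ∑ i ∈ Sᶜ, g i ^ 2 = B - ∑ i ∈ S, g i ^ 2 := by rw [← hg, ← e2]; ring
  have e3' : ∑ i ∈ S, f i * g i = - ∑ i ∈ Sᶜ, f i * g i := by rw [h0] at e3; linarith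
  rw [e3', neg_sq, ← e1', ← e2']
  exact h4

/-- The Gram inequality for the degrees and the column of an involution. -/
theorem gram {t : G} {v : IrrCharacter G → ℤ} (h : Column t v) (S : Finset (IrrCharacter G)) :
    (∑ χ ∈ S, (dg χ : ℤ) * v χ) ^ 2 ≤ ((Nat.card G : ℤ) - ∑ χ ∈ S, (dg χ : ℤ) ^ 2) *
      ((Nat.card (centralizer ({t} : Set G)) : ℤ) - ∑ χ ∈ S, v χ ^ 2) := by
  classical
  have := finite_irr (G := G)
  have := Fintype.ofFinite (IrrCharacter G)
  refine cauchy ?_ (sum_sq h) (sum_dg_mul h) S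
  have := sum_dg_sq (G := G)
  exact_mod_cast this

/-- The Gram inequality for the columns of two non-conjugate involutions. -/
theorem gram_pair {t u : G} {v w : IrrCharacter G → ℤ} (h : Column t v) (h' : Column u w)
    (hc : ¬ IsConj t u) (S : Finset (IrrCharacter G)) :
    (∑ χ ∈ S, v χ * w χ) ^ 2 ≤ ((Nat.card (centralizer ({t} : Set G)) : ℤ) -
      ∑ χ ∈ S, v χ ^ 2) *
      ((Nat.card (centralizer ({u} : Set G)) : ℤ) - ∑ χ ∈ S, w χ ^ 2) := by
  classical
  have := finite_irr (G := G)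
  have := Fintype.ofFinite (IrrCharacter G)
  exact cauchy (sum_sq h) (sum_sq h') (sum_mul h h' hc) S

/-- `gram` for a list of different characters. -/
theorem gram_list {t : G} {v : IrrCharacter G → ℤ} (h : Column t v) {l : List (IrrCharacter G)}
    (hl : l.Nodup) :
    ((l.map fun χ => (dg χ : ℤ) * v χ).sum) ^ 2 ≤
      ((Nat.card G : ℤ) - (l.map fun χ => (dg χ : ℤ) ^ 2).sum) *
      ((Nat.card (centralizer ({t} : Set G)) : ℤ) - (l.map fun χ => v χ ^ 2).sum) := by
  classical
  have h1 := gram h l.toFinset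
  rwa [List.sum_toFinset _ hl, List.sum_toFinset _ hl, List.sum_toFinset _ hl] at h1

/-- `gram_pair` for a list of different characters. -/
theorem gram_pair_list {t u : G} {v w : IrrCharacter G → ℤ} (h : Column t v) (h' : Column u w)
    (hc : ¬ IsConj t u) {l : List (IrrCharacter G)} (hl : l.Nodup) :
    ((l.map fun χ => v χ * w χ).sum) ^ 2 ≤
      ((Nat.card (centralizer ({t} : Set G)) : ℤ) - (l.map fun χ => v χ ^ 2).sum) *
      ((Nat.card (centralizer ({u} : Set G)) : ℤ) - (l.map fun χ => w χ ^ 2).sum) := by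
  classical
  have h1 := gram_pair h h' hc l.toFinset
  rwa [List.sum_toFinset _ hl, List.sum_toFinset _ hl, List.sum_toFinset _ hl] at h1

end Cfsg.Agent.SporadicA.M24.Gram
end

-- part: SporadicA/M24/Integral
section
/-!
# Integrality of averaged class multiplication constants, order `244823040`

* `flat_int`, `data_int`: the averaged class multiplication formula for arbitrary `p`-regular
  elements and the principal `p`-block;
* `card_K_ne`: if `|N(P₇) : C(P₇)| = 3` then `|K₅| ≠ 192` and `|K₇| ≠ 384`.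
-/

set_option autoImplicit false
set_option linter.unusedSectionVars false

open Cfsg Subgroup
open Cfsg.Agent.Characters.Core
open Cfsg.Agent.SmallSimple
open Cfsg.Agent.SmallSimple.FlatBlock Cfsg.Agent.SmallSimple.BlockShared
open Cfsg.Agent.SmallSimple.DegreeData
open Cfsg.Agent.M23Order.Base
open Cfsg.Agent.SporadicA.M24.Setup Cfsg.Agent.SporadicA.M24.Five
open scoped ComplexConjugate

namespace Cfsg.Agent.SporadicA.M24.Integral

universe u

variable {G : Type u} [Group G] [Finite G]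

section General

variable {p : ℕ} [Fact p.Prime] {P : Sylow p G} {K : Subgroup G} {M : Ideal AlgInt}

/-- **Averaged class multiplication constants** for the flat principal block. -/
theorem flat_int {B : Finset (IrrCharacter G)} {ε : IrrCharacter G → ℤ} (h : Flat p P M B ε)
    {e : ℕ} (hK : PrimeLocal.IsLocal p P e K) (hP : Nat.card P = p) (a b : G) :
    ∃ N : ℕ, (N : ℂ) * Nat.card G = (centralizer ({a} : Set G)).index *
      (centralizer ({b} : Set G)).index * Nat.card K *
      ∑ χ ∈ B, ε χ * ((χ : G → ℂ) a * (χ : G → ℂ) b / (χ : G → ℂ) 1) := by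
  classical
  have hfin : Finite (IrrCharacter G) := finite_irr
  have := Fintype.ofFinite (IrrCharacter G)
  have := Fintype.ofFinite K
  obtain ⟨x, hx, hx1⟩ := BlockIndex.exists_ne_one (P := (P : Subgroup G)) hP
  have h1 := AvgFormula.card_mul_eq h.modular (BlockIndex.compl_of_local hK) hP hx hx1
    (NE := B) (X := ∅) (Finset.disjoint_empty_right _) (fun χ => by simp [h.mem_iff χ]) a b
  rw [Finset.sum_empty, add_zero] at h1
  refine ⟨_, h1.trans ?_⟩
  congr 1
  refine Finset.sum_congr rfl fun χ hχ => ?_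
  rw [h.val' hχ hx hx1, map_intCast]
  ring

/-- **Averaged class multiplication constants** if the exceptional characters vanish at `a`. -/
theorem data_int {e t : ℕ} (D : BlockData p M P e t) (hM : IsPModular p M) {e' : ℕ}
    (hK : PrimeLocal.IsLocal p P e' K) (hP : Nat.card P = p) {a : G} (b : G)
    (ha : ∀ Θ ∈ D.X, (Θ : G → ℂ) a = 0) :
    ∃ N : ℕ, (N : ℂ) * Nat.card G = (centralizer ({a} : Set G)).index *
      (centralizer ({b} : Set G)).index * Nat.card K *
      ((D.one :: D.l).map fun χ => (D.ε χ : ℂ) *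
        ((χ : G → ℂ) a * (χ : G → ℂ) b / (χ : G → ℂ) 1)).sum := by
  classical
  have hfin : Finite (IrrCharacter G) := finite_irr
  have := Fintype.ofFinite (IrrCharacter G)
  have := Fintype.ofFinite K
  obtain ⟨x, hx, hx1⟩ := BlockIndex.exists_ne_one (P := (P : Subgroup G)) hP
  have h1 := AvgFormula.card_mul_eq hM (BlockIndex.compl_of_local hK) hP hx hx1
    (NE := (D.one :: D.l).toFinset) (X := D.X) (Finset.disjoint_left.2 fun χ hχ hX =>
      D.notMem_X χ (List.mem_toFinset.1 hχ) hX)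
    (fun χ => by rw [D.mem_block χ, List.mem_toFinset]) a b
  rw [Finset.sum_eq_zero (s := D.X) fun Θ hΘ => by rw [ha Θ hΘ]; simp, add_zero,
    List.sum_toFinset _ D.nodup] at h1
  refine ⟨_, h1.trans ?_⟩
  congr 2
  refine List.map_congr_left fun χ hχ => ?_
  rw [D.val' hχ hx hx1, map_intCast]
  ring

/-- index of the centralizer of a nontrivial element of `P` -/
theorem index_mul {e : ℕ} (hK : PrimeLocal.IsLocal p P e K) (hP : Nat.card P = p) {x : G}
    (hx : x ∈ P) (hx1 : x ≠ 1) :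
    p * Nat.card K * (centralizer ({x} : Set G)).index = Nat.card G := by
  have h2 : centralizer ({x} : Set G) = centralizer (P : Set G) :=
    BlockIndex.centralizer_eq (P := (P : Subgroup G)) hP hx hx1
  rw [h2, ← hK.card_centralizer]
  exact card_mul_index _

end General

theorem one_ne {χ : IrrCharacter G} : (χ : G → ℂ) 1 ≠ 0 :=
  Cfsg.Agent.Blocks.Basic.irr_one_ne_zero χ.2

theorem orderOf_of_mem {p : ℕ} [Fact p.Prime] {P : Sylow p G} (hP : Nat.card P = p) {x : G}
    (hx : x ∈ P) (hx1 : x ≠ 1) : orderOf x = p :=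
  AvgFormula.orderOf_eq (P := (P : Subgroup G)) hP hx hx1

variable [IsSimpleGroup G] (H : Hyp G)

include H

/-- characters of degree divisible by 5 vanish on elements of order 5 -/
theorem five_zero (χ : IrrCharacter G) (h : 5 ∣ dg χ) {w : G} (hw : 5 ∣ orderOf w) :
    (χ : G → ℂ) w = 0 :=
  KBlock.eq_zero_of_defect_zero χ (r := 5) (n := 1) (by norm_num) (by rw [H.hcard]; norm_num)
    (by rw [H.hcard]; norm_num) (by rw [pow_one]; exact h) hw

/-- characters of degree divisible by 7 vanish on elements of order 7 -/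
theorem seven_zero (χ : IrrCharacter G) (h : 7 ∣ dg χ) {w : G} (hw : 7 ∣ orderOf w) :
    (χ : G → ℂ) w = 0 :=
  KBlock.eq_zero_of_defect_zero χ (r := 7) (n := 1) (by norm_num) (by rw [H.hcard]; norm_num)
    (by rw [H.hcard]; norm_num) (by rw [pow_one]; exact h) hw

/-- The class multiplication of elements of order 5 in the 7-section. -/
theorem int_five {R : Sylow 5 G} {K : Subgroup G} {M : Ideal AlgInt}
    {B : Finset (IrrCharacter G)} {ε : IrrCharacter G → ℤ} {a b c d : IrrCharacter G}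
    (h5 : Seven.B5 R K M B ε a b c d) {S : Sylow 7 G} {K' : Subgroup G} {M' : Ideal AlgInt}
    {D : BlockData 7 M' S 3 2} {a' : IrrCharacter G} (h7 : Seven.B7three S K' M' D a' b) :
    ∃ N : ℕ, N * Nat.card K ^ 2 = 9797760 * Nat.card K' := by
  have f5 : Fact (Nat.Prime 5) := ⟨by norm_num⟩
  have f7 : Fact (Nat.Prime 7) := ⟨by norm_num⟩
  have hR := Seven.card_five H R
  have hS := Seven.card_seven H S
  obtain ⟨y, hy, hy1⟩ := BlockIndex.exists_ne_one (P := (R : Subgroup G)) hR
  have hoy : orderOf y = 5 := orderOf_of_mem hR hy hy1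
  have hX : ∀ Θ ∈ D.X, (Θ : G → ℂ) y = 0 := by
    intro Θ hΘ
    refine five_zero H Θ ?_ (by rw [hoy])
    have h1 : dg Θ = D.f := D.deg_X Θ hΘ
    rw [h1, h7.f_eq]
    norm_num
  obtain ⟨N, hN⟩ := data_int D h7.modular h7.loc hS (a := y) y hX
  have h1 := index_mul h5.loc.loc hR hy hy1
  have ha : (a' : G → ℂ) y = 0 := five_zero H a' (by rw [h7.dg_a]; norm_num) (by rw [hoy])
  have hb : (b : G → ℂ) y = -1 := by
    rw [h5.loc.toFlat.val' ((h5.mem b).2 (by simp)) hy hy1, h5.ε_b]; norm_num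
  have hb1 : (b : G → ℂ) 1 = 2024 := by rw [dg_eq, h7.dg_b]; norm_num
  rw [h7.l_eq] at hN
  simp only [List.map_cons, List.map_nil, List.sum_cons, List.sum_nil, ha, hb, hb1, h7.ε_b,
    h7.ε_a, D.ε_one, D.coe_one, Pi.one_apply] at hN
  have hc0 : (Nat.card G : ℂ) ≠ 0 := by exact_mod_cast Nat.card_pos.ne'
  have h1' : (5 : ℂ) * Nat.card K * (centralizer ({y} : Set G)).index = Nat.card G := by
    exact_mod_cast h1
  refine ⟨N, ?_⟩
  have h2 : (N : ℂ) * (Nat.card K : ℂ) ^ 2 * 25 * Nat.card G * 2024 =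
      (Nat.card G : ℂ) ^ 2 * Nat.card K' * 2025 := by
    calc (N : ℂ) * (Nat.card K : ℂ) ^ 2 * 25 * Nat.card G * 2024
        = ((N : ℂ) * Nat.card G) * ((Nat.card K : ℂ) ^ 2 * 25 * 2024) := by ring
      _ = ((5 : ℂ) * Nat.card K * (centralizer ({y} : Set G)).index) ^ 2 * Nat.card K' *
          2025 := by
        rw [hN]; push_cast; ring
      _ = _ := by rw [h1']
  have h3 : (Nat.card G : ℂ) * (N * (Nat.card K : ℂ) ^ 2 * 50600) =
      (Nat.card G : ℂ) * (Nat.card G * Nat.card K' * 2025) := by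
    linear_combination h2
  have h4 := mul_left_cancel₀ hc0 h3
  have h5 : N * Nat.card K ^ 2 * 50600 = Nat.card G * Nat.card K' * 2025 := by exact_mod_cast h4
  rw [H.hcard] at h5
  omega

/-- The class multiplication of elements of order 7 in the 5-section. -/
theorem int_seven {R : Sylow 5 G} {K : Subgroup G} {M : Ideal AlgInt}
    {B : Finset (IrrCharacter G)} {ε : IrrCharacter G → ℤ} {a b c d : IrrCharacter G}
    (h5 : Seven.B5 R K M B ε a b c d) (hc : dg c = 1771) (hd : dg d = 5796)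
    {S : Sylow 7 G} {K' : Subgroup G} {M' : Ideal AlgInt}
    {D : BlockData 7 M' S 3 2} {a' : IrrCharacter G} (h7 : Seven.B7three S K' M' D a' b) :
    ∃ N : ℕ, N * Nat.card K' ^ 2 = 4993920 * Nat.card K := by
  classical
  have f5 : Fact (Nat.Prime 5) := ⟨by norm_num⟩
  have f7 : Fact (Nat.Prime 7) := ⟨by norm_num⟩
  have hR := Seven.card_five H R
  have hS := Seven.card_seven H S
  obtain ⟨y, hy, hy1⟩ := BlockIndex.exists_ne_one (P := (S : Subgroup G)) hS
  have hoy : orderOf y = 7 := orderOf_of_mem hS hy hy1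
  obtain ⟨N, hN⟩ := flat_int h5.loc.toFlat h5.loc.loc hR y y⁻¹
  have hB : B = [tr G, a, b, c, d].toFinset := by
    ext χ; rw [List.mem_toFinset]; exact h5.mem χ
  have h1 := index_mul h7.loc hS hy hy1
  have h1b := index_mul h7.loc hS (inv_mem hy) (inv_ne_one.2 hy1)
  have ha : (a : G → ℂ) y = 0 := seven_zero H a (by rw [h5.dg_a]; norm_num) (by rw [hoy])
  have hc : (c : G → ℂ) y = 0 := seven_zero H c (by rw [hc]; norm_num) (by rw [hoy])
  have hd : (d : G → ℂ) y = 0 := seven_zero H d (by rw [hd]; norm_num) (by rw [hoy])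
  have hbm : b ∈ D.one :: D.l := by rw [h7.l_eq]; simp
  have hb : (b : G → ℂ) y = 1 := by
    rw [D.val' hbm hy hy1, h7.ε_b]; norm_num
  have hb' : (b : G → ℂ) y⁻¹ = 1 := by
    rw [D.val' hbm (inv_mem hy) (inv_ne_one.2 hy1), h7.ε_b]; norm_num
  have hb1 : (b : G → ℂ) 1 = 2024 := by rw [dg_eq, h7.dg_b]; norm_num
  rw [hB, List.sum_toFinset _ h5.nodup] at hN
  simp only [List.map_cons, List.map_nil, List.sum_cons, List.sum_nil, ha, hb, hb', hb1, hc, hd,
    h5.ε_b, h5.ε_a, h5.loc.ε_one, coe_tr, Pi.one_apply] at hN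
  have hc0 : (Nat.card G : ℂ) ≠ 0 := by exact_mod_cast Nat.card_pos.ne'
  have h1' : (7 : ℂ) * Nat.card K' * (centralizer ({y} : Set G)).index = Nat.card G := by
    exact_mod_cast h1
  have h1b' : (7 : ℂ) * Nat.card K' * (centralizer ({y⁻¹} : Set G)).index = Nat.card G := by
    exact_mod_cast h1b
  refine ⟨N, ?_⟩
  have h2 : (N : ℂ) * (Nat.card K' : ℂ) ^ 2 * 49 * Nat.card G * 2024 =
      (Nat.card G : ℂ) ^ 2 * Nat.card K * 2023 := by
    calc (N : ℂ) * (Nat.card K' : ℂ) ^ 2 * 49 * Nat.card G * 2024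
        = ((N : ℂ) * Nat.card G) * ((Nat.card K' : ℂ) ^ 2 * 49 * 2024) := by ring
      _ = ((7 : ℂ) * Nat.card K' * (centralizer ({y} : Set G)).index) *
          (7 * Nat.card K' * (centralizer ({y⁻¹} : Set G)).index) * Nat.card K * 2023 := by
        rw [hN]; push_cast; ring
      _ = _ := by rw [h1', h1b']; ring
  have h3 : (Nat.card G : ℂ) * (N * (Nat.card K' : ℂ) ^ 2 * 99176) =
      (Nat.card G : ℂ) * (Nat.card G * Nat.card K * 2023) := by
    linear_combination h2
  have h4 := mul_left_cancel₀ hc0 h3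
  have h5 : N * Nat.card K' ^ 2 * 99176 = Nat.card G * Nat.card K * 2023 := by exact_mod_cast h4
  rw [H.hcard] at h5
  omega

/-- If `|N(P₇) : C(P₇)| = 3` and the degrees of the principal 5-block are
`1, 5544, 2024, 1771, 5796` then `|K₅| ≠ 192` and `|K₇| ≠ 384`. -/
theorem card_K_ne {R : Sylow 5 G} {K : Subgroup G} {M : Ideal AlgInt}
    {B : Finset (IrrCharacter G)} {ε : IrrCharacter G → ℤ} {a b c d : IrrCharacter G}
    (h5 : Seven.B5 R K M B ε a b c d) (hc : dg c = 1771) (hd : dg d = 5796)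
    {S : Sylow 7 G} {K' : Subgroup G} {M' : Ideal AlgInt}
    {D : BlockData 7 M' S 3 2} {a' : IrrCharacter G} (h7 : Seven.B7three S K' M' D a' b) :
    (Nat.card K = 2 ∨ Nat.card K = 12 ∨ Nat.card K = 32) ∧
      (Nat.card K' = 6 ∨ Nat.card K' = 48) := by
  obtain ⟨N, hN⟩ := int_five H h5 h7
  obtain ⟨N', hN'⟩ := int_seven H h5 hc hd h7
  have hK : Nat.card K = 2 ∨ Nat.card K = 12 ∨ Nat.card K = 32 ∨ Nat.card K = 192 := by
    rcases h5.dg_cd with h | h
    · omega
    · exact h.2.2
  have hK' := h7.card_K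
  rcases hK with hK | hK | hK | hK <;> rcases hK' with hK' | hK' | hK' <;>
    rw [hK, hK'] at hN hN' <;> norm_num at hN hN' <;> omega

end Cfsg.Agent.SporadicA.M24.Integral
end
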