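import Cfsg.Agent.SporadicA.M24.Seven
set_option linter.all false

/-!
# The involutions inverting the Sylow 11-subgroup of a simple group of order 244823040

* `exists_ten` : an element `m` of order 10 normalising `Q`, `m ^ 5` inverts `Q`
* `card_lt` : `|C(u)| < |u ^ G|` for an involution `u` inverting `Q`
* `exists_invol` : an involution `u ∈ C(R)`, `R` a Sylow 5-subgroup, conjugate to an involution
  inverting `Q`, with `10 ∣ |C(u)|`, `|C(u)| ≤ 15646`
-/

set_option autoImplicit false
set_option linter.unusedSectionVars false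

open Cfsg Subgroup
open Cfsg.Agent.Characters.Core
open Cfsg.Agent.SmallSimple
open Cfsg.Agent.M23Order.Base
open Cfsg.Agent.SporadicA.M24.Setup

namespace Cfsg.Agent.SporadicA.M24.InvolEleven

universe u

variable {G : Type u} [Group G] [Finite G]

/-- An element of order `e` normalising `P` for cyclic `P` of prime order with
`|N(P) : P| = p - 1`. -/
theorem exists_pred {p : ℕ} [hp : Fact p.Prime] {P : Subgroup G} (hP : Nat.card P = p)
    (hC : centralizer (P : Set G) = P)
    (he : (centralizer (P : Set G)).relIndex (normalizer (P : Set G)) = p - 1) :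
    ∃ m ∈ normalizer (P : Set G), orderOf m = p - 1 := by
  have hcyc : IsCyclic P := isCyclic_of_prime_card hP
  have hle : centralizer (P : Set G) ≤ normalizer (P : Set G) :=
    SylowPrimeCount.centralizer_le_normalizer' P
  have hcA : Nat.card (MulAut P) = p - 1 := by
    rw [hcyc.card_mulAut, hP, Nat.totient_prime hp.out]
  have hcN : Nat.card (normalizer (P : Set G)) = p * (p - 1) := by
    have h1 := relIndex_mul_relIndex (⊥ : Subgroup G) _ _ bot_le hle
    rw [relIndex_bot_left, relIndex_bot_left, he] at h1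
    rw [← h1, hC, hP]
  have hrange : Nat.card P.normalizerMonoidHom.range = p - 1 := by
    have h1 := Subgroup.index_ker P.normalizerMonoidHom
    rw [normalizerMonoidHom_ker] at h1
    rw [← h1]
    exact he
  have htop : P.normalizerMonoidHom.range = ⊤ := by
    apply Subgroup.eq_top_of_card_eq
    rw [hrange, hcA]
  have hcycA : IsCyclic (MulAut P) := by
    have h1 : IsCyclic (ZMod p)ˣ := inferInstance
    have h2 := (IsCyclic.mulAutMulEquiv P)
    rw [hP] at h2
    exact isCyclic_of_surjective h2.symm h2.symm.surjective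
  obtain ⟨g, hg⟩ := hcycA.exists_generator
  obtain ⟨n, hn⟩ : g ∈ P.normalizerMonoidHom.range := by rw [htop]; trivial
  have hog : orderOf g = p - 1 := by
    rw [← hcA]; exact orderOf_eq_card_of_forall_mem_zpowers hg
  have hm10 : (n ^ p) ^ (p - 1) = 1 := by
    rw [← pow_mul, ← hcN]
    exact pow_card_eq_one'
  have hgp : P.normalizerMonoidHom (n ^ p) = g := by
    rw [map_pow, hn]
    have h1 : g ^ (p - 1) = 1 := by rw [← hog]; exact pow_orderOf_eq_one g
    have h2 : p = (p - 1) + 1 := by have := hp.out.one_lt; omega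
    rw [h2, pow_succ]
    have h3 : g ^ (p - 1 + 1 - 1) = 1 := by simpa using h1
    simp [h1]
  refine ⟨((n ^ p : normalizer (P : Set G)) : G), (n ^ p).2, ?_⟩
  rw [orderOf_coe]
  apply Nat.dvd_antisymm
  · exact orderOf_dvd_of_pow_eq_one hm10
  · rw [← hog, ← hgp]
    exact orderOf_map_dvd _ _

/-- An involution normalising a self-centralising subgroup of prime order inverts it. -/
theorem inverts {p : ℕ} [hp : Fact p.Prime] (hp2 : p ≠ 2) {P : Subgroup G} (hP : Nat.card P = p)
    (hC : centralizer (P : Set G) = P) {w : G} (hw : w ∈ normalizer (P : Set G)) (hw2 : w ^ 2 = 1)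
    (hw1 : w ≠ 1) : ∀ x ∈ P, w * x * w⁻¹ = x⁻¹ := by
  have hcomm := PrimeLocal.comm_of_card_prime hp.out P hP
  have hwi : w⁻¹ = w := inv_eq_of_mul_eq_one_left (by rw [← pow_two]; exact hw2)
  have hwP : w ∉ P := by
    intro h
    have h1 : orderOf w ∣ p := by
      rw [← hP]; exact Subgroup.orderOf_dvd_natCard _ h
    have h2 : orderOf w ∣ 2 := orderOf_dvd_of_pow_eq_one hw2
    have h3 : orderOf w = 1 := by
      rcases (Nat.dvd_prime hp.out).1 h1 with h | h
      · exact h
      · rw [h] at h2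
        rcases (Nat.dvd_prime Nat.prime_two).1 h2 with h' | h'
        · exact absurd h' hp.out.one_lt.ne'
        · exact absurd h' hp2
    exact hw1 (orderOf_eq_one_iff.1 h3)
  intro x hx
  have hy : w * x * w⁻¹ ∈ P := (mem_normalizer_iff.1 hw x).1 hx
  by_contra hne
  have hz : w * x * w⁻¹ * x ≠ 1 := fun h => hne (eq_inv_of_mul_eq_one_left h)
  have hzP : w * x * w⁻¹ * x ∈ P := mul_mem hy hx
  have hfix : w * (w * x * w⁻¹ * x) * w⁻¹ = w * x * w⁻¹ * x := by
    calc w * (w * x * w⁻¹ * x) * w⁻¹ = (w * w) * x * w⁻¹ * x * w⁻¹ := by group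
      _ = x * (w * x * w⁻¹) := by
        rw [← pow_two, hw2, one_mul, hwi]; group
      _ = w * x * w⁻¹ * x := hcomm _ hx _ hy
  have h1 : w ∈ centralizer ({w * x * w⁻¹ * x} : Set G) := by
    rw [mem_centralizer_singleton_iff]
    exact mul_inv_eq_iff_eq_mul.1 hfix
  rw [BlockIndex.centralizer_eq hP hzP hz, hC] at h1
  exact hwP h1

/-- `|C(w)| < |w ^ G|` for an involution `w` inverting a self-centralising subgroup of odd prime
order. -/
theorem card_lt {p : ℕ} [hp : Fact p.Prime] (hp2 : p ≠ 2) {P : Subgroup G} (hP : Nat.card P = p)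
    (hC : centralizer (P : Set G) = P) {w : G} (hw : ∀ x ∈ P, w * x * w⁻¹ = x⁻¹) :
    Nat.card (centralizer ({w} : Set G)) < (centralizer ({w} : Set G)).index := by
  classical
  have hcomm := PrimeLocal.comm_of_card_prime hp.out P hP
  obtain ⟨s, hs, hs1⟩ := BlockIndex.exists_ne_one hP
  have hodd : ∀ x ∈ P, x ^ 2 = 1 → x = 1 := by
    intro x hx h
    have h1 : orderOf x ∣ p := by
      rw [← hP]; exact Subgroup.orderOf_dvd_natCard _ hx
    have h2 : orderOf x ∣ 2 := orderOf_dvd_of_pow_eq_one h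
    rcases (Nat.dvd_prime hp.out).1 h1 with h | h
    · exact orderOf_eq_one_iff.1 h
    · rw [h] at h2
      rcases (Nat.dvd_prime Nat.prime_two).1 h2 with h' | h'
      · exact absurd h' hp.out.one_lt.ne'
      · exact absurd h' hp2
  have hcs : ∀ x ∈ P, w * x = x * w → x = 1 := by
    intro x hx h
    apply hodd x hx
    have h1 := hw x hx
    rw [h, mul_inv_cancel_right] at h1
    rw [pow_two]
    nth_rw 1 [h1]
    rw [inv_mul_cancel]
  have hconj : s * w * s⁻¹ = s ^ 2 * w := by
    have h1 := hw s⁻¹ (inv_mem hs)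
    rw [inv_inv] at h1
    have h2 : w * s⁻¹ = s * w := mul_inv_eq_iff_eq_mul.1 h1
    rw [mul_assoc, h2, pow_two, mul_assoc]
  set C := centralizer ({w} : Set G) with hCdef
  have hmem : ∀ g, g ∈ C ↔ g * w = w * g := fun g => mem_centralizer_singleton_iff
  let ψ : C → G ⧸ C := fun h => (((h : G) * s : G) : G ⧸ C)
  have hψ : Function.Injective ψ := by
    intro h h' hh
    have h1 : ((h : G) * s)⁻¹ * ((h' : G) * s) ∈ C := QuotientGroup.eq.1 hh
    have h2 : ((h : G)⁻¹ * h') ∈ C := mul_mem (inv_mem h.2) h'.2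
    set k := (h : G)⁻¹ * h' with hk
    have h3 : s⁻¹ * k * s ∈ C := by
      have : s⁻¹ * k * s = ((h : G) * s)⁻¹ * ((h' : G) * s) := by rw [hk]; group
      rw [this]; exact h1
    rw [hmem] at h3 h2
    -- `k` commutes with `s w s⁻¹ = s² w`
    have h4 : k * (s ^ 2 * w) = (s ^ 2 * w) * k := by
      rw [← hconj]
      calc k * (s * w * s⁻¹) = s * ((s⁻¹ * k * s) * w) * s⁻¹ := by group
        _ = s * (w * (s⁻¹ * k * s)) * s⁻¹ := by rw [h3]
        _ = s * w * s⁻¹ * k := by group
    have h5 : k * s ^ 2 = s ^ 2 * k := by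
      have h6 : k * s ^ 2 * w = s ^ 2 * k * w := by
        calc k * s ^ 2 * w = k * (s ^ 2 * w) := by group
          _ = (s ^ 2 * w) * k := h4
          _ = s ^ 2 * (w * k) := by group
          _ = s ^ 2 * (k * w) := by rw [h2]
          _ = s ^ 2 * k * w := by group
      exact mul_right_cancel h6
    have h7 : s ^ 2 ≠ 1 := fun h => hs1 (hodd s hs h)
    have h8 : k ∈ centralizer ({s ^ 2} : Set G) := mem_centralizer_singleton_iff.2 h5
    rw [BlockIndex.centralizer_eq hP (pow_mem hs 2) h7, hC] at h8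
    have h9 : k = 1 := hcs k h8 h2.symm
    apply Subtype.ext
    rw [hk, inv_mul_eq_one] at h9
    exact h9
  have hns : ((1 : G) : G ⧸ C) ∉ Set.range ψ := by
    rintro ⟨h, hh⟩
    have h1 : ((h : G) * s)⁻¹ * 1 ∈ C := QuotientGroup.eq.1 hh
    rw [mul_one, inv_mem_iff] at h1
    have h2 : s ∈ C := by
      have := mul_mem (inv_mem h.2) h1
      rwa [inv_mul_cancel_left] at this
    exact hs1 (hcs s hs ((hmem s).1 h2).symm)
  have := Fintype.ofFinite C
  have := Fintype.ofFinite (G ⧸ C)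
  have h1 := Fintype.card_lt_of_injective_of_notMem ψ hψ hns
  rw [← Nat.card_eq_fintype_card, ← Nat.card_eq_fintype_card] at h1
  exact h1

variable [IsSimpleGroup G]

/-- The involution `u`. -/
theorem exists_invol (H : Hyp G) (R : Sylow 5 G) : ∃ u : G, u ^ 2 = 1 ∧ u ≠ 1 ∧
    u ∈ centralizer (R : Set G) ∧ 10 ∣ Nat.card (centralizer ({u} : Set G)) ∧
    Nat.card (centralizer ({u} : Set G)) ≤ 15646 ∧
    (∃ v, IsConj v u ∧ ∀ x ∈ (H.Q : Subgroup G), v * x * v⁻¹ = x⁻¹) := by
  have h11 : Fact (Nat.Prime 11) := ⟨by norm_num⟩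
  have h5 : Fact (Nat.Prime 5) := ⟨by norm_num⟩
  have hQ : Nat.card (H.Q : Subgroup G) = 11 := H.hQ
  have hCQ : centralizer ((H.Q : Subgroup G) : Set G) = (H.Q : Subgroup G) := H.hCQ
  have heQ : (centralizer ((H.Q : Subgroup G) : Set G)).relIndex
    (normalizer ((H.Q : Subgroup G) : Set G)) = 11 - 1 := H.heQ
  obtain ⟨m, hm, hom⟩ := exists_pred hQ hCQ heQ
  have hR : Nat.card R = 5 := by
    refine Simple168Max.card_sylow_eq_prime R ?_ ?_ <;> rw [H.hcard] <;> norm_num
  have ho2 : orderOf (m ^ 5) = 2 := by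
    rw [orderOf_pow_of_dvd (by norm_num) (by rw [hom]; norm_num), hom]
  have ho5 : orderOf (m ^ 2) = 5 := by
    rw [orderOf_pow_of_dvd (by norm_num) (by rw [hom]; norm_num), hom]
  have hinv := inverts (by norm_num) hQ hCQ (pow_mem hm 5)
    (by rw [← ho2]; exact pow_orderOf_eq_one _)
    (by intro h; rw [h, orderOf_one] at ho2; omega)
  have hlt := card_lt (by norm_num) hQ hCQ hinv
  obtain ⟨g, hg⟩ := InvolFour.exists_conj_mem_sylow R ho5
  have hne : g * m ^ 2 * g⁻¹ ≠ 1 := by
    intro h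
    have h1 : m ^ 2 = 1 := by
      have h4 : m ^ 2 = g⁻¹ * (g * m ^ 2 * g⁻¹) * g := by group
      rw [h4, h, mul_one, inv_mul_cancel]
    rw [h1, orderOf_one] at ho5
    omega
  have hcard : Nat.card (centralizer ({g * m ^ 5 * g⁻¹} : Set G)) =
      Nat.card (centralizer ({m ^ 5} : Set G)) := InvolFour.card_centralizer_conj _ _
  refine ⟨g * m ^ 5 * g⁻¹, ?_, ?_, ?_, ?_, ?_, m ^ 5, ?_, hinv⟩
  · rw [conj_pow, ← ho2, pow_orderOf_eq_one, mul_one, mul_inv_cancel]
  · intro h
    have h1 : m ^ 5 = 1 := by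
      have h4 : m ^ 5 = g⁻¹ * (g * m ^ 5 * g⁻¹) * g := by group
      rw [h4, h, mul_one, inv_mul_cancel]
    rw [h1, orderOf_one] at ho2
    omega
  · have h1 : g * m ^ 5 * g⁻¹ ∈ centralizer ({g * m ^ 2 * g⁻¹} : Set G) := by
      rw [mem_centralizer_singleton_iff]
      have h2 : m ^ 5 * m ^ 2 = m ^ 2 * m ^ 5 := by rw [← pow_add, ← pow_add]
      calc g * m ^ 5 * g⁻¹ * (g * m ^ 2 * g⁻¹) = g * (m ^ 5 * m ^ 2) * g⁻¹ := by group
        _ = g * (m ^ 2 * m ^ 5) * g⁻¹ := by rw [h2]
        _ = g * m ^ 2 * g⁻¹ * (g * m ^ 5 * g⁻¹) := by group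
    have h2 : centralizer ({g * m ^ 2 * g⁻¹} : Set G) = centralizer (R : Set G) :=
      BlockIndex.centralizer_eq (P := (R : Subgroup G)) hR hg hne
    rw [← h2]; exact h1
  · rw [hcard]
    have h1 : m ∈ centralizer ({m ^ 5} : Set G) := by
      rw [mem_centralizer_singleton_iff, ← pow_succ, ← pow_succ']
    have h2 := Subgroup.orderOf_dvd_natCard _ h1
    rwa [hom] at h2
  · rw [hcard]
    have h1 := card_mul_index (centralizer ({m ^ 5} : Set G))
    rw [H.hcard] at h1
    by_contra h2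
    push Not at h2
    have h3 : 15647 * 15647 ≤ Nat.card (centralizer ({m ^ 5} : Set G)) *
        (centralizer ({m ^ 5} : Set G)).index := Nat.mul_le_mul h2 (le_trans h2 hlt.le)
    omega
  · exact isConj_iff.2 ⟨g, rfl⟩

end Cfsg.Agent.SporadicA.M24.InvolEleven
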