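import Cfsg.Agent.M23.Adm
import Cfsg.Agent.SporadicA.M24.Sylow23
set_option linter.all false

/-!
# Degrees and sums over a Sylow 23-subgroup, order `244823040`
-/

set_option autoImplicit false

namespace Cfsg.Agent.SporadicA.M24.Adm

open Cfsg Cfsg.Agent.Characters.Core
open Cfsg.Agent.Blocks.Basic (irr_one_eq_charDegree)
open Cfsg.Agent.SmallSimple
open Cfsg.Agent.M23.Adm (V AdmAt V_const V_sum_hom exists_add_V)

universe u

variable {G : Type u} [Group G] [Finite G]

/-- In a simple group of order `244823040` the sum of an irreducible character over the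
nontrivial elements of a Sylow 23-subgroup is determined by the degree modulo 23. -/
theorem adm [IsSimpleGroup G] (hcard : Nat.card G = 244823040) (P : Sylow 23 G)
    (χ : IrrCharacter G) :
    ∃ s : ℤ, V (P : Subgroup G) (χ : G → ℂ) = s ∧ AdmAt (charDegree (χ : G → ℂ)) s := by
  have hp : Fact (Nat.Prime 23) := ⟨by norm_num⟩
  have hP : Nat.card (P : Subgroup G) = 23 := Sylow23.card_P hcard P
  obtain ⟨NE, X, ε, d, S, h1, h2, h3, h4, h5, h6, h7, h8, h9, h10, h11⟩ :=
    TheoremBCor.theoremB_selfCent 23 (by norm_num) P hP (Sylow23.centralizer_eq hcard P) 11 2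
      (Sylow23.relIndex_eq hcard P) (by norm_num)
  obtain ⟨m, hm⟩ := exists_add_V (isIrr_isCharacter χ.2) (P : Subgroup G)
  rw [irr_one_eq_charDegree χ.2, hP] at hm
  have key : ∀ s : ℤ, V (P : Subgroup G) (χ : G → ℂ) = s →
      (charDegree (χ : G → ℂ) : ℤ) + s = 23 * m := by
    intro s hs
    rw [hs] at hm
    exact_mod_cast hm
  by_cases hNE : χ ∈ NE
  · have hV := V_const (P : Subgroup G) (h7 χ hNE)
    rw [hP] at hV
    rcases h4 χ hNE with hε | hε
    · refine ⟨22, by rw [hV, hε]; norm_num, ?_⟩
      have := key 22 (by rw [hV, hε]; norm_num)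
      unfold AdmAt; omega
    · refine ⟨-22, by rw [hV, hε]; norm_num, ?_⟩
      have := key (-22) (by rw [hV, hε]; norm_num)
      unfold AdmAt; omega
  · by_cases hX : χ ∈ X
    · obtain ⟨hS1, hS2, hS3⟩ := h8 χ hX
      have hV := V_sum_hom hS2 hS3
      rw [hS1] at hV
      rcases h5 with hd | hd
      · refine ⟨-11, by rw [hV, hd]; norm_num, ?_⟩
        have := key (-11) (by rw [hV, hd]; norm_num)
        unfold AdmAt; omega
      · refine ⟨11, by rw [hV, hd]; norm_num, ?_⟩
        have := key 11 (by rw [hV, hd]; norm_num)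
        unfold AdmAt; omega
    · have hV := V_const (P : Subgroup G) (h11 χ hNE hX).1
      refine ⟨0, by rw [hV]; norm_num, ?_⟩
      have := key 0 (by rw [hV]; norm_num)
      unfold AdmAt; omega

end Cfsg.Agent.SporadicA.M24.Adm
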