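import Mathlib.Tactic
import Cfsg.Agent.M23.Block
import Cfsg.Agent.M23.Adm
import Cfsg.Agent.M23.SylowTools
import Cfsg.Agent.SporadicA.M24.Adm
import Cfsg.Agent.SmallSimple.FixCount
import Cfsg.Agent.SmallSimple.PrimeSylowAut
import Cfsg.Agent.MTwelve.ElevenBlock_mg
import Mathlib
import Cfsg.Agent.M23.ElevenTen
import Cfsg.Agent.SmallSimple.BlockIndex
import Cfsg.Agent.M23.ElevenFive
set_option linter.all false

-- part: SporadicA/M24/ElevenTwoArith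
section
/-!
# Arithmetic for the case `e = 5`, `|K| = 2` of the Sylow 11-subgroups

Degrees of a simple group of order `244823040`: `adm d` and `vv d` (the sum of the character over
the nonidentity elements of a Sylow 23-subgroup).
-/

set_option autoImplicit false

namespace Cfsg.Agent.SporadicA.M24.ElevenTwoArith

/-- `V(χ)` in terms of the degree. -/
def vv (d : ℕ) : ℤ :=
  if d % 23 = 0 then 0 else if d % 23 = 1 then 22 else if d % 23 = 22 then -22 else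
    if d % 23 = 11 then -11 else 11

/-- Admissible degrees. -/
def adm (d : ℕ) : Bool :=
  1 < d && 244823040 % d == 0 && d < 15647 &&
    (d % 23 == 0 || d % 23 == 1 || d % 23 == 22 || d % 23 == 11 || d % 23 == 12)

/-- The sign modulo five. -/
def s5 (d : ℕ) : ℤ := if d % 5 = 1 then 1 else -1

/-- The sign modulo eleven. -/
def s11 (d : ℕ) : ℤ := if d % 11 = 1 then 1 else -1

/-- The admissible degrees congruent to `±1` modulo 5. -/
def degs5 : List ℕ := [11, 24, 46, 69, 126, 161, 184, 231, 264, 276, 414, 506, 576, 621, 644, 736,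
  759, 896, 966, 1024, 1104, 1449, 1656, 1771, 2024, 2484, 2576, 2944, 3024, 3036, 3864, 4416,
  4554, 5544, 5796, 6336, 6624, 6831, 7084, 8096, 8694, 9856, 9936, 10304, 10626, 11776, 12144,
  13824, 15456]

/-- The admissible degrees congruent to `±1` modulo 11, except 45. -/
def degs11 : List ℕ := [12, 23, 230, 252, 276, 483, 540, 736, 1024, 1035, 1242, 1288, 2760, 3024,
  3312, 3840, 4830, 5796, 7360, 8832, 12420, 12880, 15456]

theorem smooth {k : ℕ} (h : k ∣ 244823040) :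
    ∃ a < 11, ∃ b < 4, ∃ c < 2, ∃ d < 2, ∃ e < 2, ∃ f < 2,
      k = 2 ^ a * (3 ^ b * (5 ^ c * (7 ^ d * (11 ^ e * 23 ^ f)))) := by
  have h1 : k ∣ 2 ^ 10 * (3 ^ 3 * (5 ^ 1 * (7 ^ 1 * (11 ^ 1 * 23 ^ 1)))) := by norm_num; exact h
  obtain ⟨x, y, hx, hy, hxy⟩ := (Nat.dvd_mul).1 h1
  obtain ⟨z, w, hz, hw, hzw⟩ := (Nat.dvd_mul).1 hy
  obtain ⟨s, t, hs, ht, hst⟩ := (Nat.dvd_mul).1 hw
  obtain ⟨s', t', hs', ht', hst'⟩ := (Nat.dvd_mul).1 ht
  obtain ⟨s'', t'', hs'', ht'', hst''⟩ := (Nat.dvd_mul).1 ht'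
  obtain ⟨a, ha, rfl⟩ := (Nat.dvd_prime_pow Nat.prime_two).1 hx
  obtain ⟨b, hb, rfl⟩ := (Nat.dvd_prime_pow Nat.prime_three).1 hz
  obtain ⟨c, hc, rfl⟩ := (Nat.dvd_prime_pow (by norm_num : Nat.Prime 5)).1 hs
  obtain ⟨d, hd, rfl⟩ := (Nat.dvd_prime_pow (by norm_num : Nat.Prime 7)).1 hs'
  obtain ⟨e, he, rfl⟩ := (Nat.dvd_prime_pow (by norm_num : Nat.Prime 11)).1 hs''
  obtain ⟨f, hf, rfl⟩ := (Nat.dvd_prime_pow (by norm_num : Nat.Prime 23)).1 ht''
  exact ⟨a, by omega, b, by omega, c, by omega, d, by omega, e, by omega, f, by omega, by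
    rw [← hxy, ← hzw, ← hst, ← hst', ← hst'']⟩

/-- The test for `degs5`. -/
def chk5 (d : ℕ) : Bool := !(adm d && (d % 5 == 1 || d % 5 == 4)) || degs5.contains d

/-- The test for `degs11`. -/
def chk11 (d : ℕ) : Bool := !(adm d && (d % 11 == 1 || d % 11 == 10)) || (d == 45 || degs11.contains d)

theorem mem_degs5' : ∀ a < 11, ∀ b < 4, ∀ c < 2, ∀ d < 2, ∀ e < 2, ∀ f < 2,
    chk5 (2 ^ a * (3 ^ b * (5 ^ c * (7 ^ d * (11 ^ e * 23 ^ f))))) = true := by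
  decide +kernel

theorem mem_degs11' : ∀ a < 11, ∀ b < 4, ∀ c < 2, ∀ d < 2, ∀ e < 2, ∀ f < 2,
    chk11 (2 ^ a * (3 ^ b * (5 ^ c * (7 ^ d * (11 ^ e * 23 ^ f))))) = true := by
  decide +kernel

theorem dvd_of_adm {d : ℕ} (h : adm d = true) : d ∣ 244823040 := by
  simp only [adm, Bool.and_eq_true, decide_eq_true_eq, beq_iff_eq] at h
  exact Nat.dvd_of_mod_eq_zero h.1.1.2

theorem mem_degs5 {d : ℕ} (h : adm d = true) (h5 : d % 5 = 1 ∨ d % 5 = 4) : d ∈ degs5 := by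
  obtain ⟨a, ha, b, hb, c, hc, d', hd, e, he, f, hf, hd'⟩ := smooth (dvd_of_adm h)
  have h1 := mem_degs5' a ha b hb c hc d' hd e he f hf
  rw [← hd'] at h1
  simp only [chk5, Bool.or_eq_true, Bool.not_eq_true', Bool.and_eq_false_iff, h,
    Bool.or_eq_false_iff, beq_eq_false_iff_ne, ne_eq, List.contains_iff_mem, reduceCtorEq,
    false_or] at h1
  rcases h1 with h1 | h1
  · omega
  · exact h1

theorem mem_degs11 {d : ℕ} (h : adm d = true) (h11 : d % 11 = 1 ∨ d % 11 = 10) :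
    d = 45 ∨ d ∈ degs11 := by
  obtain ⟨a, ha, b, hb, c, hc, d', hd, e, he, f, hf, hd'⟩ := smooth (dvd_of_adm h)
  have h1 := mem_degs11' a ha b hb c hc d' hd e he f hf
  rw [← hd'] at h1
  simp only [chk11, Bool.or_eq_true, Bool.not_eq_true', Bool.and_eq_false_iff, h,
    Bool.or_eq_false_iff, beq_eq_false_iff_ne, ne_eq, List.contains_iff_mem, reduceCtorEq,
    false_or, beq_iff_eq] at h1
  rcases h1 with h1 | h1
  · omega
  · exact h1

/-! ### `e₅ = 2` -/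

theorem two_cases' : ∀ d ∈ degs5, ∀ f ∈ [d - 1, d + 1], adm f = true →
    1 + s5 d * d = s5 d * f → 22 + s5 d * vv d = s5 d * vv f → (d = 11 ∧ f = 12) ∨
      (d = 24 ∧ f = 23) := by
  decide +kernel

/-! ### The order of the centralizer -/

def cs : List ℕ := [110, 1320, 6160, 15840, 73920, 190080, 887040, 10644480]

/-- The test for `cs`. -/
def chkc (c : ℕ) : Bool :=
  !(c % 110 == 0 && (c / 110 % 11 == 1 && !(c % 23 == 0))) || cs.contains c

theorem cent' : ∀ a < 11, ∀ b < 4, ∀ c < 2, ∀ d < 2, ∀ e < 2, ∀ f < 2,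
    chkc (2 ^ a * (3 ^ b * (5 ^ c * (7 ^ d * (11 ^ e * 23 ^ f))))) = true := by
  decide +kernel

theorem mem_cs {c : ℕ} (h : c ∣ 244823040) (h110 : c % 110 = 0) (h11 : (c / 110) % 11 = 1)
    (h23 : ¬ 23 ∣ c) : c ∈ cs := by
  obtain ⟨a, ha, b, hb, c', hc, d', hd, e, he, f, hf, hd'⟩ := smooth h
  have h1 := cent' a ha b hb c' hc d' hd e he f hf
  rw [← hd'] at h1
  have h2 : c % 23 ≠ 0 := fun h => h23 (Nat.dvd_of_mod_eq_zero h)
  simpa [chkc, h110, h11, h2] using h1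

/-! ### Values -/

/-- The condition on a value `z` of a character of degree `d`. -/
def cond (c d : ℕ) (z : ℤ) : Bool :=
  Nat.blt z.natAbs d && z * z < (c : ℤ) && (((244823040 / c : ℕ) : ℤ) * z) % (d : ℤ) == 0

/-- The possible values of a character of degree `d` in both principal blocks. -/
def zin (c d : ℕ) : List ℤ :=
  ((List.range (d / 110 + 1)).map fun k : ℕ => (d : ℤ) - 220 * (k : ℤ)).filter (cond c d)

/-- The possible values of a character of degree `d` outside of the principal 11-block. -/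
def zout (c d : ℕ) : List ℤ :=
  ((List.range (d / 110 + 1)).map fun k : ℕ =>
    (d : ℤ) - 20 * (11 * (k : ℤ) + (((11 - d % 11) % 11 : ℕ) : ℤ))).filter (cond c d)

theorem mem_zin {c d : ℕ} {z : ℤ} (hz : |z| < d) (h20 : (20 : ℤ) ∣ d - z) (h11 : (11 : ℤ) ∣ d - z)
    (hc : cond c d z = true) : z ∈ zin c d := by
  rw [abs_lt] at hz
  refine List.mem_filter.2 ⟨List.mem_map.2 ⟨((d - z) / 220).toNat, ?_, ?_⟩, hc⟩
  · rw [List.mem_range]
    omega
  · omega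

theorem mem_zout {c d : ℕ} {z : ℤ} (hz : |z| < d) (h20 : (20 : ℤ) ∣ d - z) (h11 : (11 : ℤ) ∣ d + z)
    (hc : cond c d z = true) : z ∈ zout c d := by
  rw [abs_lt] at hz
  refine List.mem_filter.2 ⟨List.mem_map.2 ⟨((d - z) / 220).toNat, ?_, ?_⟩, hc⟩
  · rw [List.mem_range]
    omega
  · omega

theorem cond_of {c d : ℕ} {z : ℤ} (hzd : |z| < d) (hz : z * z < c)
    (hd : (d : ℤ) ∣ ((244823040 / c : ℕ) : ℤ) * z) : cond c d z = true := by
  rw [abs_lt] at hzd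
  simp only [cond, Bool.and_eq_true, decide_eq_true_eq, beq_iff_eq, Nat.blt_eq]
  exact ⟨⟨by omega, hz⟩, Int.emod_eq_zero_of_dvd hd⟩

/-- The possible values of a character of degree `d`. -/
def zany (c d : ℕ) : List ℤ := zin c d ++ zout c d

/-! ### Case A -/

def spec : List ℕ := [736, 1024, 5796]

theorem mem_spec : ∀ d ∈ degs5, ((d % 5 = 1 ∧ d % 11 = 10) ∨ (d % 5 = 4 ∧ d % 11 = 1)) →
    d ∈ spec := by
  decide +kernel

/-- The last value of a column. -/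
def z3 (σ a b n : ℕ) (z0 z1 z2 : ℤ) : ℤ := s5 n * (-1 - s5 σ * z0 - s5 a * z1 - s5 b * z2)

/-- No common column. -/
def testA (c σ a b n : ℕ) : Bool :=
  (zin c σ).all fun z0 => (zany c a).all fun z1 => (zany c b).all fun z2 =>
    !((zany c n).contains (z3 σ a b n z0 z1 z2) &&
      decide (1 + z0 * z0 + z1 * z1 + z2 * z2 + z3 σ a b n z0 z1 z2 * z3 σ a b n z0 z1 z2 ≤ c))

/-- The last signed degree. -/
def m3 (σ a b : ℕ) : ℤ := -1 - s5 σ * σ - s5 a * a - s5 b * b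

/-- The test of Case A. -/
def chkA (σ a b : ℕ) : Bool :=
  !(Nat.ble a b && (Nat.ble b (m3 σ a b).natAbs && (degs5.contains (m3 σ a b).natAbs &&
    (s5 (m3 σ a b).natAbs * ((m3 σ a b).natAbs : ℤ) == m3 σ a b &&
    (22 + s5 σ * vv σ + s5 a * vv a + s5 b * vv b +
      s5 (m3 σ a b).natAbs * vv (m3 σ a b).natAbs == 0))))) ||
    cs.all fun c => testA c σ a b (m3 σ a b).natAbs

theorem caseA : ∀ σ ∈ spec, ∀ a ∈ degs5, ∀ b ∈ degs5, chkA σ a b = true := by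
  decide +kernel

theorem s5_sq (n : ℕ) : s5 n * s5 n = 1 := by
  unfold s5; split_ifs <;> rfl

/-- **Case A** is impossible. -/
theorem false_of_caseA {c σ a b n : ℕ} {z0 z1 z2 z3' : ℤ} (hc : c ∈ cs) (hσ : σ ∈ spec)
    (ha : a ∈ degs5) (hb : b ∈ degs5) (hn : n ∈ degs5) (hab : a ≤ b) (hbn : b ≤ n)
    (hsum : 1 + s5 σ * σ + s5 a * a + s5 b * b + s5 n * n = 0)
    (hV : 22 + s5 σ * vv σ + s5 a * vv a + s5 b * vv b + s5 n * vv n = 0)
    (h0 : z0 ∈ zin c σ) (h1 : z1 ∈ zany c a) (h2 : z2 ∈ zany c b) (h3 : z3' ∈ zany c n)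
    (hz : 1 + s5 σ * z0 + s5 a * z1 + s5 b * z2 + s5 n * z3' = 0)
    (hnorm : 1 + z0 * z0 + z1 * z1 + z2 * z2 + z3' * z3' ≤ c) : False := by
  have hm : m3 σ a b = s5 n * n := by unfold m3; linarith
  have hmn : (m3 σ a b).natAbs = n := by
    rw [hm]
    unfold s5
    split_ifs <;> omega
  have h4 := caseA σ hσ a ha b hb
  simp only [chkA, hmn, Bool.or_eq_true, Bool.not_eq_true', Bool.and_eq_false_iff] at h4
  rcases h4 with (h4 | h4 | h4 | h4 | h4) | h4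
  · rw [← Bool.not_eq_true, Nat.ble_eq] at h4; exact h4 hab
  · rw [← Bool.not_eq_true, Nat.ble_eq] at h4; exact h4 hbn
  · rw [← Bool.not_eq_true, List.contains_iff_mem] at h4; exact h4 hn
  · rw [beq_eq_false_iff_ne] at h4; exact h4 hm.symm
  · rw [beq_eq_false_iff_ne] at h4; exact h4 hV
  · have h5 := List.all_eq_true.1 h4 c hc
    have h6 := List.all_eq_true.1 (List.all_eq_true.1 (List.all_eq_true.1 h5 z0 h0) z1 h1) z2 h2
    have h7 : z3 σ a b n z0 z1 z2 = z3' := by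
      have := s5_sq n
      unfold z3
      linear_combination (-s5 n) * hz + z3' * this
    rw [h7] at h6
    simp only [Bool.not_eq_true', Bool.and_eq_false_iff, decide_eq_false_iff_not] at h6
    rcases h6 with h6 | h6
    · rw [← Bool.not_eq_true, List.contains_iff_mem] at h6; exact h6 h3
    · exact h6 hnorm

/-! ### Case B -/

/-- Possible degrees of the exceptional characters of the principal 11-block in case B. -/
def specB : List ℕ := [126, 621, 644, 896, 4416]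

theorem mem_specB : ∀ d ∈ degs5, ((d % 5 = 1 ∧ d % 11 = 5) ∨ (d % 5 = 4 ∧ d % 11 = 6)) →
    d ∈ specB := by
  decide +kernel

/-- The last signed degree. -/
def m2 (f a : ℕ) : ℤ := -1 - 2 * (s5 f * f) - s5 a * a

/-- The last value. -/
def z2B (f a b : ℕ) (z0 z1 : ℤ) : ℤ := s5 b * (-1 - 2 * (s5 f * z0) - s5 a * z1)

/-- Only one column. -/
def testB (c f a b : ℕ) : Bool :=
  (zin c f).all fun z0 => (zout c a).all fun z1 =>
    !((zout c b).contains (z2B f a b z0 z1) &&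
      decide (1 + 2 * (z0 * z0) + z1 * z1 + z2B f a b z0 z1 * z2B f a b z0 z1 ≤ c)) ||
    (c == 15840 && (f == 896 && z0 == 16))

/-- The test of Case B. -/
def chkB (f a : ℕ) : Bool :=
  !(Nat.ble a (m2 f a).natAbs && (degs5.contains (m2 f a).natAbs &&
    (s5 (m2 f a).natAbs * ((m2 f a).natAbs : ℤ) == m2 f a &&
    (22 + 2 * (s5 f * vv f) + s5 a * vv a +
      s5 (m2 f a).natAbs * vv (m2 f a).natAbs == 0)))) ||
    cs.all fun c => testB c f a (m2 f a).natAbs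

theorem caseB : ∀ f ∈ specB, ∀ a ∈ degs5, chkB f a = true := by
  decide +kernel

/-- **Case B**. -/
theorem eq_of_caseB {c f a b : ℕ} {z0 z1 z2 : ℤ} (hc : c ∈ cs) (hf : f ∈ specB)
    (ha : a ∈ degs5) (hb : b ∈ degs5) (hab : a ≤ b)
    (hsum : 1 + 2 * (s5 f * f) + s5 a * a + s5 b * b = 0)
    (hV : 22 + 2 * (s5 f * vv f) + s5 a * vv a + s5 b * vv b = 0)
    (h0 : z0 ∈ zin c f) (h1 : z1 ∈ zout c a) (h2 : z2 ∈ zout c b)
    (hz : 1 + 2 * (s5 f * z0) + s5 a * z1 + s5 b * z2 = 0)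
    (hnorm : 1 + 2 * (z0 * z0) + z1 * z1 + z2 * z2 ≤ c) : c = 15840 ∧ f = 896 := by
  have hm : m2 f a = s5 b * b := by unfold m2; linarith
  have hmn : (m2 f a).natAbs = b := by
    rw [hm]
    unfold s5
    split_ifs <;> omega
  have h4 := caseB f hf a ha
  simp only [chkB, hmn, Bool.or_eq_true, Bool.not_eq_true', Bool.and_eq_false_iff] at h4
  rcases h4 with (h4 | h4 | h4 | h4) | h4
  · rw [← Bool.not_eq_true, Nat.ble_eq] at h4; exact absurd hab h4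
  · rw [← Bool.not_eq_true, List.contains_iff_mem] at h4; exact absurd hb h4
  · rw [beq_eq_false_iff_ne] at h4; exact absurd hm.symm h4
  · rw [beq_eq_false_iff_ne] at h4; exact absurd hV h4
  · have h5 := List.all_eq_true.1 h4 c hc
    have h6 := List.all_eq_true.1 (List.all_eq_true.1 h5 z0 h0) z1 h1
    have h7 : z2B f a b z0 z1 = z2 := by
      have := s5_sq b
      unfold z2B
      linear_combination (-s5 b) * hz + z2 * this
    rw [h7] at h6
    simp only [Bool.or_eq_true, Bool.not_eq_true', Bool.and_eq_false_iff, decide_eq_false_iff_not,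
      Bool.and_eq_true, beq_iff_eq] at h6
    rcases h6 with (h6 | h6) | h6
    · rw [← Bool.not_eq_true, List.contains_iff_mem] at h6; exact absurd h2 h6
    · exact absurd hnorm h6
    · exact ⟨h6.1, h6.2.1⟩

/-! ### The principal 11-block -/

/-- The last signed degree. -/
def m4 (a b c : ℕ) : ℤ := 895 - s11 a * a - s11 b * b - s11 c * c

/-- The test. -/
def chk4 (a b c : ℕ) : Bool :=
  !(degs11.contains (m4 a b c).natAbs &&
    (s11 (m4 a b c).natAbs * ((m4 a b c).natAbs : ℤ) == m4 a b c &&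
    (s11 a * vv a + s11 b * vv b + s11 c * vv c +
      s11 (m4 a b c).natAbs * vv (m4 a b c).natAbs == -44)))

theorem case4 : ∀ a ∈ degs11, ∀ b ∈ degs11, a ≤ b → ∀ c ∈ degs11, b ≤ c →
    chk4 a b c = true := by
  decide +kernel

theorem false_of_case4 {a b c d : ℕ} (ha : a ∈ degs11) (hb : b ∈ degs11) (hc : c ∈ degs11)
    (hd : d ∈ degs11) (hab : a ≤ b) (hbc : b ≤ c)
    (hsum : s11 a * a + s11 b * b + s11 c * c + s11 d * d = 895)
    (hV : s11 a * vv a + s11 b * vv b + s11 c * vv c + s11 d * vv d = -44) : False := by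
  have hm : m4 a b c = s11 d * d := by unfold m4; linarith
  have hmn : (m4 a b c).natAbs = d := by
    rw [hm]
    unfold s11
    split_ifs <;> omega
  have h4 := case4 a ha b hb hab c hc hbc
  simp only [chk4, hmn, Bool.not_eq_true', Bool.and_eq_false_iff] at h4
  rcases h4 with h4 | h4 | h4
  · rw [← Bool.not_eq_true, List.contains_iff_mem] at h4; exact h4 hd
  · rw [beq_eq_false_iff_ne] at h4; exact h4 hm.symm
  · rw [beq_eq_false_iff_ne] at h4; exact h4 hV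

end Cfsg.Agent.SporadicA.M24.ElevenTwoArith
end

-- part: SporadicA/M24/BlockTwo
section
/-!
# The principal block if `C(P) = P × ⟨t⟩`

* `Blk.dvd_sub`: `χ(s) ≡ χ(1)` modulo `p` for `χ` in the principal block, `s ∈ C(P)` a `p'`-element;
* `add_eq_zero`: if `|C(P)| = 2p` then `χ(x) + χ(x t) = 0` for `χ` outside of the principal block;
* `dvd_add`: then `χ(t) ≡ -χ(1)` modulo `p`.
-/

set_option autoImplicit false
set_option linter.unusedSectionVars false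

open scoped ComplexConjugate

namespace Cfsg.Agent.SporadicA.M24.BlockTwo

open Cfsg Subgroup Cfsg.Agent.Characters.Core
open Cfsg.Agent.Blocks.Basic (irr_one_eq_charDegree)
open Cfsg.Agent.SmallSimple
open Cfsg.Agent.M23.Block

universe u

variable {G : Type u} [Group G] [Finite G] {p : ℕ} [hp : Fact p.Prime] {P : Sylow p G} {e t' : ℕ}
  {M : Ideal AlgInt} {NE X : Finset (IrrCharacter G)} {ε : IrrCharacter G → ℤ} {d : ℤ}
  {S : IrrCharacter G → Finset (P →* ℂˣ)}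

theorem not_dvd_one : ¬ p ∣ orderOf (1 : G) := by
  rw [orderOf_one]
  exact fun h => hp.out.one_lt.ne' (Nat.dvd_one.1 h)

/-- Members of the principal block are constant on `x y`. -/
theorem mul_eq (B : Blk p P e t' M NE X ε d S) {χ : IrrCharacter G} (hχ : χ ∈ NE ∨ χ ∈ X)
    {s : G} (hs : s ∈ centralizer (P : Set G)) (hsp : ¬ p ∣ orderOf s) {x : G} (hx : x ∈ P)
    (hx1 : x ≠ 1) : (χ : G → ℂ) (x * s) = (χ : G → ℂ) x := by
  rcases hχ with hχ | hχ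
  · have h11 := B.val_NE χ hχ x hx hx1 1 (one_mem _) not_dvd_one
    rw [mul_one] at h11
    rw [h11, B.val_NE χ hχ x hx hx1 s hs hsp]
  · have h11 := (B.val_X χ hχ).2.2 ⟨x, hx⟩ (fun h => hx1 (congrArg Subtype.val h)) 1
      (one_mem _) not_dvd_one
    rw [mul_one] at h11
    rw [(B.val_X χ hχ).2.2 ⟨x, hx⟩ (fun h => hx1 (congrArg Subtype.val h)) s hs hsp]
    exact h11.symm

/-- `χ(s) ≡ χ(1)` modulo `p` for `χ` in the principal block. -/
theorem dvd_sub (B : Blk p P e t' M NE X ε d S) (hP : Nat.card P = p) {χ : IrrCharacter G}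
    (hχ : χ ∈ NE ∨ χ ∈ X) {s : G} (hs : s ∈ centralizer (P : Set G)) (hsp : ¬ p ∣ orderOf s) {z : ℤ}
    (hz : (χ : G → ℂ) s = z) : (p : ℤ) ∣ (charDegree (χ : G → ℂ) : ℤ) - z :=
  M23.SylowTools.dvd_sub_of_mul_eq B.modular (P := (P : Subgroup G)) hP χ.2 hs hsp
    (fun _ hx hx1 => mul_eq B hχ hs hsp hx hx1) (n := (charDegree (χ : G → ℂ) : ℤ)) (z := z)
    (by rw [irr_one_eq_charDegree χ.2]; push_cast; rfl) hz

/-- The degree of a nonexceptional character modulo `p`. -/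
theorem dvd_NE (B : Blk p P e t' M NE X ε d S) (hP : Nat.card P = p) {χ : IrrCharacter G}
    (hχ : χ ∈ NE) : (p : ℤ) ∣ (charDegree (χ : G → ℂ) : ℤ) - ε χ := by
  have hv : ∀ x ∈ (P : Subgroup G), x ≠ 1 → (χ : G → ℂ) x = ε χ := by
    intro x hx hx1
    have := B.val_NE χ hχ x hx hx1 1 (one_mem _) not_dvd_one
    rwa [mul_one] at this
  obtain ⟨m, hm⟩ := TheoremBCor.degree_nonexc (p := p) (P := (P : Subgroup G)) hP
    (isIrr_isCharacter χ.2) hv
  rw [irr_one_eq_charDegree χ.2] at hm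
  refine ⟨(m : ℤ) - ε χ, ?_⟩
  have : ((charDegree (χ : G → ℂ) : ℤ) : ℂ) = ((ε χ + p * ((m : ℤ) - ε χ) : ℤ) : ℂ) := by
    push_cast; exact hm
  have := Int.cast_injective this
  rw [this]; ring

/-- The degree of an exceptional character modulo `p`. -/
theorem dvd_X (B : Blk p P e t' M NE X ε d S) (hP : Nat.card P = p) {χ : IrrCharacter G}
    (hχ : χ ∈ X) : (p : ℤ) ∣ (charDegree (χ : G → ℂ) : ℤ) - d * e := by
  obtain ⟨hc, h1S, hv⟩ := B.val_X χ hχ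
  have hv' : ∀ x : P, x ≠ 1 → (χ : G → ℂ) x = d * ∑ l ∈ S χ, ((l x : ℂˣ) : ℂ) := by
    intro x hx1
    have := hv x hx1 1 (one_mem _) not_dvd_one
    rwa [mul_one] at this
  obtain ⟨m, hm⟩ := TheoremBCor.degree_exc (p := p) (P := (P : Subgroup G)) hP
    (isIrr_isCharacter χ.2) h1S hv'
  rw [irr_one_eq_charDegree χ.2, hc] at hm
  refine ⟨m, ?_⟩
  have : ((charDegree (χ : G → ℂ) : ℤ) : ℂ) = ((d * e + p * m : ℤ) : ℂ) := by
    push_cast; exact hm
  have := Int.cast_injective this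
  rw [this]; ring

section two

variable {t : G}

theorem mul_ne (hP : Nat.card P = p) (hp2 : p ≠ 2) (ht : t ∈ centralizer (P : Set G))
    (hto : orderOf t = 2) {x : G} (hx : x ∈ P) (hx1 : x ≠ 1) : orderOf (x * t) = 2 * p := by
  have hox := Cfsg.Agent.Blocks.CyclicOrtho.orderOf_eq P hP hx hx1
  have hc : Commute x t := mem_centralizer_iff.1 ht x hx
  rw [hc.orderOf_mul_eq_mul_orderOf_of_coprime, hox, hto, mul_comm]
  rw [hox, hto]
  exact (Nat.coprime_primes hp.out Nat.prime_two).2 hp2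

theorem not_isConj (hP : Nat.card P = p) (hp2 : p ≠ 2) (ht : t ∈ centralizer (P : Set G))
    (hto : orderOf t = 2) {x : G} (hx : x ∈ P) (hx1 : x ≠ 1) : ¬ IsConj x (x * t) := by
  intro h
  obtain ⟨c, hc⟩ := isConj_iff.1 h
  have h1 := mul_ne hP hp2 ht hto hx hx1
  rw [← hc] at h1
  have h2 := orderOf_injective (MulAut.conj c).toMonoidHom (MulAut.conj c).injective x
  have h3 : (MulAut.conj c).toMonoidHom x = c * x * c⁻¹ := rfl
  rw [h3, h1, Cfsg.Agent.Blocks.CyclicOrtho.orderOf_eq P hP hx hx1] at h2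
  have := hp.out.pos
  omega

theorem card_centralizer_mul_le (hP : Nat.card P = p) (hp2 : p ≠ 2)
    (ht : t ∈ centralizer (P : Set G)) (hto : orderOf t = 2) {x : G} (hx : x ∈ P) (hx1 : x ≠ 1) :
    Nat.card (centralizer ({x * t} : Set G)) ≤ Nat.card (centralizer ({x} : Set G)) := by
  apply Nat.card_mono (Set.toFinite _)
  intro c hc
  rw [SetLike.mem_coe, mem_centralizer_singleton_iff] at hc ⊢
  have hox := Cfsg.Agent.Blocks.CyclicOrtho.orderOf_eq P hP hx hx1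
  have hct : Commute x t := mem_centralizer_iff.1 ht x hx
  have h1 : (x * t) ^ (p + 1) = x := by
    rw [hct.mul_pow, pow_succ x, ← hox, pow_orderOf_eq_one, one_mul, hox]
    have heven : 2 ∣ p + 1 := by
      rcases hp.out.eq_two_or_odd with h | h
      · exact absurd h hp2
      · omega
    obtain ⟨k, hk⟩ := heven
    rw [hk, pow_mul, ← hto, pow_orderOf_eq_one, one_pow, mul_one]
  have h2 : Commute c (x * t) := hc
  have h3 := h2.pow_right (p + 1)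
  rw [h1] at h3
  exact h3

/-- **Rule (Z)** if `|C(P)| = 2 p`. -/
theorem add_eq_zero (B : Blk p P e t' M NE X ε d S) (hP : Nat.card P = p) (hp2 : p ≠ 2)
    (hC : Nat.card (centralizer (P : Set G)) = 2 * p) (ht : t ∈ centralizer (P : Set G))
    (hto : orderOf t = 2) {χ : IrrCharacter G} (h1 : χ ∉ NE) (h2 : χ ∉ X) {x : G} (hx : x ∈ P)
    (hx1 : x ≠ 1) : (χ : G → ℂ) x + (χ : G → ℂ) (x * t) = 0 := by
  classical
  have := finite_irr (G := G)
  have := Fintype.ofFinite (IrrCharacter G)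
  have htp : ¬ p ∣ orderOf t := by
    rw [hto]
    intro h
    exact hp2 ((Nat.prime_dvd_prime_iff_eq hp.out Nat.prime_two).1 h)
  have hCx : Nat.card (centralizer ({x} : Set G)) = 2 * p := by
    rw [Cfsg.Agent.Blocks.CyclicOrtho.centralizer_eq P hP hx hx1]
    exact hC
  have hCxt : Nat.card (centralizer ({x * t} : Set G)) ≤ 2 * p := by
    rw [← hCx]
    exact card_centralizer_mul_le hP hp2 ht hto hx hx1
  have hnc := not_isConj hP hp2 ht hto hx hx1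
  have e1 := (Cfsg.Agent.S0145.result x x).1 (IsConj.refl x)
  have e2 := (Cfsg.Agent.S0145.result (x * t) (x * t)).1 (IsConj.refl _)
  have e3 := (Cfsg.Agent.S0145.result x (x * t)).2 hnc
  have e4 := (Cfsg.Agent.S0145.result (x * t) x).2 (fun h => hnc h.symm)
  rw [finsum_eq_sum_of_fintype] at e1 e2 e3 e4
  -- the total sum of squares
  have hsum : ∑ ψ : IrrCharacter G, ‖(ψ : G → ℂ) x + (ψ : G → ℂ) (x * t)‖ ^ 2 =
      (Nat.card (centralizer ({x} : Set G)) : ℝ) +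
        (Nat.card (centralizer ({x * t} : Set G)) : ℝ) := by
    have h3 : ((∑ ψ : IrrCharacter G, ‖(ψ : G → ℂ) x + (ψ : G → ℂ) (x * t)‖ ^ 2 : ℝ) : ℂ) =
        (((Nat.card (centralizer ({x} : Set G)) : ℝ) +
        (Nat.card (centralizer ({x * t} : Set G)) : ℝ) : ℝ) : ℂ) := by
      push_cast
      rw [← e1, ← e2, ← Finset.sum_add_distrib]
      have h4 : ∑ ψ : IrrCharacter G, ((ψ : G → ℂ) x * conj ((ψ : G → ℂ) (x * t)) +
          (ψ : G → ℂ) (x * t) * conj ((ψ : G → ℂ) x)) = 0 := by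
        rw [Finset.sum_add_distrib, e3, e4, add_zero]
      rw [← add_zero (∑ ψ : IrrCharacter G, ((ψ : G → ℂ) x * conj ((ψ : G → ℂ) x) +
        (ψ : G → ℂ) (x * t) * conj ((ψ : G → ℂ) (x * t)))), ← h4, ← Finset.sum_add_distrib]
      refine Finset.sum_congr rfl fun ψ _ => ?_
      have h5 : ((‖(ψ : G → ℂ) x + (ψ : G → ℂ) (x * t)‖ : ℂ)) ^ 2 =
          ((ψ : G → ℂ) x + (ψ : G → ℂ) (x * t)) *
            conj ((ψ : G → ℂ) x + (ψ : G → ℂ) (x * t)) := by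
        rw [Complex.mul_conj, Complex.normSq_eq_norm_sq]
        push_cast
        rfl
      rw [h5, map_add]
      ring
    exact_mod_cast h3
  -- the principal block
  have hgram := Cfsg.Agent.Blocks.CyclicOrtho.gram P hP B.modular hx hx1 hx hx1
  rw [if_pos (IsConj.refl x), Cfsg.Agent.Blocks.Orthogonality.finsum_mem_eq_sum_filter] at hgram
  have hset : (Finset.univ.filter fun ψ : IrrCharacter G => ψ ∈ principalBlock M G) = NE ∪ X := by
    ext ψ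
    rw [Finset.mem_filter, Finset.mem_union, B.mem_iff]
    simp
  have hblock : ∑ ψ ∈ NE ∪ X, ‖(ψ : G → ℂ) x + (ψ : G → ℂ) (x * t)‖ ^ 2 = (4 * p : ℝ) := by
    have h3 : ((∑ ψ ∈ NE ∪ X, ‖(ψ : G → ℂ) x + (ψ : G → ℂ) (x * t)‖ ^ 2 : ℝ) : ℂ) =
        ((4 * p : ℝ) : ℂ) := by
      push_cast
      rw [← hgram, hset, Finset.mul_sum]
      refine Finset.sum_congr rfl fun ψ hψ => ?_
      have h6 := mul_eq B (Finset.mem_union.1 hψ) ht htp hx hx1
      rw [h6, ← two_mul, norm_mul]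
      push_cast
      have h5 : ((‖(ψ : G → ℂ) x‖ : ℂ)) ^ 2 = (ψ : G → ℂ) x * conj ((ψ : G → ℂ) x) := by
        rw [Complex.mul_conj, Complex.normSq_eq_norm_sq]
        push_cast
        rfl
      rw [mul_pow, h5]
      norm_num
    exact_mod_cast h3
  have hχ : χ ∉ NE ∪ X := by
    rw [Finset.mem_union, not_or]
    exact ⟨h1, h2⟩
  have hle : ∑ ψ ∈ insert χ (NE ∪ X), ‖(ψ : G → ℂ) x + (ψ : G → ℂ) (x * t)‖ ^ 2 ≤
      ∑ ψ : IrrCharacter G, ‖(ψ : G → ℂ) x + (ψ : G → ℂ) (x * t)‖ ^ 2 :=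
    Finset.sum_le_sum_of_subset_of_nonneg (Finset.subset_univ _) fun _ _ _ => by positivity
  rw [Finset.sum_insert hχ, hblock, hsum, hCx] at hle
  have h7 : (Nat.card (centralizer ({x * t} : Set G)) : ℝ) ≤ 2 * p := by exact_mod_cast hCxt
  push_cast at hle
  have h8 : ‖(χ : G → ℂ) x + (χ : G → ℂ) (x * t)‖ ^ 2 ≤ 0 := by linarith
  have h9 : ‖(χ : G → ℂ) x + (χ : G → ℂ) (x * t)‖ = 0 := by
    have := le_antisymm h8 (by positivity)
    exact pow_eq_zero_iff (two_ne_zero) |>.1 this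
  exact norm_eq_zero.1 h9

/-- `χ(t) ≡ -χ(1)` modulo `p` outside of the principal block. -/
theorem dvd_add (B : Blk p P e t' M NE X ε d S) (hP : Nat.card P = p) (hp2 : p ≠ 2)
    (hC : Nat.card (centralizer (P : Set G)) = 2 * p) (ht : t ∈ centralizer (P : Set G))
    (hto : orderOf t = 2) {χ : IrrCharacter G} (h1 : χ ∉ NE) (h2 : χ ∉ X) {z : ℤ}
    (hz : (χ : G → ℂ) t = z) : (p : ℤ) ∣ (charDegree (χ : G → ℂ) : ℤ) + z := by
  have hM := B.modular
  have htp : ¬ p ∣ orderOf t := by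
    rw [hto]
    intro h
    exact hp2 ((Nat.prime_dvd_prime_iff_eq hp.out Nat.prime_two).1 h)
  have hnt : Nontrivial (P : Subgroup G) := by
    rw [← Finite.one_lt_card_iff_nontrivial]
    exact hp.out.one_lt.trans_eq hP.symm
  obtain ⟨⟨x, hx⟩, hx1⟩ := exists_ne (1 : (P : Subgroup G))
  have hx1' : x ≠ 1 := fun h => hx1 (Subtype.ext h)
  have hox := Cfsg.Agent.Blocks.CyclicOrtho.orderOf_eq P hP hx hx1'
  have hcomm : Commute x t := mem_centralizer_iff.1 ht x hx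
  have h3 := Cfsg.Agent.CharactersDeep.ModCongr.memLocalIdeal_character_sub hM χ.2 (x * t) x
    ⟨t, rfl, hcomm, ⟨1, by rw [hox, pow_one]⟩, htp⟩
  have h4 := Cfsg.Agent.CharactersDeep.ModCongr.memLocalIdeal_character_sub hM χ.2 x x
    ⟨1, mul_one x, Commute.one_right x, ⟨1, by rw [hox, pow_one]⟩, not_dvd_one⟩
  rw [inv_mul_cancel_left, hz] at h3
  rw [inv_mul_cancel, irr_one_eq_charDegree χ.2] at h4
  have hprime : M.IsPrime := hM.2.1.isPrime
  have h5 := Cfsg.Agent.Blocks.Local.memLocalIdeal_add h3 h4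
  have h0 := add_eq_zero B hP hp2 hC ht hto h1 h2 hx hx1'
  have h6 : (χ : G → ℂ) (x * t) - (z : ℂ) +
      ((χ : G → ℂ) x - (charDegree (χ : G → ℂ) : ℂ)) =
      ((-((charDegree (χ : G → ℂ) : ℤ) + z) : ℤ) : ℂ) := by
    push_cast
    linear_combination h0
  rw [h6] at h5
  have h7 := (Cfsg.Agent.Blocks.Local.memLocalIdeal_intCast_iff hM _).1 h5
  exact (Int.dvd_neg).1 h7

end two

end Cfsg.Agent.SporadicA.M24.BlockTwo
end

-- part: SporadicA/M24/ElevenTwoLocal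
section
/-!
# The case `e = 5`, `|K| = 2` of the Sylow 11-subgroups: local analysis and values
-/

set_option autoImplicit false
set_option linter.unusedSectionVars false

namespace Cfsg.Agent.SporadicA.M24.ElevenTwoLocal

open Cfsg Subgroup Cfsg.Agent.Characters.Core
open Cfsg.Agent.Blocks.Basic (irr_one_eq_charDegree)
open Cfsg.Agent.SmallSimple Cfsg.Agent.SmallSimple.PrimeLocal
open Cfsg.Agent.M23.Block
open Cfsg.Agent.M23.Adm (V AdmAt V_const V_sum_hom exists_add_V sum_V)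
open Cfsg.Agent.SporadicA.M24.Sylow23 Cfsg.Agent.SporadicA.M24.ElevenTwoArith

universe u

variable {G : Type u} [Group G] [Finite G]

/-- The local data. -/
structure Loc (P : Sylow 11 G) (Q : Sylow 5 G) (t : G) : Prop where
  t_mem : t ∈ centralizer (P : Set G)
  t_ord : orderOf t = 2
  t_memQ : t ∈ centralizer (Q : Set G)
  cardC : Nat.card (centralizer (P : Set G)) = 2 * 11
  card_cs : Nat.card (centralizer ({t} : Set G)) ∈ cs

theorem card_Q (hcard : Nat.card G = 244823040) (Q : Sylow 5 G) : Nat.card Q = 5 := by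
  have : Fact (Nat.Prime 5) := ⟨by norm_num⟩
  exact card_of_not_sq_dvd (by rw [hcard]; norm_num) (by rw [hcard]; norm_num) Q

theorem card_P11 (hcard : Nat.card G = 244823040) (P : Sylow 11 G) : Nat.card P = 11 := by
  have : Fact (Nat.Prime 11) := ⟨by norm_num⟩
  exact card_of_not_sq_dvd (by rw [hcard]; norm_num) (by rw [hcard]; norm_num) P

variable [IsSimpleGroup G]

theorem commutator_eq (hcard : Nat.card G = 244823040) : commutator G = ⊤ :=
  MTwelve.SmallDegree.commutator_eq_top_of_card (by rw [hcard]; norm_num)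

/-- An element whose centralizer contains an element of order 23 has order dividing 23. -/
theorem not_dvd_centralizer (hcard : Nat.card G = 244823040) {t : G} (ht : orderOf t = 2) :
    ¬ 23 ∣ Nat.card (centralizer ({t} : Set G)) := by
  intro hdvd
  have hp : Fact (Nat.Prime 23) := ⟨by norm_num⟩
  obtain ⟨⟨x, hx⟩, hox⟩ := exists_prime_orderOf_dvd_card' 23 hdvd
  have hox' : orderOf x = 23 := by rwa [← Subgroup.orderOf_coe] at hox
  obtain ⟨P, hPx⟩ := PrimeSylowAut.exists_sylow_eq_zpowers (fun P => card_P hcard P) hox'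
  have htP : t ∈ (P : Subgroup G) := by
    rw [← Sylow23.centralizer_eq hcard P, mem_centralizer_iff]
    intro y hy
    have hy' : y ∈ zpowers x := by rw [← hPx]; exact hy
    obtain ⟨i, rfl⟩ := mem_zpowers_iff.1 hy'
    exact (Commute.zpow_left (mem_centralizer_singleton_iff.1 hx : Commute x t) i)
  have h1 : orderOf t ∣ 23 := by
    have := orderOf_dvd_natCard (⟨t, htP⟩ : (P : Subgroup G))
    rw [Subgroup.orderOf_mk] at this
    have h2 : Nat.card (P : Subgroup G) = 23 := card_P hcard P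
    rwa [h2] at this
  rw [ht] at h1
  norm_num at h1

theorem exists_loc (hcard : Nat.card G = 244823040) {P : Sylow 11 G} {K : Subgroup G}
    (h : IsLocal 11 P 5 K) (hK : Nat.card K = 2) : ∃ (Q : Sylow 5 G) (t : G), Loc P Q t := by
  have hfact2 : Fact (Nat.Prime 2) := ⟨by norm_num⟩
  have hfact5 : Fact (Nat.Prime 5) := ⟨by norm_num⟩
  have hfact11 : Fact (Nat.Prime 11) := ⟨by norm_num⟩
  obtain ⟨t, ht⟩ := exists_prime_orderOf_dvd_card' (G := K) 2 (by rw [hK])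
  have ht' : orderOf (t : G) = 2 := by rw [Subgroup.orderOf_coe, ht]
  have ht1 : (t : G) ≠ 1 := by
    intro h
    rw [h, orderOf_one] at ht'
    omega
  have htt : ∀ s ∈ K, s ≠ 1 → s = t := by
    intro s hs hs1
    have h1 : Nat.card (zpowers (t : G)) = Nat.card K := by rw [Nat.card_zpowers, ht', hK]
    have h2 : zpowers (t : G) = K :=
      Subgroup.eq_of_le_of_card_ge (by rw [zpowers_le]; exact t.2) h1.symm.le
    rw [← h2] at hs
    obtain ⟨k, rfl⟩ := mem_zpowers_iff.1 hs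
    have h3 : (t : G) ^ 2 = 1 := by rw [← ht', pow_orderOf_eq_one]
    rcases Int.even_or_odd' k with ⟨j, rfl | rfl⟩
    · exfalso
      apply hs1
      rw [zpow_mul]
      have : (t : G) ^ (2 : ℤ) = 1 := by exact_mod_cast h3
      rw [this, one_zpow]
    · rw [zpow_add, zpow_mul, zpow_one]
      have : (t : G) ^ (2 : ℤ) = 1 := by exact_mod_cast h3
      rw [this, one_zpow, one_mul]
  have hnt : ∀ n ∈ normalizer (P : Set G), n * (t : G) * n⁻¹ = t := by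
    intro n hn
    have h1 : n * (t : G) * n⁻¹ ∈ K := (mem_normalizer_iff.1 (h.normalizer_le hn) (t : G)).1 t.2
    refine htt _ h1 ?_
    intro h2
    apply ht1
    rw [mul_inv_eq_one] at h2
    exact mul_eq_left.1 h2
  have hcomm : ∀ n ∈ normalizer (P : Set G), n * (t : G) = t * n := by
    intro n hn
    have h2 := hnt n hn
    rw [mul_inv_eq_iff_eq_mul] at h2
    exact h2
  have hNle : normalizer (P : Set G) ≤ centralizer ({(t : G)} : Set G) := by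
    intro n hn
    rw [mem_centralizer_singleton_iff]
    exact hcomm n hn
  have hcardN := h.card_normalizer
  have hcardC := h.card_centralizer
  rw [hK] at hcardN hcardC
  obtain ⟨y, hy⟩ := exists_prime_orderOf_dvd_card' (G := normalizer (P : Set G)) 5
    (by rw [hcardN]; norm_num)
  have hy' : orderOf (y : G) = 5 := by rw [Subgroup.orderOf_coe, hy]
  obtain ⟨Q, hQ⟩ := PrimeSylowAut.exists_sylow_eq_zpowers (fun Q => card_Q hcard Q) hy'
  refine ⟨Q, t, h.le_centralizer t.2, ht', ?_, by rw [hcardC], ?_⟩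
  · rw [mem_centralizer_iff]
    intro z hz
    have hz' : z ∈ zpowers (y : G) := by rw [← hQ]; exact hz
    obtain ⟨i, rfl⟩ := mem_zpowers_iff.1 hz'
    exact ((show Commute (y : G) t from hcomm y y.2).zpow_left i).eq
  · obtain ⟨n, hn1, hn2⟩ := FixCount.card_eq_mul_modEq_one P (centralizer ({(t : G)} : Set G))
      ((le_normalizer).trans hNle)
    rw [inf_eq_right.2 hNle, hcardN] at hn2
    have h2 : n % 11 = 1 := hn1
    refine mem_cs ?_ ?_ ?_ (not_dvd_centralizer hcard ht')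
    · rw [← hcard]; exact card_subgroup_dvd_card _
    · rw [hn2]; omega
    · rw [hn2]; omega

/-! ### Degrees and values -/

theorem V_one (hcard : Nat.card G = 244823040) (P : Sylow 23 G) :
    V (P : Subgroup G) ((⟨1, isIrr_one⟩ : IrrCharacter G) : G → ℂ) = (22 : ℤ) := by
  have hP : Nat.card (P : Subgroup G) = 23 := card_P hcard P
  have h := V_const (χ := ((⟨1, isIrr_one⟩ : IrrCharacter G) : G → ℂ)) (P : Subgroup G)
    (c := 1) (fun x _ _ => rfl)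
  rw [h, hP]
  norm_num

omit [Finite G] [IsSimpleGroup G] in
theorem charDegree_one : charDegree (((⟨1, isIrr_one⟩ : IrrCharacter G)) : G → ℂ) = 1 := by
  have h := irr_one_eq_charDegree (χ := (((⟨1, isIrr_one⟩ : IrrCharacter G)) : G → ℂ)) isIrr_one
  have h1 : (((⟨1, isIrr_one⟩ : IrrCharacter G)) : G → ℂ) 1 = 1 := rfl
  rw [h1] at h
  exact_mod_cast h.symm

theorem one_lt_charDegree (hcard : Nat.card G = 244823040) {χ : IrrCharacter G}
    (hχ : χ ≠ ⟨1, isIrr_one⟩) : 1 < charDegree (χ : G → ℂ) := by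
  refine MTwelve.ElevenBlock.one_lt_charDegree (commutator_eq hcard) χ.2 ?_
  intro h
  exact hχ (Subtype.ext h)

/-- The degree is admissible and determines the sum over a Sylow 23-subgroup. -/
theorem adm_and_V (hcard : Nat.card G = 244823040) (P : Sylow 23 G) {χ : IrrCharacter G}
    (hχ : χ ≠ ⟨1, isIrr_one⟩) : adm (charDegree (χ : G → ℂ)) = true ∧
      V (P : Subgroup G) (χ : G → ℂ) = vv (charDegree (χ : G → ℂ)) := by
  obtain ⟨s, hs, hadm⟩ := Adm.adm hcard P χ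
  have h1 := one_lt_charDegree hcard hχ
  have h2 := charDegree_lt hcard χ
  have h3 := Nat.mod_eq_zero_of_dvd (charDegree_dvd hcard χ)
  unfold AdmAt at hadm
  constructor
  · simp only [adm, Bool.and_eq_true, decide_eq_true_eq, beq_iff_eq, Bool.or_eq_true]
    refine ⟨⟨⟨h1, h3⟩, h2⟩, ?_⟩
    omega
  · rw [hs]
    congr 1
    unfold vv
    split_ifs <;> omega

/-- The value at an involution. -/
theorem value (hcard : Nat.card G = 244823040) {t : G} (ht : orderOf t = 2) {χ : IrrCharacter G}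
    (hχ : χ ≠ ⟨1, isIrr_one⟩) {z : ℤ} (hz : (χ : G → ℂ) t = z) :
    |z| < charDegree (χ : G → ℂ) ∧ (4 : ℤ) ∣ (charDegree (χ : G → ℂ) : ℤ) - z ∧
      cond (Nat.card (centralizer ({t} : Set G))) (charDegree (χ : G → ℂ)) z = true := by
  classical
  have ht2 : t ^ 2 = 1 := by rw [← ht]; exact pow_orderOf_eq_one t
  have ht1 : t ≠ 1 := by
    rintro rfl
    rw [orderOf_one] at ht
    norm_num at ht
  obtain ⟨z', hz', hlt, h4⟩ := InvolColumn.exists_int (commutator_eq hcard) χ.2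
    (fun h => hχ (Subtype.ext h)) ht2 ht1
  have hzz : z' = z := by
    rw [hz] at hz'
    exact_mod_cast hz'.symm
  subst hzz
  refine ⟨hlt, h4, cond_of hlt ?_ ?_⟩
  · have h5 := InvolColumn.sum_norm_sq_le {χ, ⟨1, isIrr_one⟩} t
    rw [Finset.sum_pair hχ, hz] at h5
    have h6 : (((⟨1, isIrr_one⟩ : IrrCharacter G)) : G → ℂ) t = 1 := rfl
    rw [h6, Complex.norm_intCast, sq_abs, norm_one] at h5
    have h7 : ((z' * z' + 1 : ℤ) : ℝ) ≤ (Nat.card (centralizer ({t} : Set G)) : ℤ) := by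
      push_cast
      linarith
    have h8 : z' * z' + 1 ≤ (Nat.card (centralizer ({t} : Set G)) : ℤ) := by exact_mod_cast h7
    omega
  · have h5 := InvolColumn.dvd_index_mul χ.2 hz
    have h6 : (centralizer ({t} : Set G)).index =
        244823040 / Nat.card (centralizer ({t} : Set G)) := by
      have h4 := (centralizer ({t} : Set G)).card_mul_index
      rw [hcard] at h4
      rw [← h4, Nat.mul_div_cancel_left _ Nat.card_pos]
    rw [h6] at h5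
    exact h5

end Cfsg.Agent.SporadicA.M24.ElevenTwoLocal
end

-- part: SporadicA/M24/ElevenTwoBase
section
/-!
# The case `e = 5`, `|K| = 2` of the Sylow 11-subgroups does not occur

Task T5 of the elimination for the prime 11 in a simple group of order `244823040`.
-/

set_option autoImplicit false
set_option linter.unusedSectionVars false

namespace Cfsg.Agent.SporadicA.M24.ElevenTwoBase

open Cfsg Subgroup Cfsg.Agent.Characters.Core
open Cfsg.Agent.Blocks.Basic (irr_one_eq_charDegree)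
open Cfsg.Agent.SmallSimple Cfsg.Agent.SmallSimple.PrimeLocal
open Cfsg.Agent.M23.Block
open Cfsg.Agent.M23.Adm (V AdmAt V_const V_sum_hom exists_add_V sum_V)
open Cfsg.Agent.SporadicA.M24.Sylow23 Cfsg.Agent.SporadicA.M24.ElevenTwoArith
open Cfsg.Agent.SporadicA.M24.BlockTwo Cfsg.Agent.SporadicA.M24.ElevenTwoLocal
open Cfsg.Agent.MTwelve.FiveBlock (exists_enum)

universe u

variable {G : Type u} [Group G] [Finite G]

/-- The principal character. -/
abbrev one (G : Type u) [Group G] : IrrCharacter G := ⟨1, isIrr_one⟩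

section five

variable {Q : Sylow 5 G} {M : Ideal AlgInt} {NE X : Finset (IrrCharacter G)}
  {ε : IrrCharacter G → ℤ} {d : ℤ} {S : IrrCharacter G → Finset (Q →* ℂˣ)}

theorem five_NE [Fact (Nat.Prime 5)] {e t' : ℕ} (B : Blk 5 Q e t' M NE X ε d S)
    (hQ : Nat.card Q = 5) {χ : IrrCharacter G} (hχ : χ ∈ NE) :
    (charDegree (χ : G → ℂ) % 5 = 1 ∨ charDegree (χ : G → ℂ) % 5 = 4) ∧ s5 (charDegree (χ : G → ℂ)) = ε χ := by
  have h1 := dvd_NE B hQ hχ
  have h2 := B.kb.eps χ hχ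
  push_cast at h1
  unfold s5
  split_ifs <;> omega

theorem five_X [Fact (Nat.Prime 5)] (B : Blk 5 Q 4 1 M NE X ε d S)
    (hQ : Nat.card Q = 5) {χ : IrrCharacter G} (hχ : χ ∈ X) :
    (charDegree (χ : G → ℂ) % 5 = 1 ∨ charDegree (χ : G → ℂ) % 5 = 4) ∧ s5 (charDegree (χ : G → ℂ)) = -d := by
  have h1 := dvd_X B hQ hχ
  have h2 := B.kb.hd
  push_cast at h1
  unfold s5
  split_ifs <;> omega

theorem five_rel [Fact (Nat.Prime 5)] [DecidableEq (IrrCharacter G)]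
    (B : Blk 5 Q 4 1 M NE X ε d S) (hQ : Nat.card Q = 5) {g : G} (hg : ¬ 5 ∣ orderOf g) :
    ∑ χ ∈ (NE ∪ X).erase (one G), (s5 (charDegree (χ : G → ℂ)) : ℂ) * (χ : G → ℂ) g = -1 := by
  obtain ⟨Θ, hΘ⟩ := Finset.card_eq_one.1 B.kb.card_X
  have hΘX : Θ ∈ X := by rw [hΘ]; exact Finset.mem_singleton_self Θ
  have h1 : ∑ χ ∈ NE ∪ X, (s5 (charDegree (χ : G → ℂ)) : ℂ) * (χ : G → ℂ) g = 0 := by
    rw [Finset.sum_union B.kb.disj, hΘ, Finset.sum_singleton, (five_X B hQ hΘX).2,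
      Finset.sum_congr rfl fun χ hχ => by rw [(five_NE B hQ hχ).2], B.kb.rel Θ hΘX g hg]
    push_cast
    ring
  rw [← Finset.add_sum_erase _ _ (Finset.mem_union_left X B.kb.one_mem)] at h1
  have h2 : charDegree (one G : G → ℂ) = 1 := charDegree_one
  have h3 : (one G : G → ℂ) g = 1 := rfl
  rw [h2, h3] at h1
  have h4 : s5 1 = 1 := rfl
  rw [h4] at h1
  push_cast at h1
  linear_combination h1

theorem five_card [Fact (Nat.Prime 5)] [DecidableEq (IrrCharacter G)]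
    (B : Blk 5 Q 4 1 M NE X ε d S) : ((NE ∪ X).erase (one G)).card = 4 := by
  rw [Finset.card_erase_of_mem (Finset.mem_union_left X B.kb.one_mem),
    Finset.card_union_of_disjoint B.kb.disj, B.kb.card_NE, B.kb.card_X]

end five

/-- Everything about the values at `t`. -/
theorem mem_zin' [IsSimpleGroup G] (hcard : Nat.card G = 244823040) {P : Sylow 11 G}
    {Q : Sylow 5 G} {t : G} (L : Loc P Q t) [Fact (Nat.Prime 5)] [Fact (Nat.Prime 11)]
    {e5 t5 : ℕ} {M5 : Ideal AlgInt} {NE5 X5 : Finset (IrrCharacter G)}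
    {ε5 : IrrCharacter G → ℤ} {d5 : ℤ} {S5 : IrrCharacter G → Finset (Q →* ℂˣ)}
    (B5 : Blk 5 Q e5 t5 M5 NE5 X5 ε5 d5 S5)
    {M : Ideal AlgInt} {NE X : Finset (IrrCharacter G)}
    {ε : IrrCharacter G → ℤ} {d : ℤ} {S : IrrCharacter G → Finset (P →* ℂˣ)}
    (B : Blk 11 P 5 2 M NE X ε d S) {χ : IrrCharacter G} (h1 : χ ≠ one G)
    (h5 : χ ∈ NE5 ∨ χ ∈ X5) (h11 : χ ∈ NE ∨ χ ∈ X) {z : ℤ} (hz : (χ : G → ℂ) t = z) :
    z ∈ zin (Nat.card (centralizer ({t} : Set G))) (charDegree (χ : G → ℂ)) := by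
  obtain ⟨a1, a2, a3⟩ := value hcard L.t_ord h1 hz
  have b5 : (5 : ℤ) ∣ _ := dvd_sub B5 (card_Q hcard Q) h5 L.t_memQ (by rw [L.t_ord]; norm_num) hz
  have b11 : (11 : ℤ) ∣ _ :=
    dvd_sub B (card_P11 hcard P) h11 L.t_mem (by rw [L.t_ord]; norm_num) hz
  exact mem_zin a1 (by omega) b11 a3

theorem mem_zout' [IsSimpleGroup G] (hcard : Nat.card G = 244823040) {P : Sylow 11 G}
    {Q : Sylow 5 G} {t : G} (L : Loc P Q t) [Fact (Nat.Prime 5)] [Fact (Nat.Prime 11)]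
    {e5 t5 : ℕ} {M5 : Ideal AlgInt} {NE5 X5 : Finset (IrrCharacter G)}
    {ε5 : IrrCharacter G → ℤ} {d5 : ℤ} {S5 : IrrCharacter G → Finset (Q →* ℂˣ)}
    (B5 : Blk 5 Q e5 t5 M5 NE5 X5 ε5 d5 S5)
    {M : Ideal AlgInt} {NE X : Finset (IrrCharacter G)}
    {ε : IrrCharacter G → ℤ} {d : ℤ} {S : IrrCharacter G → Finset (P →* ℂˣ)}
    (B : Blk 11 P 5 2 M NE X ε d S) {χ : IrrCharacter G} (h1 : χ ≠ one G)
    (h5 : χ ∈ NE5 ∨ χ ∈ X5) (hNE : χ ∉ NE) (hX : χ ∉ X) {z : ℤ} (hz : (χ : G → ℂ) t = z) :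
    z ∈ zout (Nat.card (centralizer ({t} : Set G))) (charDegree (χ : G → ℂ)) := by
  obtain ⟨a1, a2, a3⟩ := value hcard L.t_ord h1 hz
  have b5 : (5 : ℤ) ∣ _ := dvd_sub B5 (card_Q hcard Q) h5 L.t_memQ (by rw [L.t_ord]; norm_num) hz
  have b11 : (11 : ℤ) ∣ _ :=
    dvd_add B (card_P11 hcard P) (by norm_num) L.cardC L.t_mem L.t_ord hNE hX hz
  exact mem_zout a1 (by omega) b11 a3

/-- Values of the members of the principal 5-block. -/
theorem mem_zany' [IsSimpleGroup G] (hcard : Nat.card G = 244823040) {P : Sylow 11 G}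
    {Q : Sylow 5 G} {t : G} (L : Loc P Q t) [Fact (Nat.Prime 5)] [Fact (Nat.Prime 11)]
    {e5 t5 : ℕ} {M5 : Ideal AlgInt} {NE5 X5 : Finset (IrrCharacter G)}
    {ε5 : IrrCharacter G → ℤ} {d5 : ℤ} {S5 : IrrCharacter G → Finset (Q →* ℂˣ)}
    (B5 : Blk 5 Q e5 t5 M5 NE5 X5 ε5 d5 S5)
    {M : Ideal AlgInt} {NE X : Finset (IrrCharacter G)}
    {ε : IrrCharacter G → ℤ} {d : ℤ} {S : IrrCharacter G → Finset (P →* ℂˣ)}
    (B : Blk 11 P 5 2 M NE X ε d S) {χ : IrrCharacter G} (h1 : χ ≠ one G)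
    (h5 : χ ∈ NE5 ∨ χ ∈ X5) {z : ℤ} (hz : (χ : G → ℂ) t = z) :
    z ∈ zany (Nat.card (centralizer ({t} : Set G))) (charDegree (χ : G → ℂ)) := by
  unfold zany
  rw [List.mem_append]
  by_cases hNE : χ ∈ NE
  · exact Or.inl (mem_zin' hcard L B5 B h1 h5 (Or.inl hNE) hz)
  · by_cases hX : χ ∈ X
    · exact Or.inl (mem_zin' hcard L B5 B h1 h5 (Or.inr hX) hz)
    · exact Or.inr (mem_zout' hcard L B5 B h1 h5 hNE hX hz)

/-- Every character has an integral value at an involution. -/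
theorem exists_zt {t : G} (ht : orderOf t = 2) :
    ∃ zt : IrrCharacter G → ℤ, ∀ χ : IrrCharacter G, (χ : G → ℂ) t = zt χ := by
  have ht2 : t ^ 2 = 1 := by rw [← ht]; exact pow_orderOf_eq_one t
  have h : ∀ χ : IrrCharacter G, ∃ z : ℤ, (χ : G → ℂ) t = z := fun χ => by
    obtain ⟨n, z, -, hz, -⟩ := InvolColumn.exists_int_of_char (isIrr_isCharacter χ.2) ht2
    exact ⟨z, hz⟩
  choose zt hzt using h
  exact ⟨zt, hzt⟩

/-- The case `e₅ = 2`. -/
theorem two_false [IsSimpleGroup G] (hcard : Nat.card G = 244823040) {P : Sylow 11 G}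
    {Q : Sylow 5 G} {t : G} (L : Loc P Q t) [Fact (Nat.Prime 5)] [Fact (Nat.Prime 11)]
    {M5 : Ideal AlgInt} {NE5 X5 : Finset (IrrCharacter G)}
    {ε5 : IrrCharacter G → ℤ} {d5 : ℤ} {S5 : IrrCharacter G → Finset (Q →* ℂˣ)}
    (B5 : Blk 5 Q 2 2 M5 NE5 X5 ε5 d5 S5)
    {M : Ideal AlgInt} {NE X : Finset (IrrCharacter G)}
    {ε : IrrCharacter G → ℤ} {d : ℤ} {S : IrrCharacter G → Finset (P →* ℂˣ)}
    (B : Blk 11 P 5 2 M NE X ε d S) : False := by
  classical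
  obtain ⟨P23⟩ : Nonempty (Sylow 23 G) := inferInstance
  have hQ := card_Q hcard Q
  obtain ⟨Θ, Θ', hne, hX⟩ := Finset.card_eq_two.1 B5.kb.card_X
  have hΘ : Θ ∈ X5 := by rw [hX]; simp
  have hcardE : (NE5.erase (one G)).card = 1 := by
    rw [Finset.card_erase_of_mem B5.kb.one_mem, B5.kb.card_NE]
  obtain ⟨χ, hχ⟩ := Finset.card_eq_one.1 hcardE
  have hχmem : χ ∈ NE5.erase (one G) := by rw [hχ]; exact Finset.mem_singleton_self χ
  have hχne : χ ≠ one G := Finset.ne_of_mem_erase hχmem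
  have hχNE : χ ∈ NE5 := Finset.mem_of_mem_erase hχmem
  have hNE : NE5 = {one G, χ} := by
    rw [← Finset.insert_erase B5.kb.one_mem, hχ]
  have hΘne : Θ ≠ one G := by
    rintro rfl
    exact Finset.disjoint_left.1 B5.kb.disj B5.kb.one_mem hΘ
  have hone : charDegree (one G : G → ℂ) = 1 := charDegree_one
  -- the degree relation
  have h1 := B5.kb.rel_one Θ hΘ
  rw [hNE, Finset.sum_pair hχne.symm, B5.kb.eps_one] at h1
  have h1' : 1 + ε5 χ * (charDegree (χ : G → ℂ) : ℤ) = d5 * (charDegree (Θ : G → ℂ) : ℤ) := by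
    rw [← h1]
    have : (charDegree ((one G : IrrCharacter G) : G → ℂ) : ℤ) = 1 := by exact_mod_cast hone
    rw [this]
    ring
  -- the relation at the elements of order 23
  have hP23 : Nat.card (P23 : Subgroup G) = 23 := card_P hcard P23
  have h2 := sum_V NE5 (fun ψ => (ε5 ψ : ℂ)) (fun ψ : IrrCharacter G => (ψ : G → ℂ))
    (P23 : Subgroup G) (g := (Θ : G → ℂ)) (d := (d5 : ℂ)) (fun x hx hx1 => by
      apply B5.kb.rel Θ hΘ x
      have h2 : orderOf x ∣ 23 := by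
        have := orderOf_dvd_natCard (⟨x, hx⟩ : (P23 : Subgroup G))
        rw [Subgroup.orderOf_mk, hP23] at this
        exact this
      intro h3
      have := h3.trans h2
      revert this
      norm_num)
  rw [hNE, Finset.sum_pair hχne.symm, B5.kb.eps_one, V_one hcard, (adm_and_V hcard P23 hχne).2,
    (adm_and_V hcard P23 hΘne).2] at h2
  have h2' : 22 + ε5 χ * vv (charDegree (χ : G → ℂ)) = d5 * vv (charDegree (Θ : G → ℂ)) := by
    have : ((22 + ε5 χ * vv (charDegree (χ : G → ℂ)) : ℤ) : ℂ) = ((d5 * vv (charDegree (Θ : G → ℂ)) : ℤ) : ℂ) := by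
      push_cast
      rw [← h2]
      push_cast
      ring
    exact_mod_cast this
  obtain ⟨hmod, hs⟩ := five_NE B5 hQ hχNE
  have hadmχ := (adm_and_V hcard P23 hχne).1
  have hadmΘ := (adm_and_V hcard P23 hΘne).1
  have hlt := one_lt_charDegree hcard hχne
  have hltΘ := one_lt_charDegree hcard hΘne
  have hd : d5 = s5 (charDegree (χ : G → ℂ)) ∧ (charDegree (Θ : G → ℂ) = charDegree (χ : G → ℂ) - 1 ∨ charDegree (Θ : G → ℂ) = charDegree (χ : G → ℂ) + 1) := by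
    rw [hs]
    have a1 := B5.kb.eps χ hχNE
    have a2 := B5.kb.hd
    rcases a1 with a1 | a1 <;> rcases a2 with a2 | a2 <;> rw [a1, a2] at h1' <;> omega
  rw [← hs, hd.1] at h1' h2'
  have hmem : charDegree (Θ : G → ℂ) ∈ [charDegree (χ : G → ℂ) - 1, charDegree (χ : G → ℂ) + 1] := by
    simp only [List.mem_cons, List.not_mem_nil, or_false]
    exact hd.2
  obtain ⟨z, hz⟩ := exists_zt (G := G) L.t_ord
  obtain ⟨a1, a2, -⟩ := value hcard L.t_ord hχne (hz χ)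
  have b5 : (5 : ℤ) ∣ _ :=
    dvd_sub B5 hQ (Or.inl hχNE) L.t_memQ (by rw [L.t_ord]; norm_num) (hz χ)
  rw [abs_lt] at a1
  have hP := card_P11 hcard P
  rcases two_cases' (charDegree (χ : G → ℂ)) (mem_degs5 hadmχ hmod) (charDegree (Θ : G → ℂ)) hmem hadmΘ h1' h2' with
    ⟨h3, -⟩ | ⟨h3, -⟩
  · -- degree 11
    have h3' : (charDegree (χ : G → ℂ) : ℤ) = 11 := by exact_mod_cast h3
    rw [h3'] at a1 a2 b5
    by_cases hB : χ ∈ NE ∨ χ ∈ X
    · have b11 : (11 : ℤ) ∣ _ := dvd_sub B hP hB L.t_mem (by rw [L.t_ord]; norm_num) (hz χ)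
      rw [h3'] at b11
      omega
    · rw [not_or] at hB
      have b11 : (11 : ℤ) ∣ _ :=
        dvd_add B hP (by norm_num) L.cardC L.t_mem L.t_ord hB.1 hB.2 (hz χ)
      rw [h3'] at b11
      omega
  · -- degree 24
    have h3' : (charDegree (χ : G → ℂ) : ℤ) = 24 := by exact_mod_cast h3
    have hNE' : χ ∉ NE := by
      intro hB
      have c1 : (11 : ℤ) ∣ _ := dvd_NE B hP hB
      have c2 := B.kb.eps χ hB
      rw [h3'] at c1
      omega
    have hX' : χ ∉ X := by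
      intro hB
      have c1 : (11 : ℤ) ∣ _ := dvd_X B hP hB
      have c2 := B.kb.hd
      rw [h3'] at c1
      push_cast at c1
      omega
    have b11 : (11 : ℤ) ∣ _ :=
      dvd_add B hP (by norm_num) L.cardC L.t_mem L.t_ord hNE' hX' (hz χ)
    rw [h3'] at a1 a2 b5 b11
    omega

end Cfsg.Agent.SporadicA.M24.ElevenTwoBase
end

-- part: SporadicA/M24/ElevenTwoFour
section
/-!
# The case `e = 5`, `|K| = 2` of the Sylow 11-subgroups, `e₅ = 4`
-/

set_option autoImplicit false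
set_option linter.unusedSectionVars false

namespace Cfsg.Agent.SporadicA.M24.ElevenTwoFour

open Cfsg Subgroup Cfsg.Agent.Characters.Core
open Cfsg.Agent.Blocks.Basic (irr_one_eq_charDegree)
open Cfsg.Agent.SmallSimple Cfsg.Agent.SmallSimple.PrimeLocal
open Cfsg.Agent.M23.Block
open Cfsg.Agent.M23.Adm (V AdmAt V_const V_sum_hom exists_add_V sum_V)
open Cfsg.Agent.SporadicA.M24.Sylow23 Cfsg.Agent.SporadicA.M24.ElevenTwoArith
open Cfsg.Agent.SporadicA.M24.BlockTwo Cfsg.Agent.SporadicA.M24.ElevenTwoLocal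
open Cfsg.Agent.SporadicA.M24.ElevenTwoBase
open Cfsg.Agent.MTwelve.FiveBlock (exists_enum)

universe u

variable {G : Type u} [Group G] [Finite G] [Fact (Nat.Prime 5)] [Fact (Nat.Prime 11)]
variable {P : Sylow 11 G} {Q : Sylow 5 G} {t : G}
variable {M5 : Ideal AlgInt} {NE5 X5 : Finset (IrrCharacter G)}
    {ε5 : IrrCharacter G → ℤ} {d5 : ℤ} {S5 : IrrCharacter G → Finset (Q →* ℂˣ)}
variable {M : Ideal AlgInt} {NE X : Finset (IrrCharacter G)}
    {ε : IrrCharacter G → ℤ} {d : ℤ} {S : IrrCharacter G → Finset (P →* ℂˣ)}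

/-- The degree relation. -/
theorem rel_deg [DecidableEq (IrrCharacter G)] (B5 : Blk 5 Q 4 1 M5 NE5 X5 ε5 d5 S5)
    (hQ : Nat.card Q = 5) :
    ∑ χ ∈ (NE5 ∪ X5).erase (one G), s5 (charDegree (χ : G → ℂ)) *
      (charDegree (χ : G → ℂ) : ℤ) = -1 := by
  have h := five_rel B5 hQ (g := 1) (BlockTwo.not_dvd_one (p := 5))
  have h1 : ((∑ χ ∈ (NE5 ∪ X5).erase (one G), s5 (charDegree (χ : G → ℂ)) *
      (charDegree (χ : G → ℂ) : ℤ) : ℤ) : ℂ) = ((-1 : ℤ) : ℂ) := by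
    push_cast
    rw [← h]
    refine Finset.sum_congr rfl fun χ _ => ?_
    rw [irr_one_eq_charDegree χ.2]
  exact_mod_cast h1

/-- The relation at the involution. -/
theorem rel_inv [DecidableEq (IrrCharacter G)] (B5 : Blk 5 Q 4 1 M5 NE5 X5 ε5 d5 S5)
    (hQ : Nat.card Q = 5) (ht : orderOf t = 2) {zt : IrrCharacter G → ℤ}
    (hzt : ∀ χ : IrrCharacter G, (χ : G → ℂ) t = zt χ) :
    ∑ χ ∈ (NE5 ∪ X5).erase (one G), s5 (charDegree (χ : G → ℂ)) * zt χ = -1 := by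
  have h := five_rel B5 hQ (g := t) (by rw [ht]; norm_num)
  have h1 : ((∑ χ ∈ (NE5 ∪ X5).erase (one G), s5 (charDegree (χ : G → ℂ)) *
      zt χ : ℤ) : ℂ) = ((-1 : ℤ) : ℂ) := by
    push_cast
    rw [← h]
    refine Finset.sum_congr rfl fun χ _ => ?_
    rw [hzt χ]
  exact_mod_cast h1

/-- The relation at the elements of order 23. -/
theorem rel_V [IsSimpleGroup G] [DecidableEq (IrrCharacter G)] (hcard : Nat.card G = 244823040)
    (B5 : Blk 5 Q 4 1 M5 NE5 X5 ε5 d5 S5) :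
    ∑ χ ∈ (NE5 ∪ X5).erase (one G), s5 (charDegree (χ : G → ℂ)) *
      vv (charDegree (χ : G → ℂ)) = -22 := by
  obtain ⟨P23⟩ : Nonempty (Sylow 23 G) := inferInstance
  have hP23 : Nat.card (P23 : Subgroup G) = 23 := card_P hcard P23
  have h2 := sum_V ((NE5 ∪ X5).erase (one G)) (fun ψ => (s5 (charDegree (ψ : G → ℂ)) : ℂ))
    (fun ψ : IrrCharacter G => (ψ : G → ℂ))
    (P23 : Subgroup G) (g := (one G : G → ℂ)) (d := -1) (fun x hx hx1 => by
      have h3 : (one G : G → ℂ) x = 1 := rfl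
      rw [h3, mul_one]
      apply five_rel B5 (card_Q hcard Q)
      have h2 : orderOf x ∣ 23 := by
        have := orderOf_dvd_natCard (⟨x, hx⟩ : (P23 : Subgroup G))
        rw [Subgroup.orderOf_mk, hP23] at this
        exact this
      intro h3
      have := h3.trans h2
      revert this
      norm_num)
  rw [V_one hcard] at h2
  have h1 : ((∑ χ ∈ (NE5 ∪ X5).erase (one G), s5 (charDegree (χ : G → ℂ)) *
      vv (charDegree (χ : G → ℂ)) : ℤ) : ℂ) = ((-22 : ℤ) : ℂ) := by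
    push_cast
    push_cast at h2
    rw [show (-22 : ℂ) = -1 * 22 by norm_num, ← h2]
    refine Finset.sum_congr rfl fun χ hχ => ?_
    rw [(adm_and_V hcard P23 (Finset.ne_of_mem_erase hχ)).2]
  exact_mod_cast h1

/-- The relation at the elements of order 11 and 22. -/
theorem rel_X [IsSimpleGroup G] [DecidableEq (IrrCharacter G)] (hcard : Nat.card G = 244823040)
    (L : Loc P Q t) (B5 : Blk 5 Q 4 1 M5 NE5 X5 ε5 d5 S5) (B : Blk 11 P 5 2 M NE X ε d S)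
    {w : IrrCharacter G → ℤ} (h1 : ∀ χ ∈ NE, w χ = 2 * ε χ) (h2 : ∀ χ ∈ X, w χ = -d)
    (h3 : ∀ χ, χ ∉ NE → χ ∉ X → w χ = 0) :
    ∑ χ ∈ (NE5 ∪ X5).erase (one G), s5 (charDegree (χ : G → ℂ)) * w χ = -2 := by
  have hP : Nat.card (P : Subgroup G) = 11 := card_P11 hcard P
  have htp : ¬ 11 ∣ orderOf t := by rw [L.t_ord]; norm_num
  -- the values of the sums
  have hV : ∀ χ : IrrCharacter G, V (P : Subgroup G) (fun x => (χ : G → ℂ) x +
      (χ : G → ℂ) (x * t)) = 10 * w χ := by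
    intro χ
    by_cases hNE : χ ∈ NE
    · have h4 := V_const (P : Subgroup G) (χ := fun x => (χ : G → ℂ) x + (χ : G → ℂ) (x * t))
        (c := 2 * (ε χ : ℂ)) (fun x hx hx1 => by
          have h5 := mul_eq B (Or.inl hNE) L.t_mem htp hx hx1
          have h6 := B.val_NE χ hNE x hx hx1 1 (one_mem _) (BlockTwo.not_dvd_one (p := 11))
          rw [mul_one] at h6
          rw [h5, h6]
          ring)
      rw [h4, hP, h1 χ hNE]
      push_cast
      ring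
    · by_cases hX : χ ∈ X
      · obtain ⟨hc, h1S, hv⟩ := B.val_X χ hX
        have h4 := V_sum_hom (P := (P : Subgroup G)) h1S
          (χ := fun x => (χ : G → ℂ) x + (χ : G → ℂ) (x * t)) (d := 2 * (d : ℂ)) (fun x hx1 => by
            have h5 := mul_eq B (Or.inr hX) L.t_mem htp x.2 (fun h => hx1 (Subtype.ext h))
            have h6 := hv x hx1 1 (one_mem _) (BlockTwo.not_dvd_one (p := 11))
            rw [mul_one] at h6
            rw [h5, h6]
            ring)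
        rw [h4, hc, h2 χ hX]
        push_cast
        ring
      · have h4 := V_const (P : Subgroup G) (χ := fun x => (χ : G → ℂ) x + (χ : G → ℂ) (x * t))
          (c := 0) (fun x hx hx1 =>
            add_eq_zero B hP (by norm_num) L.cardC L.t_mem L.t_ord hNE hX hx hx1)
        rw [h4, h3 χ hNE hX]
        push_cast
        ring
  have hV1 : V (P : Subgroup G) (fun _ => (1 : ℂ)) = 10 := by
    rw [V_const (P : Subgroup G) (c := 1) (fun _ _ _ => rfl), hP]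
    norm_num
  have h4 := sum_V ((NE5 ∪ X5).erase (one G)) (fun ψ => (s5 (charDegree (ψ : G → ℂ)) : ℂ))
    (fun (χ : IrrCharacter G) x => (χ : G → ℂ) x + (χ : G → ℂ) (x * t))
    (P : Subgroup G) (g := fun _ => 1) (d := -2) (fun x hx hx1 => by
      have hox := Cfsg.Agent.Blocks.CyclicOrtho.orderOf_eq P hP hx hx1
      have h5 := five_rel B5 (card_Q hcard Q) (g := x) (by rw [hox]; norm_num)
      have h6 := five_rel B5 (card_Q hcard Q) (g := x * t) (by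
        rw [BlockTwo.mul_ne hP (by norm_num) L.t_mem L.t_ord hx hx1]; norm_num)
      simp only [mul_add]
      rw [Finset.sum_add_distrib, h5, h6]
      norm_num)
  rw [hV1] at h4
  simp only [hV] at h4
  have h7 : ((10 * ∑ χ ∈ (NE5 ∪ X5).erase (one G), s5 (charDegree (χ : G → ℂ)) * w χ : ℤ) : ℂ) =
      ((-20 : ℤ) : ℂ) := by
    push_cast
    rw [show (-20 : ℂ) = -2 * 10 by norm_num, ← h4, Finset.mul_sum]
    refine Finset.sum_congr rfl fun χ _ => ?_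
    ring
  have h8 : 10 * ∑ χ ∈ (NE5 ∪ X5).erase (one G), s5 (charDegree (χ : G → ℂ)) * w χ = -20 := by
    exact_mod_cast h7
  omega

/-- Case A: a member `σ` of both principal blocks, nonexceptional in the 11-block, with opposite
signs. -/
theorem caseA_false [IsSimpleGroup G] [DecidableEq (IrrCharacter G)]
    (hcard : Nat.card G = 244823040)
    (L : Loc P Q t) (B5 : Blk 5 Q 4 1 M5 NE5 X5 ε5 d5 S5) (B : Blk 11 P 5 2 M NE X ε d S)
    {σ : IrrCharacter G} (hσ : σ ∈ (NE5 ∪ X5).erase (one G)) (hσNE : σ ∈ NE)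
    (hsign : s5 (charDegree (σ : G → ℂ)) * ε σ = -1) : False := by
  have hQ := card_Q hcard Q
  have hP := card_P11 hcard P
  obtain ⟨P23⟩ : Nonempty (Sylow 23 G) := inferInstance
  obtain ⟨zt, hzt⟩ := exists_zt (G := G) L.t_ord
  have hmem5 : ∀ χ ∈ (NE5 ∪ X5).erase (one G), χ ≠ one G ∧ (χ ∈ NE5 ∨ χ ∈ X5) :=
    fun χ hχ => ⟨Finset.ne_of_mem_erase hχ, Finset.mem_union.1 (Finset.mem_of_mem_erase hχ)⟩
  have hmod : ∀ χ ∈ (NE5 ∪ X5).erase (one G),
      charDegree (χ : G → ℂ) % 5 = 1 ∨ charDegree (χ : G → ℂ) % 5 = 4 := fun χ hχ => by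
    rcases (hmem5 χ hχ).2 with h | h
    · exact (five_NE B5 hQ h).1
    · exact (five_X B5 hQ h).1
  have hdegs : ∀ χ ∈ (NE5 ∪ X5).erase (one G), charDegree (χ : G → ℂ) ∈ degs5 := fun χ hχ =>
    mem_degs5 (adm_and_V hcard P23 (hmem5 χ hχ).1).1 (hmod χ hχ)
  have hspec : charDegree (σ : G → ℂ) ∈ spec := by
    apply mem_spec _ (hdegs σ hσ)
    have h1 := hmod σ hσ
    have h2 : (11 : ℤ) ∣ _ := dvd_NE B hP hσNE
    have h3 := B.kb.eps σ hσNE
    unfold s5 at hsign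
    split_ifs at hsign <;> omega
  obtain ⟨c, hinj, hc, hmono⟩ := exists_enum (((NE5 ∪ X5).erase (one G)).erase σ)
    (fun χ => charDegree (χ : G → ℂ)) (n := 3) (by
      rw [Finset.card_erase_of_mem hσ, five_card B5])
  have hcm : ∀ i, c i ∈ (NE5 ∪ X5).erase (one G) := fun i =>
    Finset.mem_of_mem_erase ((hc (c i)).2 ⟨i, rfl⟩)
  have hset : ((NE5 ∪ X5).erase (one G)).erase σ = Finset.univ.image c := by
    ext χ
    rw [hc χ, Finset.mem_image]
    simp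
  have hsum : ∀ f : IrrCharacter G → ℤ, ∑ χ ∈ (NE5 ∪ X5).erase (one G), f χ =
      f σ + f (c 0) + f (c 1) + f (c 2) := by
    intro f
    rw [← Finset.add_sum_erase _ _ hσ, hset, Finset.sum_image (fun i _ j _ h => hinj h),
      Fin.sum_univ_three]
    ring
  have e1 := rel_deg B5 hQ
  have e2 := rel_V hcard B5
  have e3 := rel_inv B5 hQ L.t_ord hzt
  have e4 := InvolColumn.sum_sq_le (NE5 ∪ X5) t zt (fun χ _ => hzt χ)
  rw [← Finset.add_sum_erase _ _ (Finset.mem_union_left X5 B5.kb.one_mem)] at e4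
  rw [hsum] at e1 e2 e3 e4
  have hone : zt (one G) = 1 := by
    have h1 := hzt (one G)
    have h2 : (one G : G → ℂ) t = 1 := rfl
    rw [h2] at h1
    exact_mod_cast h1.symm
  have h01 : charDegree (c 0 : G → ℂ) ≤ charDegree (c 1 : G → ℂ) :=
    hmono (show (0 : Fin 3) ≤ 1 by decide)
  have h12 : charDegree (c 1 : G → ℂ) ≤ charDegree (c 2 : G → ℂ) :=
    hmono (show (1 : Fin 3) ≤ 2 by decide)
  have hany : ∀ i, zt (c i) ∈ zany (Nat.card (centralizer ({t} : Set G)))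
      (charDegree (c i : G → ℂ)) := fun i =>
    mem_zany' hcard L B5 B (hmem5 _ (hcm i)).1 (hmem5 _ (hcm i)).2 (hzt (c i))
  refine false_of_caseA L.card_cs hspec (hdegs _ (hcm 0)) (hdegs _ (hcm 1)) (hdegs _ (hcm 2))
    h01 h12 (by linarith) (by linarith)
    (mem_zin' hcard L B5 B (hmem5 σ hσ).1 (hmem5 σ hσ).2 (Or.inl hσNE) (hzt σ))
    (hany 0) (hany 1) (hany 2) (by linarith) ?_
  rw [hone] at e4
  nlinarith [e4]

/-- The sum over the exceptional characters. -/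
theorem X_sub [IsSimpleGroup G] [DecidableEq (IrrCharacter G)] (hcard : Nat.card G = 244823040)
    (L : Loc P Q t) (B5 : Blk 5 Q 4 1 M5 NE5 X5 ε5 d5 S5) (B : Blk 11 P 5 2 M NE X ε d S)
    (hA : ∀ σ ∈ (NE5 ∪ X5).erase (one G), σ ∈ NE → s5 (charDegree (σ : G → ℂ)) * ε σ ≠ -1) :
    X ⊆ (NE5 ∪ X5).erase (one G) ∧ (∀ χ ∈ X, s5 (charDegree (χ : G → ℂ)) * d = 1) ∧
      ∀ χ ∈ (NE5 ∪ X5).erase (one G), χ ∉ NE := by
  set S' := (NE5 ∪ X5).erase (one G) with hS'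
  let w : IrrCharacter G → ℤ := fun χ => if χ ∈ NE then 2 * ε χ else if χ ∈ X then -d else 0
  have hXNE : ∀ χ ∈ X, χ ∉ NE := fun χ hχ h => Finset.disjoint_left.1 B.kb.disj h hχ
  have w1 : ∀ χ ∈ NE, w χ = 2 * ε χ := fun χ h => by simp only [w, if_pos h]
  have w2 : ∀ χ ∈ X, w χ = -d := fun χ h => by simp only [w, if_neg (hXNE χ h), if_pos h]
  have w3 : ∀ χ, χ ∉ NE → χ ∉ X → w χ = 0 := fun χ h h' => by simp only [w, if_neg h, if_neg h']
  have hrel := rel_X hcard L B5 B w1 w2 w3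
  rw [← hS'] at hrel
  let T : IrrCharacter G → ℤ := fun χ =>
    s5 (charDegree (χ : G → ℂ)) * w χ + (if χ ∈ X then 1 else 0)
  have hs5 : ∀ n : ℕ, s5 n = 1 ∨ s5 n = -1 := fun n => by
    unfold s5; split_ifs <;> simp
  have hTNE : ∀ χ ∈ S', χ ∈ NE → T χ = 2 := by
    intro χ hχ hNE
    have h1 := hA χ hχ hNE
    simp only [T, w1 χ hNE, if_neg (fun h => hXNE χ h hNE)]
    rcases hs5 (charDegree (χ : G → ℂ)) with h2 | h2 <;>
      rcases B.kb.eps χ hNE with h3 | h3 <;> rw [h2, h3] at h1 ⊢ <;> omega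
  have hTX : ∀ χ ∈ X, T χ = 1 - s5 (charDegree (χ : G → ℂ)) * d := by
    intro χ hX
    simp only [T, w2 χ hX, if_pos hX]
    ring
  have hTX0 : ∀ χ ∈ X, 0 ≤ T χ := by
    intro χ hX
    rw [hTX χ hX]
    rcases hs5 (charDegree (χ : G → ℂ)) with h2 | h2 <;>
      rcases B.kb.hd with h3 | h3 <;> rw [h2, h3] <;> omega
  have hT0 : ∀ χ, χ ∉ NE → χ ∉ X → T χ = 0 := by
    intro χ h1 h2
    simp only [T, w3 χ h1 h2, if_neg h2]
    ring
  have hTnn : ∀ χ ∈ S', 0 ≤ T χ := by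
    intro χ hχ
    by_cases h1 : χ ∈ NE
    · rw [hTNE χ hχ h1]; omega
    · by_cases h2 : χ ∈ X
      · exact hTX0 χ h2
      · rw [hT0 χ h1 h2]
  have hsum : ∑ χ ∈ S', T χ = -2 + ((S'.filter (· ∈ X)).card : ℤ) := by
    simp only [T]
    rw [Finset.sum_add_distrib, hrel, Finset.sum_ite]
    simp
  have hle : (S'.filter (· ∈ X)).card ≤ 2 := by
    rw [← B.kb.card_X]
    exact Finset.card_le_card fun χ hχ => (Finset.mem_filter.1 hχ).2
  have hnn := Finset.sum_nonneg hTnn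
  have hcard2 : (S'.filter (· ∈ X)).card = 2 := by omega
  have hzero : ∑ χ ∈ S', T χ = 0 := by rw [hsum, hcard2]; norm_num
  have hall := (Finset.sum_eq_zero_iff_of_nonneg hTnn).1 hzero
  have hXeq : S'.filter (· ∈ X) = X := by
    apply Finset.eq_of_subset_of_card_le (fun χ hχ => (Finset.mem_filter.1 hχ).2)
    rw [hcard2, B.kb.card_X]
  have hXS : X ⊆ S' := by
    rw [← hXeq]
    exact Finset.filter_subset _ _
  refine ⟨hXS, fun χ hχ => ?_, fun χ hχ hNE => ?_⟩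
  · have h1 := hall χ (hXS hχ)
    rw [hTX χ hχ] at h1
    omega
  · have h1 := hall χ hχ
    rw [hTNE χ hχ hNE] at h1
    omega

/-- Case B: only one possibility is left. -/
theorem caseB_eq [IsSimpleGroup G] [DecidableEq (IrrCharacter G)] (hcard : Nat.card G = 244823040)
    (L : Loc P Q t) (B5 : Blk 5 Q 4 1 M5 NE5 X5 ε5 d5 S5) (B : Blk 11 P 5 2 M NE X ε d S)
    (hXS : X ⊆ (NE5 ∪ X5).erase (one G))
    (hXd : ∀ χ ∈ X, s5 (charDegree (χ : G → ℂ)) * d = 1)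
    (hNE : ∀ χ ∈ (NE5 ∪ X5).erase (one G), χ ∉ NE) :
    Nat.card (centralizer ({t} : Set G)) = 15840 ∧ ∀ χ ∈ X, charDegree (χ : G → ℂ) = 896 := by
  have hQ := card_Q hcard Q
  have hP := card_P11 hcard P
  obtain ⟨P23⟩ : Nonempty (Sylow 23 G) := inferInstance
  obtain ⟨zt, hzt⟩ := exists_zt (G := G) L.t_ord
  have hmem5 : ∀ χ ∈ (NE5 ∪ X5).erase (one G), χ ≠ one G ∧ (χ ∈ NE5 ∨ χ ∈ X5) :=
    fun χ hχ => ⟨Finset.ne_of_mem_erase hχ, Finset.mem_union.1 (Finset.mem_of_mem_erase hχ)⟩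
  have hmod : ∀ χ ∈ (NE5 ∪ X5).erase (one G),
      charDegree (χ : G → ℂ) % 5 = 1 ∨ charDegree (χ : G → ℂ) % 5 = 4 := fun χ hχ => by
    rcases (hmem5 χ hχ).2 with h | h
    · exact (five_NE B5 hQ h).1
    · exact (five_X B5 hQ h).1
  have hdegs : ∀ χ ∈ (NE5 ∪ X5).erase (one G), charDegree (χ : G → ℂ) ∈ degs5 := fun χ hχ =>
    mem_degs5 (adm_and_V hcard P23 (hmem5 χ hχ).1).1 (hmod χ hχ)
  obtain ⟨Θ, Θ', hne, hX⟩ := Finset.card_eq_two.1 B.kb.card_X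
  have hΘ : Θ ∈ X := by rw [hX]; simp
  have hΘ' : Θ' ∈ X := by rw [hX]; simp
  have hd0 : (d : ℂ) ≠ 0 := by
    rcases B.kb.hd with h | h <;> rw [h] <;> norm_num
  have hdeg : charDegree (Θ' : G → ℂ) = charDegree (Θ : G → ℂ) := by
    have h1 := B.kb.rel_one Θ hΘ
    rw [B.kb.rel_one Θ' hΘ'] at h1
    rcases B.kb.hd with h | h <;> rw [h] at h1 <;> omega
  have hzz : zt Θ' = zt Θ := by
    have h2 : ¬ 11 ∣ orderOf t := by rw [L.t_ord]; norm_num
    have h1 := B.kb.rel Θ hΘ t h2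
    rw [B.kb.rel Θ' hΘ' t h2, hzt, hzt] at h1
    have := mul_left_cancel₀ hd0 h1
    exact_mod_cast this
  have hspec : charDegree (Θ : G → ℂ) ∈ specB := by
    apply mem_specB _ (hdegs Θ (hXS hΘ))
    have h1 := hmod Θ (hXS hΘ)
    have h2 : (11 : ℤ) ∣ _ := dvd_X B hP hΘ
    have h3 := hXd Θ hΘ
    rcases B.kb.hd with h | h <;> rw [h] at h2 h3 <;> unfold s5 at h3 <;> push_cast at h2 <;>
      split_ifs at h3 <;> omega
  obtain ⟨c, hinj, hc, hmono⟩ := exists_enum ((NE5 ∪ X5).erase (one G) \ X)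
    (fun χ => charDegree (χ : G → ℂ)) (n := 2) (by
      rw [Finset.card_sdiff_of_subset hXS, five_card B5, B.kb.card_X])
  have hcm : ∀ i, c i ∈ (NE5 ∪ X5).erase (one G) ∧ c i ∉ X := fun i =>
    Finset.mem_sdiff.1 ((hc (c i)).2 ⟨i, rfl⟩)
  have hset : (NE5 ∪ X5).erase (one G) \ X = Finset.univ.image c := by
    ext χ
    rw [hc χ, Finset.mem_image]
    simp
  have hsum : ∀ f : IrrCharacter G → ℤ, ∑ χ ∈ (NE5 ∪ X5).erase (one G), f χ =
      f Θ + f Θ' + f (c 0) + f (c 1) := by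
    intro f
    rw [← Finset.sum_sdiff hXS, hset, Finset.sum_image (fun i _ j _ h => hinj h),
      Fin.sum_univ_two, hX, Finset.sum_pair hne]
    ring
  have e1 := rel_deg B5 hQ
  have e2 := rel_V hcard B5
  have e3 := rel_inv B5 hQ L.t_ord hzt
  have e4 := InvolColumn.sum_sq_le (NE5 ∪ X5) t zt (fun χ _ => hzt χ)
  rw [← Finset.add_sum_erase _ _ (Finset.mem_union_left X5 B5.kb.one_mem)] at e4
  rw [hsum] at e1 e2 e3 e4
  have hone : zt (one G) = 1 := by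
    have h1 := hzt (one G)
    have h2 : (one G : G → ℂ) t = 1 := rfl
    rw [h2] at h1
    exact_mod_cast h1.symm
  rw [hdeg] at e1 e2 e3
  rw [hzz] at e3 e4
  rw [hone] at e4
  have h01 : charDegree (c 0 : G → ℂ) ≤ charDegree (c 1 : G → ℂ) :=
    hmono (show (0 : Fin 2) ≤ 1 by decide)
  have hout : ∀ i, zt (c i) ∈ zout (Nat.card (centralizer ({t} : Set G)))
      (charDegree (c i : G → ℂ)) := fun i =>
    mem_zout' hcard L B5 B (hmem5 _ (hcm i).1).1 (hmem5 _ (hcm i).1).2 (hNE _ (hcm i).1)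
      (hcm i).2 (hzt (c i))
  have hin := mem_zin' hcard L B5 B (hmem5 Θ (hXS hΘ)).1 (hmem5 Θ (hXS hΘ)).2 (Or.inr hΘ) (hzt Θ)
  have key := eq_of_caseB L.card_cs hspec (hdegs _ (hcm 0).1) (hdegs _ (hcm 1).1) h01
    (by linarith) (by linarith) hin (hout 0) (hout 1) (by linarith) (by nlinarith [e4])
  refine ⟨key.1, fun χ hχ => ?_⟩
  rw [hX, Finset.mem_insert, Finset.mem_singleton] at hχ
  rcases hχ with rfl | rfl
  · exact key.2
  · rw [hdeg]; exact key.2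

/-- The remaining possibility: the degrees of the principal 11-block. -/
theorem final_false [IsSimpleGroup G] (hcard : Nat.card G = 244823040)
    (L : Loc P Q t) (B : Blk 11 P 5 2 M NE X ε d S)
    (hc : Nat.card (centralizer ({t} : Set G)) = 15840)
    (hd1 : d = 1) (hX896 : ∀ χ ∈ X, charDegree (χ : G → ℂ) = 896) : False := by
  classical
  have hP := card_P11 hcard P
  obtain ⟨P23⟩ : Nonempty (Sylow 23 G) := inferInstance
  have hP23 : Nat.card (P23 : Subgroup G) = 23 := card_P hcard P23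
  obtain ⟨Θ, Θ', hne, hX⟩ := Finset.card_eq_two.1 B.kb.card_X
  have hΘ : Θ ∈ X := by rw [hX]; simp
  have hΘne : Θ ≠ one G := by
    rintro rfl
    exact Finset.disjoint_left.1 B.kb.disj B.kb.one_mem hΘ
  have hf := hX896 Θ hΘ
  -- the degree relation
  have h1 := B.kb.rel_one Θ hΘ
  have hone : (charDegree ((one G : IrrCharacter G) : G → ℂ) : ℤ) = 1 := by
    exact_mod_cast (charDegree_one (G := G))
  rw [← Finset.add_sum_erase _ _ B.kb.one_mem, B.kb.eps_one, hone, hf, hd1] at h1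
  -- the relation for the elements of order 23
  have h2 := sum_V NE (fun ψ => (ε ψ : ℂ)) (fun ψ : IrrCharacter G => (ψ : G → ℂ))
    (P23 : Subgroup G) (g := (Θ : G → ℂ)) (d := (d : ℂ)) (fun x hx hx1 => by
      apply B.kb.rel Θ hΘ x
      have h2 : orderOf x ∣ 23 := by
        have := orderOf_dvd_natCard (⟨x, hx⟩ : (P23 : Subgroup G))
        rw [Subgroup.orderOf_mk, hP23] at this
        exact this
      intro h3
      have := h3.trans h2
      revert this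
      norm_num)
  rw [← Finset.add_sum_erase _ _ B.kb.one_mem, B.kb.eps_one, V_one hcard,
    (adm_and_V hcard P23 hΘne).2, hf, hd1] at h2
  have hvv : vv 896 = -22 := by decide
  rw [hvv] at h2
  -- the other members
  have hs11 : ∀ χ ∈ NE, (charDegree (χ : G → ℂ) % 11 = 1 ∨ charDegree (χ : G → ℂ) % 11 = 10) ∧
      s11 (charDegree (χ : G → ℂ)) = ε χ := by
    intro χ hχ
    have h3 : (11 : ℤ) ∣ _ := dvd_NE B hP hχ
    have h4 := B.kb.eps χ hχ
    unfold s11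
    split_ifs <;> omega
  have hdegs : ∀ χ ∈ NE.erase (one G), charDegree (χ : G → ℂ) ∈ degs11 := by
    intro χ hχ
    have hχ1 := Finset.ne_of_mem_erase hχ
    have hχNE := Finset.mem_of_mem_erase hχ
    rcases mem_degs11 (adm_and_V hcard P23 hχ1).1 (hs11 χ hχNE).1 with h3 | h3
    · exfalso
      obtain ⟨zt, hzt⟩ := exists_zt (G := G) L.t_ord
      obtain ⟨a1, a2, a3⟩ := value hcard L.t_ord hχ1 (hzt χ)
      have b11 : (11 : ℤ) ∣ _ :=
        dvd_sub B hP (Or.inl hχNE) L.t_mem (by rw [L.t_ord]; norm_num) (hzt χ)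
      rw [h3, hc] at a3
      simp only [ElevenTwoArith.cond, Bool.and_eq_true, beq_iff_eq] at a3
      have a4 := a3.2
      rw [h3] at a1 a2 b11
      rw [abs_lt] at a1
      norm_num at a4
      push_cast at a1 a2 b11
      omega
    · exact h3
  have h1' : ∑ χ ∈ NE.erase (one G), s11 (charDegree (χ : G → ℂ)) *
      (charDegree (χ : G → ℂ) : ℤ) = 895 := by
    have : ∑ χ ∈ NE.erase (one G), s11 (charDegree (χ : G → ℂ)) *
        (charDegree (χ : G → ℂ) : ℤ) =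
        ∑ χ ∈ NE.erase (one G), ε χ * (charDegree (χ : G → ℂ) : ℤ) :=
      Finset.sum_congr rfl fun χ hχ => by rw [(hs11 χ (Finset.mem_of_mem_erase hχ)).2]
    rw [this]
    push_cast at h1
    linarith
  have h2' : ∑ χ ∈ NE.erase (one G), s11 (charDegree (χ : G → ℂ)) *
      vv (charDegree (χ : G → ℂ)) = -44 := by
    have h3 : ((∑ χ ∈ NE.erase (one G), s11 (charDegree (χ : G → ℂ)) *
        vv (charDegree (χ : G → ℂ)) : ℤ) : ℂ) = ((-44 : ℤ) : ℂ) := by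
      push_cast
      have h4 : ∑ χ ∈ NE.erase (one G), (s11 (charDegree (χ : G → ℂ)) : ℂ) *
          (vv (charDegree (χ : G → ℂ)) : ℂ) = ∑ χ ∈ NE.erase (one G), (ε χ : ℂ) *
            V (P23 : Subgroup G) (χ : G → ℂ) :=
        Finset.sum_congr rfl fun χ hχ => by
          rw [(hs11 χ (Finset.mem_of_mem_erase hχ)).2,
            (adm_and_V hcard P23 (Finset.ne_of_mem_erase hχ)).2]
      rw [h4]
      push_cast at h2
      linear_combination h2
    exact_mod_cast h3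
  obtain ⟨c, hinj, hcc, hmono⟩ := exists_enum (NE.erase (one G))
    (fun χ => charDegree (χ : G → ℂ)) (n := 4) (by
      rw [Finset.card_erase_of_mem B.kb.one_mem, B.kb.card_NE])
  have hcm : ∀ i, c i ∈ NE.erase (one G) := fun i => (hcc (c i)).2 ⟨i, rfl⟩
  have hset : NE.erase (one G) = Finset.univ.image c := by
    ext χ
    rw [hcc χ, Finset.mem_image]
    simp
  have hsum : ∀ f : IrrCharacter G → ℤ, ∑ χ ∈ NE.erase (one G), f χ =
      f (c 0) + f (c 1) + f (c 2) + f (c 3) := by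
    intro f
    rw [hset, Finset.sum_image (fun i _ j _ h => hinj h), Fin.sum_univ_four]
  rw [hsum] at h1' h2'
  exact false_of_case4 (hdegs _ (hcm 0)) (hdegs _ (hcm 1)) (hdegs _ (hcm 2)) (hdegs _ (hcm 3))
    (hmono (show (0 : Fin 4) ≤ 1 by decide)) (hmono (show (1 : Fin 4) ≤ 2 by decide)) h1' h2'

/-- The case `e₅ = 4`. -/
theorem four_false [IsSimpleGroup G] (hcard : Nat.card G = 244823040)
    (L : Loc P Q t) (B5 : Blk 5 Q 4 1 M5 NE5 X5 ε5 d5 S5) (B : Blk 11 P 5 2 M NE X ε d S) :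
    False := by
  classical
  by_cases hA : ∃ σ ∈ (NE5 ∪ X5).erase (one G), σ ∈ NE ∧
      s5 (charDegree (σ : G → ℂ)) * ε σ = -1
  · obtain ⟨σ, h1, h2, h3⟩ := hA
    exact caseA_false hcard L B5 B h1 h2 h3
  · have hA' : ∀ σ ∈ (NE5 ∪ X5).erase (one G), σ ∈ NE →
        s5 (charDegree (σ : G → ℂ)) * ε σ ≠ -1 := fun σ h1 h2 h3 => hA ⟨σ, h1, h2, h3⟩
    obtain ⟨hXS, hXd, hNE⟩ := X_sub hcard L B5 B hA'
    obtain ⟨hc, h896⟩ := caseB_eq hcard L B5 B hXS hXd hNE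
    have hne : X.Nonempty := by
      rw [← Finset.card_pos, B.kb.card_X]; norm_num
    obtain ⟨Θ, hΘ⟩ := hne
    have h1 := hXd Θ hΘ
    rw [h896 Θ hΘ] at h1
    have h2 : s5 896 = 1 := by decide
    rw [h2, one_mul] at h1
    exact final_false hcard L B hc h1 h896

end Cfsg.Agent.SporadicA.M24.ElevenTwoFour
end

-- part: SporadicA/M24/ElevenFiveTwo
section
/-!
# The case `e = 5`, `|K| = 2` of the Sylow 11-subgroups does not occur

Task T5 of the elimination for the prime 11 in a simple group of order `244823040`.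
-/

set_option autoImplicit false

namespace Cfsg.Agent.SporadicA.M24.ElevenFiveTwo

open Cfsg Subgroup Cfsg.Agent.Characters.Core
open Cfsg.Agent.SmallSimple Cfsg.Agent.SmallSimple.PrimeLocal
open Cfsg.Agent.M23.Block
open Cfsg.Agent.SporadicA.M24.Sylow23
open Cfsg.Agent.SporadicA.M24.ElevenTwoLocal

universe u

variable {G : Type u} [Group G] [Finite G]

/-- In a simple group of order `244823040` a Sylow 11-subgroup does not have `e = 5` and
`|K| = 2`. -/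
theorem five_two_false [IsSimpleGroup G] (hcard : Nat.card G = 244823040) {P : Sylow 11 G}
    {K : Subgroup G} (h : IsLocal 11 P 5 K) (hK : Nat.card K = 2) : False := by
  have hfact5 : Fact (Nat.Prime 5) := ⟨by norm_num⟩
  have hfact11 : Fact (Nat.Prime 11) := ⟨by norm_num⟩
  obtain ⟨Q, t, L⟩ := exists_loc hcard h hK
  obtain ⟨M, NE, X, ε, d, S, B⟩ := exists_blk (not_prime hcard) 11 (by norm_num) P
    (card_P11 hcard P) 5 2 (relIndex_of_local h) (by norm_num)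
  obtain ⟨e5, K5, h5⟩ := exists_local (p := 5) (not_comm hcard) (by rw [hcard]; norm_num)
    (by rw [hcard]; norm_num) Q
  have he1 := h5.one_lt
  have he2 := h5.dvd_pred
  have he3 : e5 = 2 ∨ e5 = 4 := by
    have h1 : e5 ∣ 4 := he2
    have h2 := Nat.le_of_dvd (by norm_num) h1
    interval_cases e5
    · exact Or.inl rfl
    · omega
    · exact Or.inr rfl
  rcases he3 with rfl | rfl
  · obtain ⟨M5, NE5, X5, ε5, d5, S5, B5⟩ := exists_blk (not_prime hcard) 5 (by norm_num) Q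
      (card_Q hcard Q) 2 2 (relIndex_of_local h5) (by norm_num)
    exact ElevenTwoBase.two_false hcard L B5 B
  · obtain ⟨M5, NE5, X5, ε5, d5, S5, B5⟩ := exists_blk (not_prime hcard) 5 (by norm_num) Q
      (card_Q hcard Q) 4 1 (relIndex_of_local h5) (by norm_num)
    exact ElevenTwoFour.four_false hcard L B5 B

end Cfsg.Agent.SporadicA.M24.ElevenFiveTwo
end

-- part: M24P11/Arith
section
/-!
# Diophantine systems for the principal 11-block, order `244823040`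

Each lemma excludes one multiset of degrees.
-/

set_option autoImplicit false

namespace Cfsg.Agent.M24P11.Arith

/-! ### Sums of squares modulo small primes -/

theorem sq3 {x y : ℕ} (h : (x ^ 2 + y ^ 2) % 3 = 0) : x % 3 = 0 ∧ y % 3 = 0 := by
  have hx : x % 3 = 0 ∨ x % 3 = 1 ∨ x % 3 = 2 := by omega
  have hy : y % 3 = 0 ∨ y % 3 = 1 ∨ y % 3 = 2 := by omega
  rw [Nat.add_mod, Nat.pow_mod, Nat.pow_mod y] at h
  rcases hx with hx | hx | hx <;> rcases hy with hy | hy | hy <;> rw [hx, hy] at h <;>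
    revert h <;> simp_all

theorem sq7 {x y : ℕ} (h : (x ^ 2 + y ^ 2) % 7 = 0) : x % 7 = 0 ∧ y % 7 = 0 := by
  have hx : x % 7 = 0 ∨ x % 7 = 1 ∨ x % 7 = 2 ∨ x % 7 = 3 ∨ x % 7 = 4 ∨ x % 7 = 5 ∨
    x % 7 = 6 := by omega
  have hy : y % 7 = 0 ∨ y % 7 = 1 ∨ y % 7 = 2 ∨ y % 7 = 3 ∨ y % 7 = 4 ∨ y % 7 = 5 ∨
    y % 7 = 6 := by omega
  rw [Nat.add_mod, Nat.pow_mod, Nat.pow_mod y] at h
  rcases hx with hx | hx | hx | hx | hx | hx | hx <;>
    rcases hy with hy | hy | hy | hy | hy | hy | hy <;> rw [hx, hy] at h <;>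
    revert h <;> simp_all

/-- `3` is not a square modulo 7. -/
theorem sq7' {x y : ℕ} (h : (x ^ 2 + 4 * y ^ 2) % 7 = 0) : x % 7 = 0 ∧ y % 7 = 0 := by
  have h1 : (x ^ 2 + (2 * y) ^ 2) % 7 = 0 := by
    rw [mul_pow]; exact h
  have := sq7 h1
  omega

/-! ### The multisets without a degree `1035`, `3312`, `5796`, `7360`, `8832` -/

theorem a1 {u1 u2 u3 u4 f : ℕ} (hf0 : 0 < f) (hf : f ≤ 7) (p1 : 0 < u1) (b1 : 22 * u1 ≤ 22)
    (p2 : 0 < u2) (b2 : 22 * u2 ≤ 22) (p3 : 0 < u3) (b3 : 22 * u3 ≤ 22)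
    (hl : u1 + u2 + u3 + f = u4)
    (hq : 160 * u1 ^ 2 + 160 * u2 ^ 2 + 160 * u3 ^ 2 + 23 * f ^ 2 = 16 * u4 ^ 2) : False := by
  obtain rfl : u1 = 1 := by omega
  obtain rfl : u2 = 1 := by omega
  obtain rfl : u3 = 1 := by omega
  subst hl
  interval_cases f <;> omega

theorem a2 {x1 x2 x3 x4 f : ℕ} (hf0 : 0 < f) (hf : f ≤ 7)
    (hq : 3360 * x1 + 3360 * x2 + 280 * x3 + 483 * f ^ 2 = 160 * x4) : False := by
  interval_cases f <;> omega

theorem a3_chk : ∀ a < 11, ∀ b < 11,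
    ¬ 480 + 40 * (a + b - 5) ^ 2 + 1104 = 48 * a ^ 2 + 48 * b ^ 2 := by
  decide +kernel

theorem a3 {u1 u2 u3 u4 f : ℕ} (hf0 : 0 < f) (hf : f ≤ 7) (p1 : 0 < u1) (b1 : 22 * u1 ≤ 22)
    (b2 : 22 * u2 ≤ 229) (b3 : 22 * u3 ≤ 229)
    (hl : u1 + u4 + f = u2 + u3)
    (hq : 480 * u1 ^ 2 + 40 * u4 ^ 2 + 69 * f ^ 2 = 48 * u2 ^ 2 + 48 * u3 ^ 2) : False := by
  obtain rfl : u1 = 1 := by omega
  have h4 : f = 4 := by
    interval_cases f <;> omega
  subst h4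
  obtain rfl : u4 = u2 + u3 - 5 := by omega
  exact a3_chk u2 (by omega) u3 (by omega) (by omega)

theorem a4_chk : ∀ a < 13, ∀ b < 13,
    ¬ 480 + 40 * a ^ 2 + 40 * b ^ 2 + 1725 = 15 * (a + b + 6) ^ 2 := by
  decide +kernel

theorem a4 {u1 u2 u3 u4 f : ℕ} (hf0 : 0 < f) (hf : f ≤ 7) (p1 : 0 < u1) (b1 : 22 * u1 ≤ 22)
    (b2 : 22 * u2 ≤ 275) (b3 : 22 * u3 ≤ 275)
    (hl : u1 + u2 + u3 + f = u4)
    (hq : 480 * u1 ^ 2 + 40 * u2 ^ 2 + 40 * u3 ^ 2 + 69 * f ^ 2 = 15 * u4 ^ 2) : False := by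
  obtain rfl : u1 = 1 := by omega
  have h4 : f = 5 := by
    interval_cases f <;> omega
  subst h4
  obtain rfl : u4 = u2 + u3 + 6 := by omega
  exact a4_chk u2 (by omega) u3 (by omega) (by omega)

theorem a5_chk : ∀ a < 34, ∀ b < 34,
    ¬ 1120 + 20 * (a + b - 6) ^ 2 + 4025 = 35 * a ^ 2 + 35 * b ^ 2 := by
  decide +kernel

theorem a5 {u1 u2 u3 u4 f : ℕ} (hf0 : 0 < f) (hf : f ≤ 7) (p1 : 0 < u1) (b1 : 22 * u1 ≤ 22)
    (b2 : 22 * u2 ≤ 735) (b3 : 22 * u3 ≤ 735)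
    (hl : u1 + u4 + f = u2 + u3)
    (hq : 1120 * u1 ^ 2 + 20 * u4 ^ 2 + 161 * f ^ 2 = 35 * u2 ^ 2 + 35 * u3 ^ 2) : False := by
  obtain rfl : u1 = 1 := by omega
  have h4 : f = 5 := by
    interval_cases f <;> omega
  subst h4
  obtain rfl : u4 = u2 + u3 - 6 := by omega
  exact a5_chk u2 (by omega) u3 (by omega) (by omega)

theorem a6_chk : ∀ f < 8, ∀ a < 9, ∀ b < 9, 
    ¬ 3360 + 60 * (7 * a) ^ 2 + 60 * (7 * b) ^ 2 + 483 * (f + 1) ^ 2 =
      28 * (7 * a + 7 * b + (f + 1) + 1) ^ 2 := by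
  decide +kernel

theorem a6 {u1 u2 u3 u4 f : ℕ} (hf0 : 0 < f) (hf : f ≤ 7) (p1 : 0 < u1) (b1 : 22 * u1 ≤ 22)
    (b2 : 22 * u2 ≤ 1287) (b3 : 22 * u3 ≤ 1287)
    (hl : u1 + u2 + u3 + f = u4)
    (hq : 3360 * u1 ^ 2 + 60 * u2 ^ 2 + 60 * u3 ^ 2 + 483 * f ^ 2 = 28 * u4 ^ 2) : False := by
  obtain rfl : u1 = 1 := by omega
  obtain ⟨h2, h3⟩ := sq7 (x := u2) (y := u3) (by omega)
  obtain ⟨a, rfl⟩ := Nat.dvd_of_mod_eq_zero h2
  obtain ⟨b, rfl⟩ := Nat.dvd_of_mod_eq_zero h3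
  obtain ⟨g, rfl⟩ : ∃ g, f = g + 1 := ⟨f - 1, by omega⟩
  obtain rfl : u4 = 7 * a + 7 * b + (g + 1) + 1 := by omega
  exact a6_chk g (by omega) a (by omega) b (by omega) (by omega)

theorem a7_chk : ∀ g < 2, ∀ v < 42, ∀ s < 196,
    ¬ 1120 + 15 * (v + s - (g + 1)) ^ 2 + 161 * (3 * g + 2) ^ 2 = 84 * v ^ 2 + 18 * s ^ 2 := by
  decide +kernel

theorem a7 {u1 u2 u3 u4 f : ℕ} (hf0 : 0 < f) (hf : f ≤ 7) (p1 : 0 < u1) (b1 : 22 * u1 ≤ 22)
    (b2 : 22 * u2 ≤ 2759) (b3 : 22 * u3 ≤ 12879)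
    (hl : u1 + u4 + f = u2 + u3)
    (hq : 3360 * u1 ^ 2 + 5 * u4 ^ 2 + 483 * f ^ 2 = 28 * u2 ^ 2 + 6 * u3 ^ 2) : False := by
  obtain rfl : u1 = 1 := by omega
  obtain ⟨h2, h4⟩ := sq3 (x := u2) (y := u4) (by omega)
  obtain ⟨v, rfl⟩ := Nat.dvd_of_mod_eq_zero h2
  obtain ⟨w, rfl⟩ := Nat.dvd_of_mod_eq_zero h4
  have hq1 : 1120 + 15 * w ^ 2 + 161 * f ^ 2 = 84 * v ^ 2 + 2 * u3 ^ 2 := by
    have e1 : (3 * w) ^ 2 = 9 * w ^ 2 := by ring
    have e2 : (3 * v) ^ 2 = 9 * v ^ 2 := by ring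
    rw [e1, e2] at hq
    omega
  have h3 : u3 % 3 = 0 ∧ f % 3 ≠ 0 := by
    have e3 : (1 + 2 * f ^ 2) % 3 = (2 * u3 ^ 2) % 3 := by omega
    have hx : f % 3 = 0 ∨ f % 3 = 1 ∨ f % 3 = 2 := by omega
    have hy : u3 % 3 = 0 ∨ u3 % 3 = 1 ∨ u3 % 3 = 2 := by omega
    rw [Nat.add_mod, Nat.mul_mod 2 (f ^ 2), Nat.mul_mod 2 (u3 ^ 2), Nat.pow_mod f,
      Nat.pow_mod u3] at e3
    rcases hx with hx | hx | hx <;> rcases hy with hy | hy | hy <;> rw [hx, hy] at e3 <;>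
      revert e3 <;> simp_all
  obtain ⟨s, rfl⟩ := Nat.dvd_of_mod_eq_zero h3.1
  obtain ⟨g, rfl⟩ : ∃ g, f = 3 * g + 2 := ⟨(f - 2) / 3, by omega⟩
  obtain rfl : w = v + s - (g + 1) := by omega
  have e4 : (3 * s) ^ 2 = 9 * s ^ 2 := by ring
  rw [e4] at hq1
  exact a7_chk g (by omega) v (by omega) s (by omega) (by omega)

theorem a8_chk : ∀ a < 11, ∀ b < 13, ∀ c < 13,
    ¬ 280 * b ^ 2 + 280 * c ^ 2 + 7728 = 336 * a ^ 2 + 160 * (b + c + 4 - a) ^ 2 := by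
  decide +kernel

theorem a8 {u1 u2 u3 u4 f : ℕ} (hf0 : 0 < f) (hf : f ≤ 7) (b1 : 22 * u1 ≤ 229)
    (b2 : 22 * u2 ≤ 275) (b3 : 22 * u3 ≤ 275)
    (hl : u2 + u3 + f = u1 + u4)
    (hq : 280 * u2 ^ 2 + 280 * u3 ^ 2 + 483 * f ^ 2 = 336 * u1 ^ 2 + 160 * u4 ^ 2) : False := by
  have h4 : f = 4 := by
    interval_cases f <;> omega
  subst h4
  obtain rfl : u4 = u2 + u3 + 4 - u1 := by omega
  exact a8_chk u1 (by omega) u2 (by omega) u3 (by omega) (by omega)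

theorem a9_chk : ∀ g < 7, ∀ a < 11, ∀ b < 9,
    ¬ 60 * (7 * b) ^ 2 + 483 * (g + 1) ^ 2 =
      336 * a ^ 2 + 70560 + 105 * (7 * b + (g + 1) - a - 21) ^ 2 := by
  decide +kernel

theorem a9 {u1 u2 u3 u4 f : ℕ} (hf0 : 0 < f) (hf : f ≤ 7) (b1 : 22 * u1 ≤ 229)
    (p2 : 0 < u2) (b2 : 22 * u2 ≤ 482) (b4 : 22 * u4 ≤ 1287)
    (hl : u4 + f = u1 + u2 + u3)
    (hq : 60 * u4 ^ 2 + 483 * f ^ 2 = 336 * u1 ^ 2 + 160 * u2 ^ 2 + 105 * u3 ^ 2) : False := by
  have h7 : u2 % 7 = 0 ∧ u4 % 7 = 0 := sq7' (x := u2) (y := u4) (by omega)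
  have h3 : u2 % 3 = 0 := (sq3 (x := u2) (y := 0) (by omega)).1
  obtain rfl : u2 = 21 := by omega
  obtain ⟨b, rfl⟩ := Nat.dvd_of_mod_eq_zero h7.2
  obtain ⟨g, rfl⟩ : ∃ g, f = g + 1 := ⟨f - 1, by omega⟩
  obtain rfl : u3 = 7 * b + (g + 1) - u1 - 21 := by omega
  exact a9_chk g (by omega) u1 (by omega) b (by omega) (by omega)

theorem a10 {x1 x2 x3 x4 f : ℕ} (hf0 : 0 < f) (hf : f ≤ 7)
    (hq : 60 * x4 + 483 * f ^ 2 = 160 * x1 + 160 * x2 + 160 * x3) : False := by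
  interval_cases f <;> omega

/-! ### The remaining multisets, `|K| = 24` -/

theorem b1_chk : ∀ w < 10, ∀ a < 22,
    ¬ 10080 + 224 * (5 * w) ^ 2 + 36225 = 480 * a ^ 2 + 315 * (5 * w + 6 - a) ^ 2 := by
  decide +kernel

theorem b1 {u1 u2 u3 u4 : ℕ} (p1 : 0 < u1) (b1 : 22 * u1 ≤ 22)
    (b2 : 22 * u2 ≤ 482) (b4 : 22 * u4 ≤ 1034) (h5 : 5 ∣ u4)
    (hl : u1 + u4 + 5 = u2 + u3)
    (hq : 10080 * u1 ^ 2 + 224 * u4 ^ 2 + 36225 = 480 * u2 ^ 2 + 315 * u3 ^ 2) : False := by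
  obtain rfl : u1 = 1 := by omega
  obtain ⟨w, rfl⟩ := h5
  obtain rfl : u3 = 5 * w + 6 - u2 := by omega
  exact b1_chk w (by omega) u2 (by omega) (by omega)

theorem b2_chk : ∀ w < 26, ∀ a < 34,
    ¬ 1440 + 10 * (a + 5 * w - 6) ^ 2 + 5175 = 45 * a ^ 2 + 12 * (5 * w) ^ 2 := by
  decide +kernel

theorem b2 {u1 u2 u3 u4 : ℕ} (p1 : 0 < u1) (b1 : 22 * u1 ≤ 22)
    (b2 : 22 * u2 ≤ 735) (b3 : 22 * u3 ≤ 2759) (h5 : 5 ∣ u3)
    (hl : u1 + u4 + 5 = u2 + u3)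
    (hq : 1440 * u1 ^ 2 + 10 * u4 ^ 2 + 5175 = 45 * u2 ^ 2 + 12 * u3 ^ 2) : False := by
  obtain rfl : u1 = 1 := by omega
  obtain ⟨w, rfl⟩ := h5
  obtain rfl : u4 = u2 + 5 * w - 6 := by omega
  exact b2_chk w (by omega) u2 (by omega) (by omega)

theorem b3_chk : ∀ w < 67, ∀ a < 59,
    ¬ 13440 + 240 * a ^ 2 + 42 * (5 * w) ^ 2 + 48300 = 35 * (a + 5 * w + 6) ^ 2 := by
  decide +kernel

theorem b3 {u1 u2 u3 u4 : ℕ} (p1 : 0 < u1) (b1 : 22 * u1 ≤ 22)
    (b2 : 22 * u2 ≤ 1287) (b3 : 22 * u3 ≤ 7359) (h5 : 5 ∣ u3)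
    (hl : u1 + u2 + u3 + 5 = u4)
    (hq : 13440 * u1 ^ 2 + 240 * u2 ^ 2 + 42 * u3 ^ 2 + 48300 = 35 * u4 ^ 2) : False := by
  obtain rfl : u1 = 1 := by omega
  obtain ⟨w, rfl⟩ := h5
  obtain rfl : u4 = u2 + 5 * w + 6 := by omega
  exact b3_chk w (by omega) u2 (by omega) (by omega)

theorem b4_chk : ∀ a < 3, ∀ b < 3, ∀ w < 10,
    ¬ 32 * (5 * w) ^ 2 + 5175 =
      144 * (5 * a) ^ 2 + 144 * (5 * b) ^ 2 + 45 * (5 * w + 5 - 5 * a - 5 * b) ^ 2 := by
  decide +kernel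

theorem b4 {u1 u2 u3 u4 : ℕ} (b1 : 22 * u1 ≤ 229) (b2 : 22 * u2 ≤ 229) (b4 : 22 * u4 ≤ 1034)
    (h1 : 5 ∣ u1) (h2 : 5 ∣ u2) (h4 : 5 ∣ u4)
    (hl : u4 + 5 = u1 + u2 + u3)
    (hq : 32 * u4 ^ 2 + 5175 = 144 * u1 ^ 2 + 144 * u2 ^ 2 + 45 * u3 ^ 2) : False := by
  obtain ⟨a, rfl⟩ := h1
  obtain ⟨b, rfl⟩ := h2
  obtain ⟨w, rfl⟩ := h4
  obtain rfl : u3 = 5 * w + 5 - 5 * a - 5 * b := by omega
  exact b4_chk a (by omega) b (by omega) w (by omega) (by omega)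

theorem b8_chk : ∀ w < 10, ∀ a < 13, ∀ b < 34,
    ¬ 120 * a ^ 2 + 32 * (5 * w) ^ 2 + 5175 = 45 * b ^ 2 + 45 * (a + 5 * w + 5 - b) ^ 2 := by
  decide +kernel

theorem b8 {u1 u2 u3 u4 : ℕ} (b1 : 22 * u1 ≤ 275)
    (b2 : 22 * u2 ≤ 735) (b4 : 22 * u4 ≤ 1034) (h4 : 5 ∣ u4)
    (hl : u1 + u4 + 5 = u2 + u3)
    (hq : 120 * u1 ^ 2 + 32 * u4 ^ 2 + 5175 = 45 * u2 ^ 2 + 45 * u3 ^ 2) : False := by
  obtain ⟨w, rfl⟩ := h4
  obtain rfl : u3 = u1 + 5 * w + 5 - u2 := by omega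
  exact b8_chk w (by omega) u1 (by omega) u2 (by omega) (by omega)

theorem b10_chk : ∀ w < 34, ∀ a < 13, ∀ b < 10,
    ¬ 480 * a ^ 2 + 128 * (5 * b) ^ 2 + 18 * (10 * w) ^ 2 + 20700 =
      15 * (a + 5 * b + 10 * w + 5) ^ 2 := by
  decide +kernel

theorem even_of_sq {x : ℕ} (h : x ^ 2 % 2 = 0) : x % 2 = 0 := by
  have hx : x % 2 = 0 ∨ x % 2 = 1 := by omega
  rw [Nat.pow_mod] at h
  rcases hx with hx | hx
  · exact hx
  · rw [hx] at h; norm_num at h

theorem b10 {u1 u2 u3 u4 : ℕ} (b1 : 22 * u1 ≤ 275)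
    (b2 : 22 * u2 ≤ 1034) (b3 : 22 * u3 ≤ 7359) (h2 : 5 ∣ u2) (h3 : 5 ∣ u3)
    (hl : u1 + u2 + u3 + 5 = u4)
    (hq : 480 * u1 ^ 2 + 128 * u2 ^ 2 + 18 * u3 ^ 2 + 20700 = 15 * u4 ^ 2) : False := by
  obtain ⟨b, rfl⟩ := h2
  have h4 : u4 % 2 = 0 := even_of_sq (by omega)
  have h5 : u3 % 2 = 0 := by
    apply even_of_sq
    obtain ⟨z, rfl⟩ := Nat.dvd_of_mod_eq_zero h4
    have e1 : (2 * z) ^ 2 = 4 * z ^ 2 := by ring
    rw [e1] at hq
    omega
  obtain ⟨w, rfl⟩ : ∃ w, u3 = 10 * w := ⟨u3 / 10, by omega⟩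
  obtain rfl : u4 = u1 + 5 * b + 10 * w + 5 := by omega
  exact b10_chk w (by omega) u1 (by omega) b (by omega) (by omega)

theorem b13 {x1 x2 x3 u4 : ℕ}
    (hq : 448 * x1 + 63 * u4 ^ 2 + 72450 = 168 * x2 + 80 * x3) : False := by
  have h4 : u4 % 2 = 0 := even_of_sq (by omega)
  obtain ⟨z, rfl⟩ := Nat.dvd_of_mod_eq_zero h4
  have e1 : (2 * z) ^ 2 = 4 * z ^ 2 := by ring
  rw [e1] at hq
  omega

end Cfsg.Agent.M24P11.Arith
end

-- part: M24P11/Quads
section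
/-!
# The multisets of degrees of the principal 11-block, `e = 5`, order `244823040`
-/

set_option autoImplicit false

namespace Cfsg.Agent.M24P11.Quads

open Cfsg.Agent.M24P11.Arith

/-- The degrees divided by 23, `|K| = 24`. -/
def L24 : List ℕ := [1, 10, 12, 21, 32, 45, 56, 120, 144, 210, 252, 320, 384, 560, 672]

/-- The degrees divided by 23, `|K| = 288`. -/
def L288 : List ℕ := [1, 10, 12, 21, 32, 56, 120, 210, 560, 672]

/-- The positive part. -/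
def pos (q : ℕ) : ℕ := bif Nat.beq (q % 11) 1 then q else 0

/-- The negative part. -/
def neg (q : ℕ) : ℕ := bif Nat.beq (q % 11) 1 then 0 else q

/-- The sign. -/
def sg (q : ℕ) : ℤ := if q % 11 = 1 then 1 else -1

theorem pos_sub_neg (q : ℕ) : (pos q : ℤ) - neg q = sg q * q := by
  unfold pos neg sg
  by_cases h : q % 11 = 1
  · rw [if_pos h, h]; simp
  · rw [if_neg h]
    have : Nat.beq (q % 11) 1 = false := by
      rw [Bool.eq_false_iff]
      exact fun h' => h (Nat.eq_of_beq_eq_true h')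
    rw [this]; simp

def Q288 : List (ℕ × ℕ × ℕ × ℕ) :=
  [(1, 1, 1, 10), (1, 1, 12, 21), (1, 10, 10, 12), (1, 12, 12, 32), (1, 32, 32, 56),
    (1, 56, 56, 120), (1, 120, 560, 672), (10, 12, 12, 21), (10, 21, 32, 56), (21, 21, 21, 56)]

def Q24 : List (ℕ × ℕ × ℕ × ℕ) :=
  [(1, 21, 32, 45), (1, 32, 120, 144), (1, 56, 320, 384), (10, 10, 32, 45), (10, 21, 21, 45),
    (10, 21, 120, 144), (10, 45, 210, 252), (12, 32, 32, 45), (12, 45, 56, 120),
    (12, 45, 320, 384), (21, 56, 210, 252), (45, 56, 144, 252), (45, 120, 252, 320)]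

set_option maxRecDepth 100000 in
theorem quads24 : ∀ a ∈ L24, ∀ b ∈ L24, a ≤ b → ∀ c ∈ L24, b ≤ c → ∀ d ∈ L24, c ≤ d →
    pos a + pos b + pos c + pos d + 7 = neg a + neg b + neg c + neg d →
    (a, b, c, d) ∈ Q288 ∨ (a, b, c, d) ∈ Q24 := by
  decide +kernel

set_option maxRecDepth 100000 in
theorem quads288 : ∀ a ∈ L288, ∀ b ∈ L288, a ≤ b → ∀ c ∈ L288, b ≤ c → ∀ d ∈ L288, c ≤ d →
    pos a + pos b + pos c + pos d + 7 = neg a + neg b + neg c + neg d →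
    (a, b, c, d) ∈ Q288 := by
  decide +kernel

/-- The ten multisets which occur for `|K| = 288`. -/
theorem false_of_Q288 {q1 q2 q3 q4 u1 u2 u3 u4 f : ℕ} (hmem : (q1, q2, q3, q4) ∈ Q288)
    (hf0 : 0 < f) (hf : f ≤ 7)
    (p1 : 0 < u1) (p2 : 0 < u2) (p3 : 0 < u3)
    (b1 : 22 * u1 + 1 ≤ 23 * q1) (b2 : 22 * u2 + 1 ≤ 23 * q2)
    (b3 : 22 * u3 + 1 ≤ 23 * q3) (b4 : 22 * u4 + 1 ≤ 23 * q4)
    (hl : sg q1 * u1 + sg q2 * u2 + sg q3 * u3 + sg q4 * u4 = -f)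
    (hr : (sg q1 : ℚ) * (u1 ^ 2 / q1) + sg q2 * (u2 ^ 2 / q2) + sg q3 * (u3 ^ 2 / q3) +
      sg q4 * (u4 ^ 2 / q4) = -(23 * f ^ 2 / 160)) : False := by
  simp only [Q288, List.mem_cons, Prod.mk.injEq, List.not_mem_nil, or_false] at hmem
  rcases hmem with ⟨rfl, rfl, rfl, rfl⟩ | ⟨rfl, rfl, rfl, rfl⟩ | ⟨rfl, rfl, rfl, rfl⟩ |
    ⟨rfl, rfl, rfl, rfl⟩ | ⟨rfl, rfl, rfl, rfl⟩ | ⟨rfl, rfl, rfl, rfl⟩ | ⟨rfl, rfl, rfl, rfl⟩ |
    ⟨rfl, rfl, rfl, rfl⟩ | ⟨rfl, rfl, rfl, rfl⟩ | ⟨rfl, rfl, rfl, rfl⟩ <;>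
    norm_num [sg] at hl hr
  · refine a1 (u1 := u1) (u2 := u2) (u3 := u3) (u4 := u4) hf0 hf p1 (by omega) p2 (by omega)
      p3 (by omega) (by omega) ?_
    have : ((160 * u1 ^ 2 + 160 * u2 ^ 2 + 160 * u3 ^ 2 + 23 * f ^ 2 : ℕ) : ℚ) =
      ((16 * u4 ^ 2 : ℕ) : ℚ) := by push_cast; linarith
    exact_mod_cast this
  · refine a2 (x1 := u1 ^ 2) (x2 := u2 ^ 2) (x3 := u3 ^ 2) (x4 := u4 ^ 2) hf0 hf ?_
    have : ((3360 * u1 ^ 2 + 3360 * u2 ^ 2 + 280 * u3 ^ 2 + 483 * f ^ 2 : ℕ) : ℚ) =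
      ((160 * u4 ^ 2 : ℕ) : ℚ) := by push_cast; linarith
    exact_mod_cast this
  · refine a3 (u1 := u1) (u2 := u2) (u3 := u3) (u4 := u4) hf0 hf p1 (by omega) (by omega)
      (by omega) (by omega) ?_
    have : ((480 * u1 ^ 2 + 40 * u4 ^ 2 + 69 * f ^ 2 : ℕ) : ℚ) =
      ((48 * u2 ^ 2 + 48 * u3 ^ 2 : ℕ) : ℚ) := by push_cast; linarith
    exact_mod_cast this
  · refine a4 (u1 := u1) (u2 := u2) (u3 := u3) (u4 := u4) hf0 hf p1 (by omega) (by omega)
      (by omega) (by omega) ?_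
    have : ((480 * u1 ^ 2 + 40 * u2 ^ 2 + 40 * u3 ^ 2 + 69 * f ^ 2 : ℕ) : ℚ) =
      ((15 * u4 ^ 2 : ℕ) : ℚ) := by push_cast; linarith
    exact_mod_cast this
  · refine a5 (u1 := u1) (u2 := u2) (u3 := u3) (u4 := u4) hf0 hf p1 (by omega) (by omega)
      (by omega) (by omega) ?_
    have : ((1120 * u1 ^ 2 + 20 * u4 ^ 2 + 161 * f ^ 2 : ℕ) : ℚ) =
      ((35 * u2 ^ 2 + 35 * u3 ^ 2 : ℕ) : ℚ) := by push_cast; linarith
    exact_mod_cast this
  · refine a6 (u1 := u1) (u2 := u2) (u3 := u3) (u4 := u4) hf0 hf p1 (by omega) (by omega)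
      (by omega) (by omega) ?_
    have : ((3360 * u1 ^ 2 + 60 * u2 ^ 2 + 60 * u3 ^ 2 + 483 * f ^ 2 : ℕ) : ℚ) =
      ((28 * u4 ^ 2 : ℕ) : ℚ) := by push_cast; linarith
    exact_mod_cast this
  · refine a7 (u1 := u1) (u2 := u2) (u3 := u3) (u4 := u4) hf0 hf p1 (by omega) (by omega)
      (by omega) (by omega) ?_
    have : ((3360 * u1 ^ 2 + 5 * u4 ^ 2 + 483 * f ^ 2 : ℕ) : ℚ) =
      ((28 * u2 ^ 2 + 6 * u3 ^ 2 : ℕ) : ℚ) := by push_cast; linarith
    exact_mod_cast this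
  · refine a8 (u1 := u1) (u2 := u2) (u3 := u3) (u4 := u4) hf0 hf (by omega) (by omega)
      (by omega) (by omega) ?_
    have : ((280 * u2 ^ 2 + 280 * u3 ^ 2 + 483 * f ^ 2 : ℕ) : ℚ) =
      ((336 * u1 ^ 2 + 160 * u4 ^ 2 : ℕ) : ℚ) := by push_cast; linarith
    exact_mod_cast this
  · refine a9 (u1 := u1) (u2 := u2) (u3 := u3) (u4 := u4) hf0 hf (by omega) p2 (by omega)
      (by omega) (by omega) ?_
    have : ((60 * u4 ^ 2 + 483 * f ^ 2 : ℕ) : ℚ) =
      ((336 * u1 ^ 2 + 160 * u2 ^ 2 + 105 * u3 ^ 2 : ℕ) : ℚ) := by push_cast; linarith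
    exact_mod_cast this
  · refine a10 (x1 := u1 ^ 2) (x2 := u2 ^ 2) (x3 := u3 ^ 2) (x4 := u4 ^ 2) hf0 hf ?_
    have : ((60 * u4 ^ 2 + 483 * f ^ 2 : ℕ) : ℚ) =
      ((160 * u1 ^ 2 + 160 * u2 ^ 2 + 160 * u3 ^ 2 : ℕ) : ℚ) := by push_cast; linarith
    exact_mod_cast this

/-- The thirteen further multisets which occur for `|K| = 24`. -/
theorem false_of_Q24 {q1 q2 q3 q4 u1 u2 u3 u4 : ℕ} (hmem : (q1, q2, q3, q4) ∈ Q24)
    (p1 : 0 < u1)
    (b1 : 22 * u1 + 1 ≤ 23 * q1) (b2 : 22 * u2 + 1 ≤ 23 * q2)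
    (b3 : 22 * u3 + 1 ≤ 23 * q3) (b4 : 22 * u4 + 1 ≤ 23 * q4)
    (f1 : 5 ∣ q1 → 5 ∣ u1) (f2 : 5 ∣ q2 → 5 ∣ u2) (f3 : 5 ∣ q3 → 5 ∣ u3)
    (f4 : 5 ∣ q4 → 5 ∣ u4)
    (hl : sg q1 * u1 + sg q2 * u2 + sg q3 * u3 + sg q4 * u4 = -5)
    (hr : (sg q1 : ℚ) * (u1 ^ 2 / q1) + sg q2 * (u2 ^ 2 / q2) + sg q3 * (u3 ^ 2 / q3) +
      sg q4 * (u4 ^ 2 / q4) = -(23 * 5 ^ 2 / 160)) : False := by
  simp only [Q24, List.mem_cons, Prod.mk.injEq, List.not_mem_nil, or_false] at hmem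
  rcases hmem with ⟨rfl, rfl, rfl, rfl⟩ | ⟨rfl, rfl, rfl, rfl⟩ | ⟨rfl, rfl, rfl, rfl⟩ |
    ⟨rfl, rfl, rfl, rfl⟩ | ⟨rfl, rfl, rfl, rfl⟩ | ⟨rfl, rfl, rfl, rfl⟩ | ⟨rfl, rfl, rfl, rfl⟩ |
    ⟨rfl, rfl, rfl, rfl⟩ | ⟨rfl, rfl, rfl, rfl⟩ | ⟨rfl, rfl, rfl, rfl⟩ | ⟨rfl, rfl, rfl, rfl⟩ |
    ⟨rfl, rfl, rfl, rfl⟩ | ⟨rfl, rfl, rfl, rfl⟩ <;>
    norm_num [sg] at hl hr
  · refine Arith.b1 (u1 := u1) (u2 := u2) (u3 := u3) (u4 := u4) p1 (by omega) (by omega)
      (by omega) (f4 (by norm_num)) (by omega) ?_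
    have : ((10080 * u1 ^ 2 + 224 * u4 ^ 2 + 36225 : ℕ) : ℚ) =
      ((480 * u2 ^ 2 + 315 * u3 ^ 2 : ℕ) : ℚ) := by push_cast; linarith
    exact_mod_cast this
  · refine Arith.b2 (u1 := u1) (u2 := u2) (u3 := u3) (u4 := u4) p1 (by omega) (by omega)
      (by omega) (f3 (by norm_num)) (by omega) ?_
    have : ((1440 * u1 ^ 2 + 10 * u4 ^ 2 + 5175 : ℕ) : ℚ) =
      ((45 * u2 ^ 2 + 12 * u3 ^ 2 : ℕ) : ℚ) := by push_cast; linarith
    exact_mod_cast this
  · refine Arith.b3 (u1 := u1) (u2 := u2) (u3 := u3) (u4 := u4) p1 (by omega) (by omega)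
      (by omega) (f3 (by norm_num)) (by omega) ?_
    have : ((13440 * u1 ^ 2 + 240 * u2 ^ 2 + 42 * u3 ^ 2 + 48300 : ℕ) : ℚ) =
      ((35 * u4 ^ 2 : ℕ) : ℚ) := by push_cast; linarith
    exact_mod_cast this
  · refine Arith.b4 (u1 := u1) (u2 := u2) (u3 := u3) (u4 := u4) (by omega) (by omega)
      (by omega) (f1 (by norm_num)) (f2 (by norm_num)) (f4 (by norm_num)) (by omega) ?_
    have : ((32 * u4 ^ 2 + 5175 : ℕ) : ℚ) =
      ((144 * u1 ^ 2 + 144 * u2 ^ 2 + 45 * u3 ^ 2 : ℕ) : ℚ) := by push_cast; linarith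
    exact_mod_cast this
  · have : ((224 * u4 ^ 2 + 36225 : ℕ) : ℚ) =
      ((1008 * u1 ^ 2 + 480 * u2 ^ 2 + 480 * u3 ^ 2 : ℕ) : ℚ) := by push_cast; linarith
    have h1 : 224 * u4 ^ 2 + 36225 = 1008 * u1 ^ 2 + 480 * u2 ^ 2 + 480 * u3 ^ 2 := by
      exact_mod_cast this
    omega
  · have : ((70 * u4 ^ 2 + 36225 : ℕ) : ℚ) =
      ((1008 * u1 ^ 2 + 480 * u2 ^ 2 + 84 * u3 ^ 2 : ℕ) : ℚ) := by push_cast; linarith
    have h1 : 70 * u4 ^ 2 + 36225 = 1008 * u1 ^ 2 + 480 * u2 ^ 2 + 84 * u3 ^ 2 := by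
      exact_mod_cast this
    omega
  · have : ((224 * u2 ^ 2 + 48 * u3 ^ 2 + 36225 : ℕ) : ℚ) =
      ((1008 * u1 ^ 2 + 40 * u4 ^ 2 : ℕ) : ℚ) := by push_cast; linarith
    have h1 : 224 * u2 ^ 2 + 48 * u3 ^ 2 + 36225 = 1008 * u1 ^ 2 + 40 * u4 ^ 2 := by
      exact_mod_cast this
    omega
  · refine Arith.b8 (u1 := u1) (u2 := u2) (u3 := u3) (u4 := u4) (by omega) (by omega)
      (by omega) (f4 (by norm_num)) (by omega) ?_
    have : ((120 * u1 ^ 2 + 32 * u4 ^ 2 + 5175 : ℕ) : ℚ) =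
      ((45 * u2 ^ 2 + 45 * u3 ^ 2 : ℕ) : ℚ) := by push_cast; linarith
    exact_mod_cast this
  · have : ((840 * u1 ^ 2 + 224 * u2 ^ 2 + 180 * u3 ^ 2 + 36225 : ℕ) : ℚ) =
      ((84 * u4 ^ 2 : ℕ) : ℚ) := by push_cast; linarith
    have h1 : 840 * u1 ^ 2 + 224 * u2 ^ 2 + 180 * u3 ^ 2 + 36225 = 84 * u4 ^ 2 := by
      exact_mod_cast this
    omega
  · refine Arith.b10 (u1 := u1) (u2 := u2) (u3 := u3) (u4 := u4) (by omega) (by omega)
      (by omega) (f2 (by norm_num)) (f3 (by norm_num)) (by omega) ?_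
    have : ((480 * u1 ^ 2 + 128 * u2 ^ 2 + 18 * u3 ^ 2 + 20700 : ℕ) : ℚ) =
      ((15 * u4 ^ 2 : ℕ) : ℚ) := by push_cast; linarith
    exact_mod_cast this
  · have : ((180 * u2 ^ 2 + 48 * u3 ^ 2 + 36225 : ℕ) : ℚ) =
      ((480 * u1 ^ 2 + 40 * u4 ^ 2 : ℕ) : ℚ) := by push_cast; linarith
    have h1 : 180 * u2 ^ 2 + 48 * u3 ^ 2 + 36225 = 480 * u1 ^ 2 + 40 * u4 ^ 2 := by
      exact_mod_cast this
    omega
  · have : ((224 * u1 ^ 2 + 180 * u2 ^ 2 + 70 * u3 ^ 2 + 36225 : ℕ) : ℚ) =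
      ((40 * u4 ^ 2 : ℕ) : ℚ) := by push_cast; linarith
    have h1 : 224 * u1 ^ 2 + 180 * u2 ^ 2 + 70 * u3 ^ 2 + 36225 = 40 * u4 ^ 2 := by
      exact_mod_cast this
    omega
  · refine Arith.b13 (x1 := u1 ^ 2) (x2 := u2 ^ 2) (x3 := u3 ^ 2) (u4 := u4) ?_
    have : ((448 * u1 ^ 2 + 63 * u4 ^ 2 + 72450 : ℕ) : ℚ) =
      ((168 * u2 ^ 2 + 80 * u3 ^ 2 : ℕ) : ℚ) := by push_cast; linarith
    exact_mod_cast this

end Cfsg.Agent.M24P11.Quads
end

-- part: M24P11/Common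
section
/-!
# Sylow 11-subgroups in a simple group of order `244823040`: common tools
-/

set_option autoImplicit false
set_option linter.unusedSectionVars false

namespace Cfsg.Agent.M24P11.Common

open Cfsg Subgroup Cfsg.Agent.Characters.Core
open Cfsg.Agent.Blocks.Basic (irr_one_eq_charDegree)
open Cfsg.Agent.SmallSimple Cfsg.Agent.SmallSimple.PrimeLocal Cfsg.Agent.M22.NonSelfCent
open Cfsg.Agent.M23.Block Cfsg.Agent.M23.Adm Cfsg.Agent.SporadicA.M24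
open Cfsg.Agent.M23.ElevenCommon (relIndex_eq K_ne_bot)

universe u

variable {G : Type u} [Group G] [Finite G] [IsSimpleGroup G]

theorem card_eleven (hcard : Nat.card G = 244823040) (P : Sylow 11 G) : Nat.card P = 11 := by
  have hp : Fact (Nat.Prime 11) := ⟨by norm_num⟩
  exact card_of_not_sq_dvd (by rw [hcard]; norm_num) (by rw [hcard]; norm_num) P

theorem exists_blk_of_local (hcard : Nat.card G = 244823040) {p e t : ℕ} [Fact p.Prime]
    (hp2 : p ≠ 2) {P : Sylow p G} (hP : Nat.card P = p) {K : Subgroup G} (h : IsLocal p P e K)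
    (ht : e * t = p - 1) :
    ∃ M NE X ε d S, Blk p P e t M NE X ε d S :=
  exists_blk (Sylow23.not_prime hcard) p hp2 P hP e t
    (relIndex_eq (Nat.Prime.pos Fact.out) h) ht

section

variable {e t : ℕ} {P : Sylow 11 G} {M : Ideal AlgInt} {NE X : Finset (IrrCharacter G)}
  {ε : IrrCharacter G → ℤ} {d : ℤ} {S : IrrCharacter G → Finset (P →* ℂˣ)}

/-- Class integrality. -/
theorem mul_dvd (hcard : Nat.card G = 244823040) {K : Subgroup G} (h : IsLocal 11 P e K)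
    (B : Blk 11 P e t M NE X ε d S) {χ : IrrCharacter G} (hχ : χ ∈ NE ∨ χ ∈ X) :
    charDegree (χ : G → ℂ) * (11 * Nat.card K) ∣ 244823040 := by
  have hp : Fact (Nat.Prime 11) := ⟨by norm_num⟩
  rw [← hcard]
  exact BlockIndex.mul_dvd_card B (card_eleven hcard P) h.card_centralizer hχ

/-- All facts about the degree of a nontrivial nonexceptional character of the principal
11-block. -/
theorem ne_facts (hcard : Nat.card G = 244823040) (P23 : Sylow 23 G)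
    {K : Subgroup G} (h : IsLocal 11 P e K) (hK1 : Nat.card K ≠ 1)
    (B : Blk 11 P e t M NE X ε d S)
    {χ : IrrCharacter G} (hχ : χ ∈ NE) (hχ1 : χ ≠ ⟨1, isIrr_one⟩) :
    ∃ (s : ℤ) (a : ℕ), V (P23 : Subgroup G) (χ : G → ℂ) = s ∧
      AdmAt (charDegree (χ : G → ℂ)) s ∧
      charDegree (χ : G → ℂ) * (11 * Nat.card K) ∣ 244823040 ∧
      charDegree (χ : G → ℂ) < 15647 ∧ 2 ≤ a ∧
      ((ε χ = 1 ∧ charDegree (χ : G → ℂ) = 11 * a + 1) ∨
        (ε χ = -1 ∧ charDegree (χ : G → ℂ) + 1 = 11 * (a + 1))) ∧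
      InvVal 11 (χ : G → ℂ) a K := by
  obtain ⟨s, hs1, hs2⟩ := Adm.adm hcard P23 χ
  have hcop : Nat.Coprime 11 (Nat.card K) :=
    (Nat.Prime.coprime_iff_not_dvd (by norm_num)).2 h.not_dvd
  obtain ⟨a, ha, hdeg, hinv⟩ := B.kb.ne_data K h.le_centralizer hcop (K_ne_bot hK1) χ hχ hχ1
  exact ⟨s, a, hs1, hs2, mul_dvd hcard h B (Or.inl hχ), Sylow23.charDegree_lt hcard χ, ha, hdeg,
    hinv⟩

/-- All facts about the degree of an exceptional character of the principal 11-block. -/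
theorem x_facts (hcard : Nat.card G = 244823040) (P23 : Sylow 23 G)
    {K : Subgroup G} (h : IsLocal 11 P e K) (hK1 : Nat.card K ≠ 1)
    (B : Blk 11 P e t M NE X ε d S) {Θ : IrrCharacter G} (hΘ : Θ ∈ X) :
    ∃ (s : ℤ) (a : ℕ), V (P23 : Subgroup G) (Θ : G → ℂ) = s ∧
      AdmAt (charDegree (Θ : G → ℂ)) s ∧
      charDegree (Θ : G → ℂ) * (11 * Nat.card K) ∣ 244823040 ∧
      charDegree (Θ : G → ℂ) < 15647 ∧ 2 ≤ a ∧
      ((d = 1 ∧ charDegree (Θ : G → ℂ) = 11 * a + e) ∨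
        (d = -1 ∧ charDegree (Θ : G → ℂ) + e = 11 * (a + 1))) ∧
      InvVal 11 (Θ : G → ℂ) a K := by
  obtain ⟨s, hs1, hs2⟩ := Adm.adm hcard P23 Θ
  have hcop : Nat.Coprime 11 (Nat.card K) :=
    (Nat.Prime.coprime_iff_not_dvd (by norm_num)).2 h.not_dvd
  obtain ⟨a, ha, hdeg, hinv⟩ := B.kb.x_data K h.le_centralizer hcop (K_ne_bot hK1) Θ hΘ
  exact ⟨s, a, hs1, hs2, mul_dvd hcard h B (Or.inr hΘ), Sylow23.charDegree_lt hcard Θ, ha, hdeg,
    hinv⟩

/-- The relation of the principal 11-block summed over the nontrivial elements of `P₂₃`. -/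
theorem sum_V_eq (hcard : Nat.card G = 244823040) (P23 : Sylow 23 G)
    (B : Blk 11 P e t M NE X ε d S)
    {Θ : IrrCharacter G} (hΘ : Θ ∈ X) {v : IrrCharacter G → ℤ}
    (hv : ∀ χ : IrrCharacter G, V (P23 : Subgroup G) (χ : G → ℂ) = v χ) :
    ∑ χ ∈ NE, ε χ * v χ = d * v Θ := by
  have hP : Nat.card (P23 : Subgroup G) = 23 := Sylow23.card_P hcard P23
  have h1 := sum_V NE (fun χ => (ε χ : ℂ)) (fun χ : IrrCharacter G => (χ : G → ℂ))
    (P23 : Subgroup G) (g := (Θ : G → ℂ)) (d := (d : ℂ)) (fun x hx hx1 => by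
      apply B.kb.rel Θ hΘ x
      have h2 : orderOf x ∣ 23 := by
        have := orderOf_dvd_natCard (⟨x, hx⟩ : (P23 : Subgroup G))
        rw [Subgroup.orderOf_mk, hP] at this
        exact this
      intro h3
      have := h3.trans h2
      revert this
      norm_num)
  rw [hv, Finset.sum_congr rfl fun χ _ => by rw [hv]] at h1
  exact_mod_cast h1

end

theorem v_one (hcard : Nat.card G = 244823040) (P23 : Sylow 23 G) :
    V (P23 : Subgroup G) ((⟨1, isIrr_one⟩ : IrrCharacter G) : G → ℂ) = (22 : ℤ) := by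
  have hP : Nat.card (P23 : Subgroup G) = 23 := Sylow23.card_P hcard P23
  have h := V_const (χ := ((⟨1, isIrr_one⟩ : IrrCharacter G) : G → ℂ)) (P23 : Subgroup G)
    (c := 1) (fun x _ _ => rfl)
  rw [h, hP]
  norm_num

end Cfsg.Agent.M24P11.Common
end

-- part: M24P11/Five
section
/-!
# Sylow 11-subgroups in a simple group of order `244823040`: `e = 5`, `|K| = 24, 288`
-/

set_option autoImplicit false
set_option linter.unusedSectionVars false

namespace Cfsg.Agent.M24P11.Five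

open Cfsg Subgroup Cfsg.Agent.Characters.Core
open Cfsg.Agent.Blocks.Basic (irr_one_eq_charDegree)
open Cfsg.Agent.SmallSimple Cfsg.Agent.SmallSimple.PrimeLocal Cfsg.Agent.M22.NonSelfCent
open Cfsg.Agent.M23.Block Cfsg.Agent.M23.Adm Cfsg.Agent.SporadicA.M24
open Cfsg.Agent.M24P11.Common Cfsg.Agent.M24P11.Quads

universe u

/-- Sorting four elements. -/
theorem exists_sorted_four {α : Type*} (T : Finset α) (hT : T.card = 4) (q : α → ℕ) :
    ∃ a ∈ T, ∃ b ∈ T, ∃ c ∈ T, ∃ d ∈ T, q a ≤ q b ∧ q b ≤ q c ∧ q c ≤ q d ∧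
      (∀ f : α → ℤ, ∑ x ∈ T, f x = f a + f b + f c + f d) ∧
      (∀ f : α → ℚ, ∑ x ∈ T, f x = f a + f b + f c + f d) := by
  classical
  let r : α → α → Prop := fun x y => q x ≤ q y
  have hr1 : Std.Total r := ⟨fun x y => le_total (q x) (q y)⟩
  have hr2 : IsTrans α r := ⟨fun x y z h1 h2 => le_trans h1 h2⟩
  set l := T.toList.insertionSort r with hl
  have hperm : l.Perm T.toList := List.perm_insertionSort r _
  have hlen : l.length = 4 := by rw [hperm.length_eq, Finset.length_toList, hT]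
  have hsort : l.Pairwise r := List.pairwise_insertionSort r _
  have hmem : ∀ x ∈ l, x ∈ T := fun x hx => Finset.mem_toList.1 (hperm.mem_iff.1 hx)
  have hsumZ : ∀ f : α → ℤ, ∑ x ∈ T, f x = (l.map f).sum := fun f => by
    rw [(hperm.map f).sum_eq, Finset.sum_map_toList]
  have hsumQ : ∀ f : α → ℚ, ∑ x ∈ T, f x = (l.map f).sum := fun f => by
    rw [(hperm.map f).sum_eq, Finset.sum_map_toList]
  clear_value l
  match l, hlen with
  | [a, b, c, d], _ =>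
    simp only [List.pairwise_cons, List.mem_cons, List.not_mem_nil, or_false, forall_eq_or_imp,
      forall_eq] at hsort
    refine ⟨a, hmem a (by simp), b, hmem b (by simp), c, hmem c (by simp), d, hmem d (by simp),
      hsort.1.1, hsort.2.1.1, hsort.2.2.1, fun f => ?_, fun f => ?_⟩
    · rw [hsumZ]; simp [add_assoc]
    · rw [hsumQ]; simp [add_assoc]

variable {G : Type u} [Group G] [Finite G] [IsSimpleGroup G]
variable {P : Sylow 11 G} {K : Subgroup G} {M : Ideal AlgInt}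
  {NE X : Finset (IrrCharacter G)} {ε : IrrCharacter G → ℤ} {d : ℤ}
  {S : IrrCharacter G → Finset (P →* ℂˣ)} {Θ : IrrCharacter G}

/-- If the degree is divisible by 5 and `t` commutes with an element of order 5, then the value at
the involution `t` is divisible by 5. -/
theorem five_dvd (hcard : Nat.card G = 244823040) (χ : IrrCharacter G)
    (h5 : 5 ∣ charDegree (χ : G → ℂ)) {t y : G} (ht2 : t * t = 1) (ht1 : t ≠ 1)
    (hy : orderOf y = 5) (hty : t * y = y * t) {z : ℤ} (hz : (χ : G → ℂ) t = z) : (5 : ℤ) ∣ z := by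
  have hot : orderOf t = 2 := orderOf_eq_prime (by rw [pow_two]; exact ht2) ht1
  have hcomm : Commute y t := hty.symm
  have hzero : (χ : G → ℂ) (y * t) = ((0 : ℤ) : ℂ) := by
    rw [Int.cast_zero]
    refine KBlock.eq_zero_of_defect_zero χ (r := 5) (n := 1) (by norm_num)
      (by rw [hcard]; norm_num) (by rw [hcard]; norm_num) (by rw [pow_one]; exact h5) ?_
    rw [hcomm.orderOf_mul_eq_mul_orderOf_of_coprime (by rw [hy, hot]; norm_num), hy]
    exact dvd_mul_right _ _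
  have h1 := M23.ElevenFive.dvd_sub_of_ppart (q := 5) (by norm_num) χ.2 hcomm
    ⟨1, by rw [hy]; norm_num⟩ (by rw [hot]; norm_num) hzero hz
  rw [zero_sub] at h1
  exact (Int.dvd_neg).1 h1

theorem sg_eq_one {q : ℕ} (h : q % 11 = 1) : sg q = 1 := if_pos h

theorem sg_eq_neg {q : ℕ} (h : q % 11 ≠ 1) : sg q = -1 := if_neg h

theorem system (hcard : Nat.card G = 244823040) (h : IsLocal 11 P 5 K) (hK1 : Nat.card K ≠ 1)
    (B : Blk 11 P 5 2 M NE X ε d S) (hΘ : Θ ∈ X)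
    (h160 : charDegree (Θ : G → ℂ) = 160) (hd : d = -1) {L : List ℕ}
    (hL : ∀ χ : IrrCharacter G, χ ∈ NE → χ ≠ ⟨1, isIrr_one⟩ →
      ∃ q ∈ L, charDegree (χ : G → ℂ) = 23 * q)
    {t : G} (ht : t ∈ K) (ht2 : t * t = 1) (ht1 : t ≠ 1) :
    ∃ q1 ∈ L, ∃ q2 ∈ L, ∃ q3 ∈ L, ∃ q4 ∈ L, ∃ u1 u2 u3 u4 f : ℕ,
      q1 ≤ q2 ∧ q2 ≤ q3 ∧ q3 ≤ q4 ∧
      pos q1 + pos q2 + pos q3 + pos q4 + 7 = neg q1 + neg q2 + neg q3 + neg q4 ∧
      0 < f ∧ f ≤ 7 ∧ 0 < u1 ∧ 0 < u2 ∧ 0 < u3 ∧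
      22 * u1 + 1 ≤ 23 * q1 ∧ 22 * u2 + 1 ≤ 23 * q2 ∧ 22 * u3 + 1 ≤ 23 * q3 ∧
      22 * u4 + 1 ≤ 23 * q4 ∧
      sg q1 * u1 + sg q2 * u2 + sg q3 * u3 + sg q4 * u4 = -f ∧
      (sg q1 : ℚ) * (u1 ^ 2 / q1) + sg q2 * (u2 ^ 2 / q2) + sg q3 * (u3 ^ 2 / q3) +
        sg q4 * (u4 ^ 2 / q4) = -(23 * f ^ 2 / 160) ∧
      ((∃ y : G, orderOf y = 5 ∧ t * y = y * t) → (5 ∣ q1 → 5 ∣ u1) ∧ (5 ∣ q2 → 5 ∣ u2) ∧
        (5 ∣ q3 → 5 ∣ u3) ∧ (5 ∣ q4 → 5 ∣ u4) ∧ 5 ∣ f) := by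
  classical
  have hp : Fact (Nat.Prime 11) := ⟨by norm_num⟩
  have hP := card_eleven hcard P
  let P23 : Sylow 23 G := default
  subst hd
  have hot : orderOf t = 2 := orderOf_eq_prime (by rw [pow_two]; exact ht2) ht1
  have h11 : ¬ 11 ∣ orderOf t := by rw [hot]; norm_num
  -- the exceptional character
  obtain ⟨f, hf0, hf7, hΘt⟩ : ∃ f : ℕ, 0 < f ∧ f ≤ 7 ∧ (Θ : G → ℂ) t = ((160 - 44 * f : ℤ) : ℂ) := by
    obtain ⟨s, a, -, -, -, -, -, hdeg, hinv⟩ := x_facts hcard P23 h hK1 B hΘ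
    obtain ⟨m, hm0, hma, hm⟩ := hinv t ht ht2 ht1
    rw [h160] at hdeg hm
    refine ⟨m, hm0, by omega, ?_⟩
    rw [hm]; push_cast; ring
  -- the nonexceptional characters
  have hL' : ∀ χ : IrrCharacter G, ∃ q : ℕ, χ ∈ NE → χ ≠ ⟨1, isIrr_one⟩ →
      q ∈ L ∧ charDegree (χ : G → ℂ) = 23 * q := by
    intro χ
    by_cases hχ : χ ∈ NE ∧ χ ≠ ⟨1, isIrr_one⟩
    · obtain ⟨q, h1, h2⟩ := hL χ hχ.1 hχ.2
      exact ⟨q, fun _ _ => ⟨h1, h2⟩⟩
    · exact ⟨0, fun h1 h2 => (hχ ⟨h1, h2⟩).elim⟩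
  choose qf hqf using hL'
  have hu : ∀ χ : IrrCharacter G, ∃ m : ℕ, χ ∈ NE → χ ≠ ⟨1, isIrr_one⟩ →
      0 < m ∧ 22 * m + 1 ≤ 23 * qf χ ∧ ε χ = sg (qf χ) ∧
      (χ : G → ℂ) t = ((23 * qf χ - 44 * m : ℤ) : ℂ) := by
    intro χ
    by_cases hχ : χ ∈ NE ∧ χ ≠ ⟨1, isIrr_one⟩
    · obtain ⟨h1, h2⟩ := hqf χ hχ.1 hχ.2
      obtain ⟨s, a, -, -, -, -, -, hdeg, hinv⟩ := ne_facts hcard P23 h hK1 B hχ.1 hχ.2
      obtain ⟨m, hm0, hma, hm⟩ := hinv t ht ht2 ht1
      rw [h2] at hdeg hm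
      refine ⟨m, fun _ _ => ⟨hm0, by omega, ?_, ?_⟩⟩
      · rcases hdeg with ⟨he, hdeg⟩ | ⟨he, hdeg⟩
        · rw [he, sg_eq_one (by omega)]
        · rw [he, sg_eq_neg (by omega)]
      · rw [hm]; push_cast; ring
    · exact ⟨0, fun h1 h2 => (hχ ⟨h1, h2⟩).elim⟩
  choose uf huf using hu
  have hT : ∀ χ ∈ NE.erase ⟨1, isIrr_one⟩, χ ∈ NE ∧ χ ≠ ⟨1, isIrr_one⟩ := fun χ hχ =>
    ⟨Finset.mem_of_mem_erase hχ, Finset.ne_of_mem_erase hχ⟩
  have hcardT : (NE.erase ⟨1, isIrr_one⟩).card = 4 := by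
    rw [Finset.card_erase_of_mem B.kb.one_mem, B.kb.card_NE]
  -- degrees
  have r0 : ∑ χ ∈ NE.erase ⟨1, isIrr_one⟩, sg (qf χ) * (qf χ : ℤ) = -7 := by
    have h1 := B.kb.rel_one Θ hΘ
    rw [← Finset.add_sum_erase _ _ B.kb.one_mem, B.kb.eps_one, h160] at h1
    have h2 : ∑ χ ∈ NE.erase ⟨1, isIrr_one⟩, ε χ * (charDegree (χ : G → ℂ) : ℤ) =
        23 * ∑ χ ∈ NE.erase ⟨1, isIrr_one⟩, sg (qf χ) * (qf χ : ℤ) := by
      rw [Finset.mul_sum]
      refine Finset.sum_congr rfl fun χ hχ => ?_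
      obtain ⟨h3, h4⟩ := hT χ hχ
      rw [(hqf χ h3 h4).2, (huf χ h3 h4).2.2.1]
      push_cast; ring
    have h3 : (charDegree ((⟨1, isIrr_one⟩ : IrrCharacter G) : G → ℂ) : ℤ) = 1 := by
      have h4 := irr_one_eq_charDegree (⟨1, isIrr_one⟩ : IrrCharacter G).2
      have h5 : ((⟨1, isIrr_one⟩ : IrrCharacter G) : G → ℂ) 1 = 1 := rfl
      rw [h5] at h4
      exact_mod_cast h4.symm
    rw [h2, h3] at h1
    push_cast at h1
    omega
  -- values
  have r1 : ∑ χ ∈ NE.erase ⟨1, isIrr_one⟩, sg (qf χ) * (uf χ : ℤ) = -f := by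
    have h1 := B.kb.rel Θ hΘ t h11
    rw [← Finset.add_sum_erase _ _ B.kb.one_mem, B.kb.eps_one, hΘt] at h1
    have h2 : ∑ χ ∈ NE.erase ⟨1, isIrr_one⟩, (ε χ : ℂ) * (χ : G → ℂ) t =
        ((23 * ∑ χ ∈ NE.erase ⟨1, isIrr_one⟩, sg (qf χ) * (qf χ : ℤ) -
          44 * ∑ χ ∈ NE.erase ⟨1, isIrr_one⟩, sg (qf χ) * (uf χ : ℤ) : ℤ) : ℂ) := by
      rw [Finset.mul_sum, Finset.mul_sum, ← Finset.sum_sub_distrib, Int.cast_sum]
      refine Finset.sum_congr rfl fun χ hχ => ?_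
      obtain ⟨h3, h4⟩ := hT χ hχ
      rw [(huf χ h3 h4).2.2.2, (huf χ h3 h4).2.2.1]
      push_cast; ring
    have h5 : ((⟨1, isIrr_one⟩ : IrrCharacter G) : G → ℂ) t = 1 := rfl
    rw [h2, h5, r0] at h1
    have h6 : (1 : ℤ) * 1 + (23 * (-7) -
        44 * ∑ χ ∈ NE.erase ⟨1, isIrr_one⟩, sg (qf χ) * (uf χ : ℤ)) = -1 * (160 - 44 * f) := by
      exact_mod_cast h1
    omega
  have r2 : ∑ χ ∈ NE.erase ⟨1, isIrr_one⟩, (sg (qf χ) : ℚ) * ((uf χ : ℚ) ^ 2 / qf χ) =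
      -(23 * f ^ 2 / 160) := by
    have h1 := BlockIndex.sum_eq_of_odd B hP (by norm_num) h (by decide) hΘ ht2 ht2
    rw [← Finset.add_sum_erase _ _ B.kb.one_mem, B.kb.eps_one, hΘt, irr_one_eq_charDegree Θ.2,
      h160] at h1
    have h2 : ∑ χ ∈ NE.erase ⟨1, isIrr_one⟩,
        (ε χ : ℂ) * ((χ : G → ℂ) t * (χ : G → ℂ) t / (χ : G → ℂ) 1) =
        ((23 * ∑ χ ∈ NE.erase ⟨1, isIrr_one⟩, (sg (qf χ) : ℚ) * (qf χ : ℚ) -
          88 * ∑ χ ∈ NE.erase ⟨1, isIrr_one⟩, (sg (qf χ) : ℚ) * (uf χ : ℚ) +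
          1936 / 23 * ∑ χ ∈ NE.erase ⟨1, isIrr_one⟩,
            (sg (qf χ) : ℚ) * ((uf χ : ℚ) ^ 2 / qf χ) : ℚ) : ℂ) := by
      rw [Finset.mul_sum, Finset.mul_sum, Finset.mul_sum, ← Finset.sum_sub_distrib,
        ← Finset.sum_add_distrib, Rat.cast_sum]
      refine Finset.sum_congr rfl fun χ hχ => ?_
      obtain ⟨h3, h4⟩ := hT χ hχ
      obtain ⟨h5, h6, h7, h8⟩ := huf χ h3 h4
      have h9 : (qf χ : ℂ) ≠ 0 := by
        have : qf χ ≠ 0 := by omega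
        exact_mod_cast this
      rw [h8, h7, irr_one_eq_charDegree χ.2, (hqf χ h3 h4).2]
      push_cast
      field_simp
      ring
    have h5 : ((⟨1, isIrr_one⟩ : IrrCharacter G) : G → ℂ) t = 1 := rfl
    have h6 : ((⟨1, isIrr_one⟩ : IrrCharacter G) : G → ℂ) 1 = 1 := rfl
    have r0' : ∑ χ ∈ NE.erase ⟨1, isIrr_one⟩, (sg (qf χ) : ℚ) * (qf χ : ℚ) = -7 := by
      exact_mod_cast r0
    have r1' : ∑ χ ∈ NE.erase ⟨1, isIrr_one⟩, (sg (qf χ) : ℚ) * (uf χ : ℚ) = -f := by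
      exact_mod_cast r1
    rw [h2, h5, h6, r0', r1'] at h1
    generalize ∑ χ ∈ NE.erase ⟨1, isIrr_one⟩, (sg (qf χ) : ℚ) * ((uf χ : ℚ) ^ 2 / qf χ) = s at h1 ⊢
    have h7 : (1 : ℚ) * (1 * 1 / 1) + (23 * (-7) - 88 * (-f) + 1936 / 23 * s) =
        (-1) * ((160 - 44 * f) * (160 - 44 * f) / 160) := by
      have h8 : (((1 : ℚ) * (1 * 1 / 1) + (23 * (-7) - 88 * (-f) + 1936 / 23 * s) : ℚ) : ℂ) =
          (((-1) * ((160 - 44 * f) * (160 - 44 * f) / 160) : ℚ) : ℂ) := by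
        push_cast
        push_cast at h1
        exact h1
      exact_mod_cast h8
    linarith
  obtain ⟨χ1, m1, χ2, m2, χ3, m3, χ4, m4, s1, s2, s3, hZ, hQ⟩ :=
    exists_sorted_four (NE.erase ⟨1, isIrr_one⟩) hcardT qf
  rw [hZ] at r0 r1
  rw [hQ] at r2
  obtain ⟨n1, k1⟩ := hT χ1 m1
  obtain ⟨n2, k2⟩ := hT χ2 m2
  obtain ⟨n3, k3⟩ := hT χ3 m3
  obtain ⟨n4, k4⟩ := hT χ4 m4
  have e1 := huf χ1 n1 k1
  have e2 := huf χ2 n2 k2
  have e3 := huf χ3 n3 k3
  have e4 := huf χ4 n4 k4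
  refine ⟨qf χ1, (hqf χ1 n1 k1).1, qf χ2, (hqf χ2 n2 k2).1, qf χ3, (hqf χ3 n3 k3).1,
    qf χ4, (hqf χ4 n4 k4).1, uf χ1, uf χ2, uf χ3, uf χ4, f, s1, s2, s3, ?_, hf0, hf7, e1.1, e2.1,
    e3.1, e1.2.1, e2.2.1, e3.2.1, e4.2.1, r1, r2, ?_⟩
  · rw [← pos_sub_neg, ← pos_sub_neg, ← pos_sub_neg, ← pos_sub_neg] at r0
    omega
  · rintro ⟨y, hy, hty⟩
    have key : ∀ χ : IrrCharacter G, χ ∈ NE → χ ≠ ⟨1, isIrr_one⟩ → 5 ∣ qf χ → 5 ∣ uf χ := by
      intro χ h1 h2 h5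
      have h3 := five_dvd hcard χ (by rw [(hqf χ h1 h2).2]; exact h5.mul_left 23) ht2 ht1 hy hty
        (huf χ h1 h2).2.2.2
      omega
    have h3 := five_dvd hcard Θ (by rw [h160]; norm_num) ht2 ht1 hy hty hΘt
    exact ⟨key χ1 n1 k1, key χ2 n2 k2, key χ3 n3 k3, key χ4 n4 k4, by omega⟩

end Cfsg.Agent.M24P11.Five
end

-- part: M24P11/FiveFinal
section
/-!
# Sylow 11-subgroups in a simple group of order `244823040`: `e = 5`, `|K| = 24, 288`
-/

set_option autoImplicit false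
set_option linter.unusedSectionVars false

namespace Cfsg.Agent.M24P11.FiveFinal

open Cfsg Subgroup Cfsg.Agent.Characters.Core
open Cfsg.Agent.Blocks.Basic (irr_one_eq_charDegree)
open Cfsg.Agent.SmallSimple Cfsg.Agent.SmallSimple.PrimeLocal Cfsg.Agent.M22.NonSelfCent
open Cfsg.Agent.M23.Block Cfsg.Agent.M23.Adm Cfsg.Agent.SporadicA.M24
open Cfsg.Agent.M24P11.Common Cfsg.Agent.M24P11.Quads Cfsg.Agent.M24P11.Five

universe u

/-! ### Degrees -/

/-- The test for a degree `n`: `n ∣ D`, `n` is `0, ±1, ±11` modulo 23. -/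
def ok (D : ℕ) (L ex : List ℕ) (n : ℕ) : Bool :=
  !(D % n == 0) || !([0, 1, 22, 11, 12].contains (n % 23)) ||
    (n % 23 == 0 && L.contains (n / 23)) || ex.contains n

theorem of_ok {D : ℕ} {L ex : List ℕ} {n : ℕ} (h : ok D L ex n = true) (hd : n ∣ D)
    (hn : n % 23 = 0 ∨ n % 23 = 1 ∨ n % 23 = 22 ∨ n % 23 = 11 ∨ n % 23 = 12) :
    (n % 23 = 0 ∧ n / 23 ∈ L) ∨ n ∈ ex := by
  unfold ok at h
  rw [Nat.mod_eq_zero_of_dvd hd] at h
  rcases hn with hn | hn | hn | hn | hn <;> simp [hn] at h ⊢ <;> exact h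

def zeros : List ℕ := [5, 6, 16, 28, 60, 72, 105, 126, 160, 192, 280, 336]

theorem ne24' : ∀ a < 1423, 2 ≤ a → (ok 927360 L24 [45, 252] (11 * a + 1) &&
    ok 927360 L24 [45, 252] (11 * a + 10)) = true := by
  decide +kernel

theorem x24' : ∀ a < 1423, 2 ≤ a → (ok 927360 zeros [126, 160, 896, 1920] (11 * a + 5) &&
    ok 927360 zeros [126, 160, 896, 1920] (11 * a + 6)) = true := by
  decide +kernel

theorem ne288' : ∀ a < 1423, 2 ≤ a → (ok 77280 L288 [] (11 * a + 1) &&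
    ok 77280 L288 [] (11 * a + 10)) = true := by
  decide +kernel

theorem x288' : ∀ a < 1423, 2 ≤ a → (ok 77280 zeros [160] (11 * a + 5) &&
    ok 77280 zeros [160] (11 * a + 6)) = true := by
  decide +kernel

theorem ne24 {a n : ℕ} (ha : a < 1423) (ha2 : 2 ≤ a) (hn : n = 11 * a + 1 ∨ n = 11 * a + 10)
    (hd : n ∣ 927360)
    (h : n % 23 = 0 ∨ n % 23 = 1 ∨ n % 23 = 22 ∨ n % 23 = 11 ∨ n % 23 = 12) :
    (n % 23 = 0 ∧ n / 23 ∈ L24) ∨ n = 45 ∨ n = 252 := by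
  have h1 := ne24' a ha ha2
  rw [Bool.and_eq_true] at h1
  have h2 : ok 927360 L24 [45, 252] n = true := by
    rcases hn with rfl | rfl
    · exact h1.1
    · exact h1.2
  simpa using of_ok h2 hd h

theorem x24 {a n : ℕ} (ha : a < 1423) (ha2 : 2 ≤ a) (hn : n = 11 * a + 5 ∨ n = 11 * a + 6)
    (hd : n ∣ 927360)
    (h : n % 23 = 0 ∨ n % 23 = 1 ∨ n % 23 = 22 ∨ n % 23 = 11 ∨ n % 23 = 12) :
    n % 23 = 0 ∨ n = 126 ∨ n = 160 ∨ n = 896 ∨ n = 1920 := by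
  have h1 := x24' a ha ha2
  rw [Bool.and_eq_true] at h1
  have h2 : ok 927360 zeros [126, 160, 896, 1920] n = true := by
    rcases hn with rfl | rfl
    · exact h1.1
    · exact h1.2
  rcases of_ok h2 hd h with h3 | h3
  · exact Or.inl h3.1
  · right; simpa using h3

theorem ne288 {a n : ℕ} (ha : a < 1423) (ha2 : 2 ≤ a) (hn : n = 11 * a + 1 ∨ n = 11 * a + 10)
    (hd : n ∣ 77280)
    (h : n % 23 = 0 ∨ n % 23 = 1 ∨ n % 23 = 22 ∨ n % 23 = 11 ∨ n % 23 = 12) :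
    n % 23 = 0 ∧ n / 23 ∈ L288 := by
  have h1 := ne288' a ha ha2
  rw [Bool.and_eq_true] at h1
  have h2 : ok 77280 L288 [] n = true := by
    rcases hn with rfl | rfl
    · exact h1.1
    · exact h1.2
  simpa using of_ok h2 hd h

theorem x288 {a n : ℕ} (ha : a < 1423) (ha2 : 2 ≤ a) (hn : n = 11 * a + 5 ∨ n = 11 * a + 6)
    (hd : n ∣ 77280)
    (h : n % 23 = 0 ∨ n % 23 = 1 ∨ n % 23 = 22 ∨ n % 23 = 11 ∨ n % 23 = 12) :
    n % 23 = 0 ∨ n = 160 := by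
  have h1 := x288' a ha ha2
  rw [Bool.and_eq_true] at h1
  have h2 : ok 77280 zeros [160] n = true := by
    rcases hn with rfl | rfl
    · exact h1.1
    · exact h1.2
  rcases of_ok h2 hd h with h3 | h3
  · exact Or.inl h3.1
  · right; simpa using h3

theorem dvd_of_mul {n k D : ℕ} (hk : D * (11 * k) = 244823040) (h : n * (11 * k) ∣ 244823040) :
    n ∣ D := by
  have hpos : 0 < 11 * k := by
    rcases Nat.eq_zero_or_pos (11 * k) with h0 | h0
    · rw [h0, mul_zero] at hk; omega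
    · exact h0
  rw [← hk] at h
  exact Nat.dvd_of_mul_dvd_mul_right hpos h

theorem adm_cases {n : ℕ} {s : ℤ} (h : AdmAt n s) :
    n % 23 = 0 ∨ n % 23 = 1 ∨ n % 23 = 22 ∨ n % 23 = 11 ∨ n % 23 = 12 := by
  unfold AdmAt at h; omega

variable {G : Type u} [Group G] [Finite G] [IsSimpleGroup G]
variable {P : Sylow 11 G} {K : Subgroup G}

/-- An involution of `K` commuting with an element of order 5. -/
theorem exists_invol (h : IsLocal 11 P 5 K) (hk : Nat.card K = 24) :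
    ∃ t ∈ K, t * t = 1 ∧ t ≠ 1 ∧ ∃ y : G, orderOf y = 5 ∧ t * y = y * t := by
  have hp5 : Fact (Nat.Prime 5) := ⟨by norm_num⟩
  have hp2 : Fact (Nat.Prime 2) := ⟨by norm_num⟩
  have h5 : 5 ∣ Nat.card (normalizer ((P : Subgroup G) : Set G)) := by
    have h1 := h.card_normalizer
    have h2 : Nat.card (normalizer ((P : Subgroup G) : Set G)) = 11 * 5 * Nat.card K := h1
    rw [h2]
    exact ⟨11 * Nat.card K, by ring⟩
  obtain ⟨⟨y, hy⟩, hoy⟩ := exists_prime_orderOf_dvd_card' 5 h5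
  have hoy' : orderOf y = 5 := by rwa [← Subgroup.orderOf_coe] at hoy
  obtain ⟨t, ht, hot, hyt⟩ := exists_commuting (q := 5) (r := 2) K (h.normalizer_le hy) hoy'
    (by rw [hk]; norm_num) (by rw [hk]; norm_num) (fun j hj0 hj => by
      rw [hk] at hj
      have hj3 : j ≤ 3 := by
        by_contra hcon
        push Not at hcon
        have h1 : 2 ^ 4 ∣ 24 := (pow_dvd_pow 2 hcon).trans hj
        norm_num at h1
      interval_cases j <;> norm_num)
  refine ⟨t, ht, ?_, ?_, y, hoy', hyt.symm⟩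
  · rw [← pow_two, ← hot]; exact pow_orderOf_eq_one t
  · rintro rfl
    rw [orderOf_one] at hot
    norm_num at hot

/-- Pure arithmetic: the relation over `P₂₃`. -/
theorem sum_nonneg_eq {ι : Type*} (T : Finset ι) (w : ι → ℤ) (hw : ∀ i ∈ T, 0 ≤ w i) {z : ℤ}
    (h : 22 + ∑ i ∈ T, w i = z) (hz : z ≤ 22) : z = 22 ∧ ∀ i ∈ T, w i = 0 := by
  have h1 : 0 ≤ ∑ i ∈ T, w i := Finset.sum_nonneg hw
  have h2 : ∑ i ∈ T, w i = 0 := by omega
  exact ⟨by omega, (Finset.sum_eq_zero_iff_of_nonneg hw).1 h2⟩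

theorem five24 (hcard : Nat.card G = 244823040) (h : IsLocal 11 P 5 K)
    (hk : Nat.card K = 24) : False := by
  classical
  have hp : Fact (Nat.Prime 11) := ⟨by norm_num⟩
  have hP := card_eleven hcard P
  have hK1 : Nat.card K ≠ 1 := by rw [hk]; norm_num
  obtain ⟨M, NE, X, ε, d, S, B⟩ := exists_blk_of_local hcard (by norm_num) hP h
    (t := 2) (by norm_num)
  let P23 : Sylow 23 G := default
  obtain ⟨t, ht, ht2, ht1, y, hy, hty⟩ := exists_invol h hk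
  choose v hv1 hv2 using fun χ : IrrCharacter G => Adm.adm hcard P23 χ
  obtain ⟨Θ, hΘ⟩ : ∃ Θ, Θ ∈ X := by
    apply Finset.card_pos.1
    rw [B.kb.card_X]; norm_num
  have hrel := sum_V_eq hcard P23 B hΘ (v := v) hv1
  have hv22 : v ⟨1, isIrr_one⟩ = 22 := by
    have := (hv1 ⟨1, isIrr_one⟩).symm.trans (v_one hcard P23)
    exact_mod_cast this
  rw [← Finset.add_sum_erase _ _ B.kb.one_mem, B.kb.eps_one, hv22, one_mul] at hrel
  have hNE : ∀ χ ∈ NE.erase ⟨1, isIrr_one⟩,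
      (ε χ * v χ = 0 ∧ ∃ q ∈ L24, charDegree (χ : G → ℂ) = 23 * q) ∨ ε χ * v χ = 22 := by
    intro χ hχ
    have hχN := Finset.mem_of_mem_erase hχ
    have hχ1 := Finset.ne_of_mem_erase hχ
    obtain ⟨s, a, hs1, hs2, hs3, hs4, hs5, hs6, hinv⟩ := ne_facts hcard P23 h hK1 B hχN hχ1
    rw [hk] at hs3
    have h1 := ne24 (a := a) (by omega) hs5 (n := charDegree (χ : G → ℂ)) (by omega)
      (dvd_of_mul (by norm_num) hs3) (adm_cases hs2)
    have hv := hv2 χ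
    rcases h1 with ⟨h1, h2⟩ | h1 | h1
    · left
      have hv0 : v χ = 0 := by unfold AdmAt at hv; omega
      refine ⟨by rw [hv0, mul_zero], _, h2, by omega⟩
    · exfalso
      obtain ⟨m, hm0, hma, hm⟩ := hinv t ht ht2 ht1
      have h5 := five_dvd hcard χ (by rw [h1]; norm_num) ht2 ht1 hy hty hm
      rw [h1] at h5 hs6
      omega
    · right
      have hv0 : v χ = -22 := by unfold AdmAt at hv; omega
      have he : ε χ = -1 := by omega
      rw [hv0, he]; norm_num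
  have hXv : d * v Θ ≤ 22 ∧ (d * v Θ = 22 → d = -1 ∧ charDegree (Θ : G → ℂ) = 160) := by
    obtain ⟨s, a, hs1, hs2, hs3, hs4, hs5, hs6, hinv⟩ := x_facts hcard P23 h hK1 B hΘ
    rw [hk] at hs3
    have h1 := x24 (a := a) (by omega) hs5 (n := charDegree (Θ : G → ℂ)) (by omega)
      (dvd_of_mul (by norm_num) hs3) (adm_cases hs2)
    have hv := hv2 Θ
    unfold AdmAt at hv
    rcases hs6 with ⟨rfl, hs6⟩ | ⟨rfl, hs6⟩ <;> omega
  obtain ⟨h22, hzero⟩ := sum_nonneg_eq _ _ (fun χ hχ => by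
    rcases hNE χ hχ with h1 | h1 <;> omega) hrel hXv.1
  obtain ⟨hd, h160⟩ := hXv.2 h22
  obtain ⟨q1, m1, q2, m2, q3, m3, q4, m4, u1, u2, u3, u4, f, s1, s2, s3, hpn, hf0, hf7, p1, p2, p3,
    b1, b2, b3, b4, hl, hr, hfive⟩ := system hcard h hK1 B hΘ h160 hd (L := L24) (fun χ h1 h2 => by
      rcases hNE χ (Finset.mem_erase.2 ⟨h2, h1⟩) with h3 | h3
      · exact h3.2
      · have := hzero χ (Finset.mem_erase.2 ⟨h2, h1⟩)
        omega) ht ht2 ht1
  obtain ⟨f1, f2, f3, f4, f5⟩ := hfive ⟨y, hy, hty⟩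
  rcases quads24 q1 m1 q2 m2 s1 q3 m3 s2 q4 m4 s3 hpn with hm | hm
  · exact false_of_Q288 hm hf0 hf7 p1 p2 p3 b1 b2 b3 b4 hl hr
  · obtain rfl : f = 5 := by omega
    exact false_of_Q24 hm p1 b1 b2 b3 b4 f1 f2 f3 f4 (by exact_mod_cast hl) (by exact_mod_cast hr)

theorem five288 (hcard : Nat.card G = 244823040) (h : IsLocal 11 P 5 K)
    (hk : Nat.card K = 288) : False := by
  classical
  have hp : Fact (Nat.Prime 11) := ⟨by norm_num⟩
  have hp2 : Fact (Nat.Prime 2) := ⟨by norm_num⟩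
  have hP := card_eleven hcard P
  have hK1 : Nat.card K ≠ 1 := by rw [hk]; norm_num
  obtain ⟨M, NE, X, ε, d, S, B⟩ := exists_blk_of_local hcard (by norm_num) hP h
    (t := 2) (by norm_num)
  let P23 : Sylow 23 G := default
  obtain ⟨⟨t, ht⟩, hot⟩ := exists_prime_orderOf_dvd_card' (G := K) 2 (by rw [hk]; norm_num)
  have hot' : orderOf t = 2 := by rwa [← Subgroup.orderOf_coe] at hot
  have ht2 : t * t = 1 := by rw [← pow_two, ← hot']; exact pow_orderOf_eq_one t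
  have ht1 : t ≠ 1 := by rintro rfl; rw [orderOf_one] at hot'; norm_num at hot'
  choose v hv1 hv2 using fun χ : IrrCharacter G => Adm.adm hcard P23 χ
  obtain ⟨Θ, hΘ⟩ : ∃ Θ, Θ ∈ X := by
    apply Finset.card_pos.1
    rw [B.kb.card_X]; norm_num
  have hrel := sum_V_eq hcard P23 B hΘ (v := v) hv1
  have hv22 : v ⟨1, isIrr_one⟩ = 22 := by
    have := (hv1 ⟨1, isIrr_one⟩).symm.trans (v_one hcard P23)
    exact_mod_cast this
  rw [← Finset.add_sum_erase _ _ B.kb.one_mem, B.kb.eps_one, hv22, one_mul] at hrel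
  have hNE : ∀ χ ∈ NE.erase ⟨1, isIrr_one⟩,
      ε χ * v χ = 0 ∧ ∃ q ∈ L288, charDegree (χ : G → ℂ) = 23 * q := by
    intro χ hχ
    have hχN := Finset.mem_of_mem_erase hχ
    have hχ1 := Finset.ne_of_mem_erase hχ
    obtain ⟨s, a, hs1, hs2, hs3, hs4, hs5, hs6, hinv⟩ := ne_facts hcard P23 h hK1 B hχN hχ1
    rw [hk] at hs3
    obtain ⟨h1, h2⟩ := ne288 (a := a) (by omega) hs5 (n := charDegree (χ : G → ℂ)) (by omega)
      (dvd_of_mul (by norm_num) hs3) (adm_cases hs2)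
    have hv := hv2 χ
    have hv0 : v χ = 0 := by unfold AdmAt at hv; omega
    exact ⟨by rw [hv0, mul_zero], _, h2, by omega⟩
  have hXv : d * v Θ ≤ 22 ∧ (d * v Θ = 22 → d = -1 ∧ charDegree (Θ : G → ℂ) = 160) := by
    obtain ⟨s, a, hs1, hs2, hs3, hs4, hs5, hs6, hinv⟩ := x_facts hcard P23 h hK1 B hΘ
    rw [hk] at hs3
    have h1 := x288 (a := a) (by omega) hs5 (n := charDegree (Θ : G → ℂ)) (by omega)
      (dvd_of_mul (by norm_num) hs3) (adm_cases hs2)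
    have hv := hv2 Θ
    unfold AdmAt at hv
    rcases hs6 with ⟨rfl, hs6⟩ | ⟨rfl, hs6⟩ <;> omega
  obtain ⟨h22, -⟩ := sum_nonneg_eq _ _ (fun χ hχ => (hNE χ hχ).1.ge) hrel hXv.1
  obtain ⟨hd, h160⟩ := hXv.2 h22
  obtain ⟨q1, m1, q2, m2, q3, m3, q4, m4, u1, u2, u3, u4, f, s1, s2, s3, hpn, hf0, hf7, p1, p2, p3,
    b1, b2, b3, b4, hl, hr, -⟩ := system hcard h hK1 B hΘ h160 hd (L := L288) (fun χ h1 h2 =>
      (hNE χ (Finset.mem_erase.2 ⟨h2, h1⟩)).2) ht ht2 ht1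
  exact false_of_Q288 (quads288 q1 m1 q2 m2 s1 q3 m3 s2 q4 m4 s3 hpn) hf0 hf7 p1 p2 p3 b1 b2 b3 b4
    hl hr

end Cfsg.Agent.M24P11.FiveFinal
end
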