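import Cfsg.Agent.SmallSimple.PrimeLocal
import Cfsg.Agent.SmallSimple.BlockIndex
import Cfsg.Agent.SmallSimple.Order5040
import Cfsg.Agent.S0228
import Cfsg.Agent.M24Order.LastCol
import Mathlib
import Cfsg.Agent.SporadicA.NortonTrick
import Cfsg.Agent.MTwelve.SymSquare
import Cfsg.Agent.SporadicA.M24OfIndex
import Cfsg.Agent.SporadicA.M24.Sylow11
import Cfsg.Agent.SmallSimple.InvolFour
import Cfsg.Agent.SmallSimple.Simple168Max
set_option linter.all false

-- part: SporadicA/M24/KFiveLocal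
section
/-!
# `|C(P)| = 5 * 12`, `|N(P)| = 240`, an involution `u` with `|C(u)| = 7680`

`alternating`: the 5-complement `K` of `C(P)` is an alternating group of degree 4, or `K` has an
involution which is central in `N(P)`.
-/

set_option autoImplicit false

namespace Cfsg.Agent.SporadicA.M24.KFiveLocal

open Cfsg Subgroup
open Cfsg.Agent.SmallSimple

universe u

variable {G : Type u} [Group G] [Finite G]

/-- Sylow count inside the centraliser of an element commuting with `P`. -/
theorem card_centralizer_eq {p : ℕ} [hp : Fact p.Prime] (P : Sylow p G) {t : G}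
    (ht : t ∈ centralizer (P : Set G)) :
    ∃ n : ℕ, n ≡ 1 [MOD p] ∧ Nat.card (centralizer ({t} : Set G)) =
      Nat.card ((normalizer (P : Set G) ⊓ centralizer ({t} : Set G) : Subgroup G)) * n := by
  set C : Subgroup G := centralizer ({t} : Set G) with hC
  have hPC : (P : Subgroup G) ≤ C := by
    intro x hx
    rw [hC, mem_centralizer_singleton_iff]
    exact mem_centralizer_iff.1 ht x hx
  let P' : Sylow p C := P.subtype hPC
  refine ⟨Nat.card (Sylow p C), card_sylow_modEq_one p C, ?_⟩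
  have h1 : Nat.card (Sylow p C) = (normalizer (P' : Set C)).index :=
    P'.card_eq_index_normalizer
  have h2 : normalizer (P' : Set C) = (normalizer (P : Set G)).subgroupOf C := by
    ext x
    rw [mem_subgroupOf]
    change x ∈ normalizer ((P' : Subgroup C) : Set C) ↔
      (x : G) ∈ normalizer ((P : Subgroup G) : Set G)
    rw [mem_normalizer_iff, mem_normalizer_iff]
    constructor
    · intro h y
      constructor
      · intro hy
        have h3 := (h ⟨y, hPC hy⟩).1 (by exact hy)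
        exact h3
      · intro hy
        have hyC : y ∈ C := by
          have h4 : (x : G) * y * (x : G)⁻¹ ∈ C := hPC hy
          have h5 := C.mul_mem (C.mul_mem (C.inv_mem x.2) h4) x.2
          have h6 : (x : G)⁻¹ * ((x : G) * y * (x : G)⁻¹) * x = y := by group
          rwa [h6] at h5
        exact (h ⟨y, hyC⟩).2 hy
    · intro h y
      exact h y
  rw [h1, h2]
  have h3 := card_mul_index ((normalizer (P : Set G)).subgroupOf C)
  rw [← h3]
  congr 1
  have h4 : (normalizer (P : Set G)).subgroupOf C =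
      (normalizer (P : Set G) ⊓ C).subgroupOf C := (inf_subgroupOf_right _ _).symm
  rw [h4]
  exact Nat.card_congr (subgroupOfEquivOfLe inf_le_right).toEquiv

omit [Finite G] in
/-- `|A ⊓ T| = |B ⊓ T| * r` with `r ∣ |A : B|`, if `B` is normal in `A`. -/
theorem exists_card_inf {A B : Subgroup G} (hBA : B ≤ A) (hn : (B.subgroupOf A).Normal)
    (T : Subgroup G) : ∃ r, r ∣ B.relIndex A ∧
      Nat.card (A ⊓ T : Subgroup G) = Nat.card (B ⊓ T : Subgroup G) * r := by
  refine ⟨B.relIndex (A ⊓ T), ?_, ?_⟩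
  · have h1 : (B.subgroupOf A).relIndex ((A ⊓ T).subgroupOf A) = B.relIndex (A ⊓ T) :=
      relIndex_subgroupOf inf_le_left
    rw [← h1]
    exact relIndex_dvd_index_of_normal _ _
  · have h1 := relIndex_mul_relIndex (⊥ : Subgroup G) (B ⊓ T) (A ⊓ T) bot_le
      (inf_le_inf_right T hBA)
    rw [relIndex_bot_left, relIndex_bot_left] at h1
    have h2 : (B ⊓ T).relIndex (A ⊓ T) = B.relIndex (A ⊓ T) := by
      rw [← inf_relIndex_right B (A ⊓ T), ← inf_assoc, inf_of_le_left hBA]
    rw [← h1, h2]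

/-- Orders of centralisers in `K` and in `N(P)`. -/
theorem card_inf {p : ℕ} [hp : Fact p.Prime] {P : Sylow p G} {e : ℕ} {K : Subgroup G}
    (h : PrimeLocal.IsLocal p P e K) (hP : Nat.card P = p) {t : G} (ht : t ∈ K) :
    ∃ e' : ℕ, e' ∣ e ∧
      Nat.card ((normalizer (P : Set G) ⊓ centralizer ({t} : Set G) : Subgroup G)) =
        p * (e' * Nat.card (K ⊓ centralizer ({t} : Set G) : Subgroup G)) := by
  have hKC : K ≤ centralizer (P : Set G) := fun x hx => ((h.mem_iff x).1 hx).1
  have hCN := SylowPrimeCount.centralizer_le_normalizer' (P : Subgroup G)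
  have hNK : normalizer (P : Set G) ≤ normalizer (K : Set G) :=
    PrimeLocal.normalizer_le_normalizer (P := (P : Subgroup G)) h.mem_iff
  have hn1 : ((centralizer (P : Set G)).subgroupOf (normalizer (P : Set G))).Normal := by
    refine ⟨fun x hx g => ?_⟩
    rw [mem_subgroupOf] at hx ⊢
    rw [mem_centralizer_iff] at hx ⊢
    intro y hy
    have h1 : (g : G)⁻¹ * y * g ∈ (P : Subgroup G) := by
      have := (mem_normalizer_iff.1 (inv_mem g.2) y).1 hy
      simpa using this
    have h2 := hx _ h1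
    change y * ((g : G) * x * (g : G)⁻¹) = (g : G) * x * (g : G)⁻¹ * y
    calc y * ((g : G) * x * (g : G)⁻¹) = g * (((g : G)⁻¹ * y * g) * x) * (g : G)⁻¹ := by group
      _ = g * (x * ((g : G)⁻¹ * y * g)) * (g : G)⁻¹ := by rw [h2]
      _ = (g : G) * x * (g : G)⁻¹ * y := by group
  have hn2 : (K.subgroupOf (centralizer (P : Set G))).Normal := by
    refine ⟨fun x hx g => ?_⟩
    rw [mem_subgroupOf] at hx ⊢
    exact (mem_normalizer_iff.1 (hNK (hCN g.2)) _).1 hx
  obtain ⟨r, hr1, hr2⟩ := exists_card_inf hCN hn1 (centralizer ({t} : Set G))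
  obtain ⟨s, hs1, hs2⟩ := exists_card_inf hKC hn2 (centralizer ({t} : Set G))
  have hidx : (centralizer (P : Set G)).relIndex (normalizer (P : Set G)) = e :=
    BlockIndex.relIndex_eq h
  have hidx2 : K.relIndex (centralizer (P : Set G)) = p := by
    have h1 := relIndex_mul_relIndex (⊥ : Subgroup G) _ _ bot_le hKC
    rw [relIndex_bot_left, relIndex_bot_left, h.card_centralizer] at h1
    have h4 : 0 < Nat.card K := Nat.card_pos
    apply Nat.eq_of_mul_eq_mul_left h4
    rw [h1]; ring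
  replace hr1 : r ∣ (centralizer (P : Set G)).relIndex (normalizer (P : Set G)) := hr1
  rw [hidx] at hr1
  rw [hidx2] at hs1
  have hs : s = p := by
    rcases (Nat.dvd_prime hp.out).1 hs1 with h1 | h1
    · exfalso
      rw [h1, mul_one] at hs2
      have hPle : (P : Subgroup G) ≤ centralizer (P : Set G) ⊓ centralizer ({t} : Set G) := by
        refine le_inf ?_ ?_
        · intro x hx
          rw [mem_centralizer_iff]
          intro y hy
          exact PrimeLocal.comm_of_card_prime hp.out (P : Subgroup G) hP y hy x hx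
        · intro x hx
          rw [mem_centralizer_singleton_iff]
          exact mem_centralizer_iff.1 (hKC ht) x hx
      have h2 := Subgroup.card_dvd_of_le hPle
      rw [hs2] at h2
      have h3 : Nat.card (K ⊓ centralizer ({t} : Set G) : Subgroup G) ∣ Nat.card K :=
        Subgroup.card_dvd_of_le inf_le_left
      apply h.not_dvd
      have hP' : Nat.card (P : Subgroup G) = p := hP
      rw [hP'] at h2
      exact h2.trans h3
    · exact h1
  refine ⟨r, hr1, ?_⟩
  have h7 : Nat.card (normalizer (P : Set G) ⊓ centralizer ({t} : Set G) : Subgroup G) =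
      Nat.card (centralizer (P : Set G) ⊓ centralizer ({t} : Set G) : Subgroup G) * r := hr2
  rw [h7, hs2, hs]
  ring

/-- `|C_K(u)| = 4`. -/
theorem card_inf_centralizer {P : Sylow 5 G} {K : Subgroup G} (h : PrimeLocal.IsLocal 5 P 4 K)
    (hP : Nat.card P = 5) (hk : Nat.card K = 12) {u : G} (hu : u ∈ K) (hu1 : u ≠ 1)
    (hu2 : u * u = 1) (hc : Nat.card (centralizer ({u} : Set G)) = 7680) :
    Nat.card (K ⊓ centralizer ({u} : Set G) : Subgroup G) = 4 := by
  have : Fact (Nat.Prime 5) := ⟨by norm_num⟩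
  obtain ⟨n, hn1, hn2⟩ := card_centralizer_eq P ((h.mem_iff u).1 hu).1
  obtain ⟨e, he1, he2⟩ := card_inf h hP hu
  set V : Subgroup G := K ⊓ centralizer ({u} : Set G) with hV
  have huV : u ∈ V := mem_inf.2 ⟨hu, by rw [mem_centralizer_singleton_iff]⟩
  have hVK : Nat.card V ∣ 12 := hk ▸ Subgroup.card_dvd_of_le inf_le_left
  have h2V : 2 ∣ Nat.card V := by
    have h1 : orderOf u = 2 := orderOf_eq_prime (by rw [pow_two, hu2]) hu1
    have h2 : orderOf (⟨u, huV⟩ : V) = 2 := by rw [← h1, ← Subgroup.orderOf_coe]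
    rw [← h2]
    exact orderOf_dvd_natCard _
  rw [hc, he2] at hn2
  have he : e ∈ Nat.divisors 4 := Nat.mem_divisors.2 ⟨he1, by norm_num⟩
  have hv : Nat.card V ∈ Nat.divisors 12 := Nat.mem_divisors.2 ⟨hVK, by norm_num⟩
  have hn : n ∣ 1536 := ⟨e * Nat.card V, by
    have : 5 * 1536 = 5 * (n * (e * Nat.card V)) := by rw [← mul_assoc, ← mul_assoc]; rw [show (5:ℕ) * 1536 = 7680 by norm_num, hn2]; ring
    omega⟩
  have hn' : n ∈ Nat.divisors 1536 := Nat.mem_divisors.2 ⟨hn, by norm_num⟩
  have harith : ∀ e ∈ Nat.divisors 4, ∀ v ∈ Nat.divisors 12, ∀ n ∈ Nat.divisors 1536,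
      n % 5 = 1 → v % 2 = 0 → 7680 = 5 * (e * v) * n → v = 4 ∨ v = 6 := by
    decide +kernel
  rcases harith e he _ hv n hn' hn1 (by omega) hn2 with h4 | h6
  · exact h4
  · exfalso
    have hidx : V.relIndex K = 2 := by
      have h1 := relIndex_mul_relIndex (⊥ : Subgroup G) V K bot_le inf_le_left
      rw [relIndex_bot_left, relIndex_bot_left, h6, hk] at h1
      omega
    have hn : (V.subgroupOf K).Normal := normal_of_index_eq_two hidx
    obtain ⟨g, hg, hgu⟩ : ∃ g ∈ K, g * u ≠ u * g := by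
      by_contra hcon
      push Not at hcon
      have h1 : K ≤ V := fun g hg => mem_inf.2 ⟨hg, by
        rw [mem_centralizer_singleton_iff]; exact hcon g hg⟩
      have h2 := Subgroup.card_le_of_le h1
      omega
    have hvV : g * u * g⁻¹ ∈ V := by
      have h1 := hn.conj_mem ⟨u, hu⟩ (mem_subgroupOf.2 huV) ⟨g, hg⟩
      exact mem_subgroupOf.1 h1
    have h4 := Order5040.four_dvd_card huV hvV (by rw [pow_two, hu2])
      (by rw [conj_pow, pow_two, hu2, mul_one, mul_inv_cancel]) hu1
      (fun h' => hu1 (by simpa using h')) (fun h' => hgu (by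
        rw [eq_mul_inv_iff_mul_eq] at h'; exact h'.symm))
      (mem_centralizer_singleton_iff.1 (mem_inf.1 hvV).2).symm
    omega

/-- The complement `K` is an alternating group of degree 4. -/
theorem alternating {P : Sylow 5 G} {K : Subgroup G} (h : PrimeLocal.IsLocal 5 P 4 K)
    (hP : Nat.card P = 5) (hk : Nat.card K = 12) {u : G} (hu : u ∈ K) (hu1 : u ≠ 1)
    (hu2 : u * u = 1) (hc : Nat.card (centralizer ({u} : Set G)) = 7680)
    (hno : ∀ t ∈ K, t ≠ 1 → t * t = 1 → ¬ normalizer (P : Set G) ≤ centralizer ({t} : Set G)) :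
    Nonempty (K ≃* alternatingGroup (Fin 4)) := by
  have h4 := card_inf_centralizer h hP hk hu hu1 hu2 hc
  apply S0228.result hk
  rintro ⟨z, hzK⟩ hz2 hzc
  have hz2' : orderOf z = 2 := by rw [← hz2, ← Subgroup.orderOf_coe]
  have hz1 : z ≠ 1 := by
    rintro rfl
    rw [orderOf_one] at hz2'
    omega
  have hzz : z * z = 1 := by
    rw [← pow_two, ← hz2', pow_orderOf_eq_one]
  have hzcent : ∀ g ∈ K, g * z = z * g := by
    intro g hg
    have := mem_center_iff.1 hzc ⟨g, hg⟩
    exact congrArg Subtype.val this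
  set V : Subgroup G := K ⊓ centralizer ({u} : Set G) with hV
  -- a central involution of `K` lies in `V`
  have hcen : ∀ w ∈ K, w ≠ 1 → (∀ g ∈ K, g * w = w * g) → w = z := by
    intro w hw hw1 hwc
    by_contra hwz
    have hu_nc : ¬ ∀ g ∈ K, g * u = u * g := by
      intro hcon
      have h1 : K ≤ V := fun g hg => mem_inf.2 ⟨hg, by
        rw [mem_centralizer_singleton_iff]; exact hcon g hg⟩
      have h2 := Subgroup.card_le_of_le h1
      omega
    have huV : u ∈ V := mem_inf.2 ⟨hu, by rw [mem_centralizer_singleton_iff]⟩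
    have hzV : z ∈ V := mem_inf.2 ⟨hzK, by
      rw [mem_centralizer_singleton_iff]; exact (hzcent u hu).symm⟩
    have hwV : w ∈ V := mem_inf.2 ⟨hw, by
      rw [mem_centralizer_singleton_iff]; exact (hwc u hu).symm⟩
    have huz : u ≠ z := fun h' => hu_nc (by rw [h']; exact hzcent)
    have hwu : w ≠ u := fun h' => hu_nc (by rw [← h']; exact hwc)
    have hwuz : w ≠ u * z := by
      intro h'
      apply hu_nc
      have h5 : u = w * z := by rw [h', mul_assoc, hzz, mul_one]
      intro g hg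
      rw [h5, ← mul_assoc, hwc g hg, mul_assoc, hzcent g hg, mul_assoc]
    have huz1 : u * z ≠ 1 := by
      intro h'
      apply huz
      have : u = z⁻¹ := eq_inv_of_mul_eq_one_left h'
      rw [this, inv_eq_iff_mul_eq_one, hzz]
    have huzu : u * z ≠ u := fun h' => hz1 (by simpa using h')
    have huzz : u * z ≠ z := fun h' => hu1 (by simpa using h')
    classical
    have h3 : ({1, u, z, u * z, w} : Finset G).card = 5 := by
      rw [Finset.card_insert_of_notMem, Finset.card_insert_of_notMem,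
        Finset.card_insert_of_notMem, Finset.card_insert_of_notMem, Finset.card_singleton]
      · rw [Finset.mem_singleton]; exact fun h' => hwuz h'.symm
      · rw [Finset.mem_insert, Finset.mem_singleton]
        rintro (h' | h')
        · exact huzz h'.symm
        · exact hwz h'.symm
      · rw [Finset.mem_insert, Finset.mem_insert, Finset.mem_singleton]
        rintro (h' | h' | h')
        · exact huz h'
        · exact huzu h'.symm
        · exact hwu h'.symm
      · rw [Finset.mem_insert, Finset.mem_insert, Finset.mem_insert, Finset.mem_singleton]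
        rintro (h' | h' | h' | h')
        · exact hu1 h'.symm
        · exact hz1 h'.symm
        · exact huz1 h'.symm
        · exact hw1 h'.symm
    have h5 : (({1, u, z, u * z, w} : Finset G) : Set G) ⊆ (V : Set G) := by
      intro x hx
      simp only [Finset.coe_insert, Finset.coe_singleton, Set.mem_insert_iff,
        Set.mem_singleton_iff] at hx
      rcases hx with rfl | rfl | rfl | rfl | rfl
      · exact V.one_mem
      · exact huV
      · exact hzV
      · exact V.mul_mem huV hzV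
      · exact hwV
    have h6 := Set.ncard_le_ncard h5
    rw [Set.ncard_coe_finset, h3] at h6
    have h7 : (V : Set G).ncard = 4 := h4
    omega
  apply hno z hzK hz1 hzz
  intro g hg
  have hgK : ∀ g ∈ normalizer (P : Set G), ∀ x ∈ K, g * x * g⁻¹ ∈ K := by
    intro g hg x hx
    exact (mem_normalizer_iff.1
      (PrimeLocal.normalizer_le_normalizer (P := (P : Subgroup G)) h.mem_iff hg) _).1 hx
  have h5 := hcen (g * z * g⁻¹) (hgK g hg z hzK) (fun h' => hz1 (by simpa using h')) (by
    intro x hx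
    have h6 : g⁻¹ * x * g ∈ K := by
      have := hgK g⁻¹ (inv_mem hg) x hx
      simpa using this
    have h7 := hzcent _ h6
    calc x * (g * z * g⁻¹) = g * ((g⁻¹ * x * g) * z) * g⁻¹ := by group
      _ = g * (z * (g⁻¹ * x * g)) * g⁻¹ := by rw [h7]
      _ = g * z * g⁻¹ * x := by group)
  rw [mem_centralizer_singleton_iff]
  exact mul_inv_eq_iff_eq_mul.1 h5

end Cfsg.Agent.SporadicA.M24.KFiveLocal
end

-- part: M24Order/LastRestArith
section
/-!
# The rest of the principal 11-block in the last case: arithmetic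

For each of the 22 possible principal 23-blocks the other members of the principal 11-block have
degrees `23 m`; a search shows that only one of the 22 blocks survives, with
`m = 1, 21, 45, 45, 144`.
-/

set_option autoImplicit false

namespace Cfsg.Agent.M24Order.LastRestArith

/-! ### The search -/

/-- A possible value of a character of degree `23 m`, coded. -/
inductive It
  | mk (t q n x w w' : ℕ)
  deriving DecidableEq

/-- A possible degree `23 m` with its values. -/
inductive Blk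
  | mk (m v d : ℕ) (l : List It)

/-- The sums of `k` numbers `v`, as a bit mask. -/
noncomputable def reach (L : List Blk) : ℕ → ℕ :=
  List.rec (motive := fun _ => ℕ → ℕ) (fun k => Nat.rec (motive := fun _ => ℕ) 1 (fun _ _ => 0) k)
    (fun B _ ih => Blk.rec (motive := fun _ => ℕ → ℕ) (fun _ v _ _ k =>
      Nat.rec (motive := fun _ => ℕ) 1
        (fun j r => Nat.lor (ih (Nat.succ j)) (Nat.shiftLeft r v)) k) B) L

/-- The loop over the values. -/
noncomputable def loopI (F : It → List It → Bool) (l : List It) : Bool :=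
  List.rec (motive := fun _ => Bool) true
    (fun i l' ih => Bool.rec (motive := fun _ => Bool) false ih (F i l')) l

/-- The loop over the degrees. -/
noncomputable def loopB (F : Blk → List Blk → Bool) (L : List Blk) : Bool :=
  List.rec (motive := fun _ => Bool) true
    (fun B L' ih => Bool.rec (motive := fun _ => Bool) false ih (F B L')) L

/-- The Gram test. -/
def gr (D N n d x y : ℕ) : Bool :=
  Nat.ble (Nat.add (Nat.mul y y) (Nat.mul x x))
    (Nat.add (Nat.mul 2 (Nat.mul y x)) (Nat.mul (Nat.sub D d) (Nat.sub N n)))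

/-- The relation for the last value. -/
def rl (S T R s t q : ℕ) : Bool :=
  Nat.beq (Nat.add (Nat.mul R S) (Nat.add (Nat.mul q s) (Nat.mul 241920 (Nat.mul T t))))
    (Nat.add (Nat.mul R s) (Nat.add (Nat.mul q S)
      (Nat.mul 120960 (Nat.add (Nat.mul T T) (Nat.mul t t)))))

/-- The final test. -/
def fin (g : List ℕ → Bool) (S T R s t q : ℕ) (c : List ℕ) : Bool :=
  Bool.rec (motive := fun _ => Bool) true
    (Bool.rec (motive := fun _ => Bool) true
      (Bool.rec (motive := fun _ => Bool) true (g c) (Nat.beq q R)) (Nat.beq t T)) (Nat.beq s S)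

/-- One step of the search. -/
noncomputable def step (S T R D N W W' : ℕ) (k : ℕ)
    (ih : List Blk → ℕ → ℕ → ℕ → ℕ → ℕ → ℕ → ℕ → ℕ → ℕ → List ℕ → Bool)
    (L : List Blk) (s t q n d x y w w' : ℕ) (c : List ℕ) : Bool :=
  Bool.rec (motive := fun _ => Bool)
    (loopB (fun B L' => Blk.rec (motive := fun _ => Bool) (fun m v e l =>
      Bool.rec (motive := fun _ => Bool) true
        (loopI (fun i l' => It.rec (motive := fun _ => Bool) (fun t0 q0 n0 x0 w0 w0' =>
          Bool.rec (motive := fun _ => Bool) true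
            (Bool.rec (motive := fun _ => Bool) true
              (Bool.rec (motive := fun _ => Bool) true
                (ih (List.cons (Blk.mk m v e (List.cons i l')) L') (Nat.add s v)
                  (Nat.add t t0) (Nat.add q q0) (Nat.add n n0) (Nat.add d e) (Nat.add x x0)
                  (Nat.add y 65536) (Nat.add w w0) (Nat.add w' w0') (List.cons m c))
                (gr D N (Nat.add n n0) (Nat.add d e) (Nat.add x x0) (Nat.add y 65536)))
              (Nat.ble (Nat.add w' w0') W'))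
            (Nat.ble (Nat.add w w0) W)) i) l)
        (Nat.beq (Nat.land 1 (Nat.shiftRight (reach (List.cons B L') k)
          (Nat.sub S (Nat.add s v)))) 1)) B) L)
    true
    (Bool.rec (motive := fun _ => Bool) false
      (Bool.not (rl S T R (Nat.add s 672) (Nat.add t 64) (Nat.add q 536870912)))
      (Nat.beq k 0))

/-- The search. -/
noncomputable def srch (g : List ℕ → Bool) (S T R D N W W' : ℕ) (k : ℕ) :
    List Blk → ℕ → ℕ → ℕ → ℕ → ℕ → ℕ → ℕ → ℕ → ℕ → List ℕ → Bool :=
  Nat.rec (motive := fun _ => List Blk → ℕ → ℕ → ℕ → ℕ → ℕ → ℕ → ℕ → ℕ → ℕ → List ℕ → Bool)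
    (fun _ s t q _ _ _ _ _ _ c => fin g S T R s t q c)
    (fun k ih => step S T R D N W W' k ih) k

theorem srch_succ (g : List ℕ → Bool) (S T R D N W W' k : ℕ) :
    srch g S T R D N W W' (k + 1) = step S T R D N W W' k (srch g S T R D N W W' k) := rfl

/-- The table. -/
def blocks : List Blk :=
  [.mk 320 992 102400 [.mk 64 536870912 0 65536 0 0],
    .mk 384 288 147456 [.mk 64 536870912 0 65536 4 4],
    .mk 540 1212 291600 [.mk 64 536870912 0 65536 0 0],
    .mk 1 673 1 [.mk 63 536991872 1 65535 1 0, .mk 67 537959552 9 65539 0 4],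
    .mk 10 662 100 [.mk 74 535661312 100 65436 0 0, .mk 54 535661312 100 65636 0 0],
    .mk 560 112 313600 [.mk 104 536525312 1600 43136 0 0, .mk 64 536870912 0 65536 0 0, .mk 24
    536525312 1600 87936 0 0],
    .mk 120 552 14400 [.mk 104 535258112 1600 60736 0 0, .mk 84 536467712 400 63136 0 0, .mk 64
    536870912 0 65536 0 0, .mk 44 536467712 400 67936 0 0, .mk 24 535258112 1600 70336 0 0],
    .mk 45 717 2025 [.mk 19 542314112 2025 63511 0 0, .mk 39 538550912 625 64411 0 0, .mk 59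
    536938112 25 65311 0 0, .mk 79 537475712 225 66211 0 0, .mk 99 540163712 1225 67111 0 0, .mk
    119 545002112 3025 68011 0 0],
    .mk 210 882 44100 [.mk 14 538310912 2500 55036 0 0, .mk 34 537389312 900 59236 0 0, .mk 54
    536928512 100 63436 0 0, .mk 74 536928512 100 67636 0 0, .mk 94 537389312 900 71836 0 0, .mk
    114 538310912 2500 76036 0 0],
    .mk 32 640 1024 [.mk 112 528161792 2304 64000 1 4, .mk 96 533000192 1024 64512 4 0, .mk 80
    535903232 256 65024 4 4, .mk 64 536870912 0 65536 1 1, .mk 48 535903232 256 66048 0 1, .mk 32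
    533000192 1024 66560 1 4, .mk 16 528161792 2304 67072 4 0],
    .mk 672 1344 451584 [.mk 16 537285632 2304 33280 1 4, .mk 32 537055232 1024 44032 4 0, .mk 48
    536916992 256 54784 4 4, .mk 64 536870912 0 65536 1 1, .mk 80 536916992 256 76288 0 1, .mk 96
    537055232 1024 87040 1 4, .mk 112 537285632 2304 97792 4 0],
    .mk 54 618 2916 [.mk 118 530339072 2916 62620 1 0, .mk 106 532919552 1764 63268 1 1, .mk 94
    534854912 900 63916 4 4, .mk 82 536145152 324 64564 0 4, .mk 70 536790272 36 65212 4 1, .mk 58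
    536790272 36 65860 1 0, .mk 46 536145152 324 66508 1 1, .mk 34 534854912 900 67156 4 4, .mk 22
    532919552 1764 67804 0 4, .mk 10 530339072 2916 68452 4 1],
    .mk 12 684 144 [.mk 40 542676992 576 65248 0 1, .mk 44 540902912 400 65296 1 1, .mk 48
    539451392 256 65344 4 4, .mk 52 538322432 144 65392 4 0, .mk 56 537516032 64 65440 1 4, .mk 60
    537032192 16 65488 0 1, .mk 64 536870912 0 65536 1 1, .mk 68 537032192 16 65584 4 4, .mk 72
    537516032 64 65632 4 0, .mk 76 538322432 144 65680 1 4, .mk 80 539451392 256 65728 0 1, .mk 84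
    540902912 400 65776 1 1, .mk 88 542676992 576 65824 4 4],
    .mk 144 816 20736 [.mk 8 539505152 3136 57472 4 1, .mk 16 538806272 2304 58624 0 4, .mk 24
    538214912 1600 59776 4 4, .mk 32 537731072 1024 60928 1 1, .mk 40 537354752 576 62080 1 0, .mk
    48 537085952 256 63232 4 1, .mk 56 536924672 64 64384 0 4, .mk 64 536870912 0 65536 4 4, .mk
    72 536924672 64 66688 1 1, .mk 80 537085952 256 67840 1 0, .mk 88 537354752 576 68992 4 1, .mk
    96 537731072 1024 70144 0 4, .mk 104 538214912 1600 71296 4 4, .mk 112 538806272 2304 72448 1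
    1, .mk 120 539505152 3136 73600 1 0],
    .mk 21 651 441 [.mk 105 527188352 1681 64675 1 0, .mk 101 528985472 1369 64759 0 4, .mk 97
    530598272 1089 64843 1 1, .mk 93 532026752 841 64927 4 1, .mk 89 533270912 625 65011 4 4, .mk
    85 534330752 441 65095 1 0, .mk 81 535206272 289 65179 0 4, .mk 77 535897472 169 65263 1 1,
    .mk 73 536404352 81 65347 4 1, .mk 69 536726912 25 65431 4 4, .mk 65 536865152 1 65515 1 0,
    .mk 61 536819072 9 65599 0 4, .mk 57 536588672 49 65683 1 1, .mk 53 536173952 121 65767 4 1,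
    .mk 49 535574912 225 65851 4 4, .mk 45 534791552 361 65935 1 0, .mk 41 533823872 529 66019 0
    4, .mk 37 532671872 729 66103 1 1, .mk 33 531335552 961 66187 4 1, .mk 29 529814912 1225 66271
    4 4, .mk 25 528109952 1521 66355 1 0, .mk 21 526220672 1849 66439 0 4],
    .mk 56 728 3136 [.mk 8 543644672 3136 62400 1 0, .mk 12 542711552 2704 62624 0 4, .mk 16
    541847552 2304 62848 1 1, .mk 20 541052672 1936 63072 4 1, .mk 24 540326912 1600 63296 4 4,
    .mk 28 539670272 1296 63520 1 0, .mk 32 539082752 1024 63744 0 4, .mk 36 538564352 784 63968 1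
    1, .mk 40 538115072 576 64192 4 1, .mk 44 537734912 400 64416 4 4, .mk 48 537423872 256 64640
    1 0, .mk 52 537181952 144 64864 0 4, .mk 56 537009152 64 65088 1 1, .mk 60 536905472 16 65312
    4 1, .mk 64 536870912 0 65536 4 4, .mk 68 536905472 16 65760 1 0, .mk 72 537009152 64 65984 0
    4, .mk 76 537181952 144 66208 1 1, .mk 80 537423872 256 66432 4 1, .mk 84 537734912 400 66656
    4 4, .mk 88 538115072 576 66880 1 0, .mk 92 538564352 784 67104 0 4, .mk 96 539082752 1024
    67328 1 1, .mk 100 539670272 1296 67552 4 1, .mk 104 540326912 1600 67776 4 4, .mk 108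
    541052672 1936 68000 1 0, .mk 112 541847552 2304 68224 0 4, .mk 116 542711552 2704 68448 1 1,
    .mk 120 543644672 3136 68672 4 1],
    .mk 252 420 63504 [.mk 120 535365632 3136 51424 4 4, .mk 116 535572992 2704 52432 4 0, .mk 112
    535764992 2304 53440 1 4, .mk 108 535941632 1936 54448 0 1, .mk 104 536102912 1600 55456 1 1,
    .mk 100 536248832 1296 56464 4 4, .mk 96 536379392 1024 57472 4 0, .mk 92 536494592 784 58480
    1 4, .mk 88 536594432 576 59488 0 1, .mk 84 536678912 400 60496 1 1, .mk 80 536748032 256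
    61504 4 4, .mk 76 536801792 144 62512 4 0, .mk 72 536840192 64 63520 1 4, .mk 68 536863232 16
    64528 0 1, .mk 64 536870912 0 65536 1 1, .mk 60 536863232 16 66544 4 4, .mk 56 536840192 64
    67552 4 0, .mk 52 536801792 144 68560 1 4, .mk 48 536748032 256 69568 0 1, .mk 44 536678912
    400 70576 1 1, .mk 40 536594432 576 71584 4 4, .mk 36 536494592 784 72592 4 0, .mk 32
    536379392 1024 73600 1 4, .mk 28 536248832 1296 74608 0 1, .mk 24 536102912 1600 75616 1 1,
    .mk 20 535941632 1936 76624 4 4, .mk 16 535764992 2304 77632 4 0, .mk 12 535572992 2704 78640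
    1 4, .mk 8 535365632 3136 79648 0 1]]

/-- Parameters of a row. -/
inductive Par
  | mk (k S T R D N W W' Y : ℕ)
  deriving DecidableEq

/-- The parameters. -/
def pars : List Par :=
  [.mk 5 3574 326 2686009600 80162 322 2 10 68974,
    .mk 5 3574 318 2683889920 80162 1058 2 7 70990,
    .mk 7 4909 443 3758470784 85466 690 0 1 68490,
    .mk 5 3574 322 2684773120 88148 1012 2 1 70268,
    .mk 5 3574 322 2684773120 91536 1104 5 4 66704,
    .mk 5 3244 336 2689100800 232083 2323 3 10 45213,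
    .mk 5 3244 332 2687864320 231236 2668 0 2 44208,
    .mk 5 3244 312 2686981120 231236 1380 0 1 53780,
    .mk 5 3244 312 2686981120 231236 1932 0 0 51272,
    .mk 3 1909 191 1611870336 231740 3036 0 7 50212,
    .mk 3 1909 171 1612753536 231740 1196 0 7 55252,
    .mk 5 3244 336 2689100800 256283 1403 3 10 46973,
    .mk 4 2472 256 2149403648 255116 1932 0 5 47892,
    .mk 3 1909 187 1612400256 253036 3404 3 0 46996,
    .mk 3 1909 203 1612400256 253036 3404 1 6 47188,
    .mk 5 3244 316 2686451200 262091 2875 1 8 46469,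
    .mk 5 3409 323 2685435520 246812 2668 2 7 44980,
    .mk 4 2989 251 2147858048 183308 460 2 7 59316,
    .mk 4 2989 251 2147858048 183308 460 2 7 59316,
    .mk 7 4744 448 3760016384 278252 1748 5 3 46352,
    .mk 2 1357 123 1075529344 287036 3404 3 0 46996,
    .mk 2 1357 139 1075529344 287036 3404 1 6 47188]

/-- The true solution. -/
def good (c : List ℕ) : Bool := c == [21, 144, 45, 45, 1]

/-- The test of a row. -/
noncomputable def chk (p : Par) : Bool :=
  Par.rec (motive := fun _ => Bool) (fun k S T R D N W W' Y =>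
    srch (fun c => Nat.beq D 91536 && good c) S T R D N W W' k blocks 0 0 0 0 0 65536 Y 0 0 []) p

/-! ### Correctness of the search -/

/-- A coded value with its degree. -/
structure E where
  (m v d t q n x w w' : ℕ)

/-- The value. -/
def E.it (e : E) : It := .mk e.t e.q e.n e.x e.w e.w'

/-- Membership in a block. -/
def InB : Blk → E → Prop
  | .mk m v d l, e => e.m = m ∧ e.v = v ∧ e.d = d ∧ e.it ∈ l

instance (B : Blk) (e : E) : Decidable (InB B e) := by
  cases B
  unfold InB
  infer_instance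

/-- Membership in a list of blocks. -/
def InL (L : List Blk) (e : E) : Prop := ∃ B ∈ L, InB B e

instance (L : List Blk) (e : E) : Decidable (InL L e) := by
  unfold InL
  infer_instance

theorem and_rec {a b : Bool} (h : Bool.rec (motive := fun _ => Bool) false b a = true) :
    a = true ∧ b = true := by
  cases a
  · exact absurd h Bool.false_ne_true
  · exact ⟨rfl, h⟩

theorem imp_rec {a b : Bool} (h : Bool.rec (motive := fun _ => Bool) true b a = true)
    (ha : a = true) : b = true := by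
  subst ha; exact h

theorem loopI_spec {F : It → List It → Bool} {l : List It} (h : loopI F l = true)
    (P : It → Prop) (hP : ∃ i ∈ l, P i) : ∃ i l' l₁, l = l₁ ++ i :: l' ∧ F i l' = true ∧ P i ∧
      ∀ j ∈ l₁, ¬ P j := by
  induction l with
  | nil => obtain ⟨i, hi, -⟩ := hP; exact absurd hi List.not_mem_nil
  | cons i₀ l ih =>
    have h' : Bool.rec (motive := fun _ => Bool) false (loopI F l) (F i₀ l) = true := h
    obtain ⟨h1, h2⟩ := and_rec h'
    by_cases hi : P i₀
    · exact ⟨i₀, l, [], rfl, h1, hi, fun j hj => absurd hj List.not_mem_nil⟩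
    · obtain ⟨i, l', l₁, e1, e2, e3, e4⟩ := ih h2 (by
        obtain ⟨i, hi', hPi⟩ := hP
        rcases List.mem_cons.1 hi' with rfl | hi'
        · exact absurd hPi hi
        · exact ⟨i, hi', hPi⟩)
      refine ⟨i, l', i₀ :: l₁, by rw [e1]; rfl, e2, e3, fun j hj => ?_⟩
      rcases List.mem_cons.1 hj with rfl | hj
      · exact hi
      · exact e4 j hj

theorem loopB_spec {F : Blk → List Blk → Bool} {l : List Blk} (h : loopB F l = true)
    (P : Blk → Prop) (hP : ∃ i ∈ l, P i) : ∃ i l' l₁, l = l₁ ++ i :: l' ∧ F i l' = true ∧ P i ∧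
      ∀ j ∈ l₁, ¬ P j := by
  induction l with
  | nil => obtain ⟨i, hi, -⟩ := hP; exact absurd hi List.not_mem_nil
  | cons i₀ l ih =>
    have h' : Bool.rec (motive := fun _ => Bool) false (loopB F l) (F i₀ l) = true := h
    obtain ⟨h1, h2⟩ := and_rec h'
    by_cases hi : P i₀
    · exact ⟨i₀, l, [], rfl, h1, hi, fun j hj => absurd hj List.not_mem_nil⟩
    · obtain ⟨i, l', l₁, e1, e2, e3, e4⟩ := ih h2 (by
        obtain ⟨i, hi', hPi⟩ := hP
        rcases List.mem_cons.1 hi' with rfl | hi'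
        · exact absurd hPi hi
        · exact ⟨i, hi', hPi⟩)
      refine ⟨i, l', i₀ :: l₁, by rw [e1]; rfl, e2, e3, fun j hj => ?_⟩
      rcases List.mem_cons.1 hj with rfl | hj
      · exact hi
      · exact e4 j hj

theorem reach_nil_zero : reach [] 0 = 1 := rfl

theorem reach_cons_zero (B : Blk) (L : List Blk) : reach (B :: L) 0 = 1 := by cases B; rfl

theorem reach_cons_succ (m v d : ℕ) (l : List It) (L : List Blk) (k : ℕ) :
    reach (.mk m v d l :: L) (k + 1) =
      reach L (k + 1) ||| (reach (.mk m v d l :: L) k) <<< v := rfl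

variable {ι : Type*} [DecidableEq ι] {f : ι → E}

theorem reach_spec (L : List Blk) : ∀ a : Finset ι, (∀ i ∈ a, InL L (f i)) →
    (reach L a.card).testBit (∑ i ∈ a, (f i).v) = true := by
  induction L with
  | nil =>
    intro a ha
    have : a = ∅ := by
      rw [Finset.eq_empty_iff_forall_notMem]
      intro i hi
      obtain ⟨B, hB, -⟩ := ha i hi
      exact absurd hB List.not_mem_nil
    subst this
    rw [Finset.card_empty, Finset.sum_empty, reach_nil_zero]
    rfl
  | cons B L ih =>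
    obtain ⟨m, v, d, l⟩ := B
    intro a
    induction hk : a.card generalizing a with
    | zero =>
      intro ha
      have : a = ∅ := Finset.card_eq_zero.1 hk
      subst this
      rw [Finset.sum_empty, reach_cons_zero]
      rfl
    | succ k ihk =>
      intro ha
      rw [reach_cons_succ, Nat.testBit_or]
      by_cases h : ∃ i ∈ a, InB (.mk m v d l) (f i)
      · obtain ⟨i, hi, hi'⟩ := h
        have h1 := ihk (a.erase i) (by rw [Finset.card_erase_of_mem hi, hk]; rfl)
          (fun j hj => ha j (Finset.mem_of_mem_erase hj))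
        have h2 : (f i).v = v := hi'.2.1
        rw [← Finset.add_sum_erase a (fun i => (f i).v) hi, h2, Nat.testBit_shiftLeft,
          Nat.add_sub_cancel_left, h1, Bool.and_true, Bool.or_eq_true]
        right
        exact decide_eq_true (Nat.le_add_right v _)
      · have h1 := ih a (fun i hi => by
          obtain ⟨B, hB, hB'⟩ := ha i hi
          rcases List.mem_cons.1 hB with rfl | hB
          · exact absurd ⟨i, hi, hB'⟩ h
          · exact ⟨B, hB, hB'⟩)
        rw [hk] at h1
        rw [h1, Bool.true_or]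

theorem beq_of_testBit {M z : ℕ} (h : M.testBit z = true) :
    Nat.beq (Nat.land 1 (Nat.shiftRight M z)) 1 = true := by
  rw [Nat.testBit] at h
  have h1 : (1 &&& (M >>> z)) = (M >>> z) % 2 := Nat.one_and_eq_mod_two _
  have h2 : Nat.land 1 (Nat.shiftRight M z) = (M >>> z) % 2 := h1
  rw [h1] at h
  rw [Nat.beq_eq, h2]
  have h3 : (M >>> z) % 2 ≠ 0 := by
    intro h4
    rw [h4] at h
    exact absurd h (by decide)
  omega

/-- The relation between the numbers of a value. -/
def Rel (e : E) : Prop :=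
  ((e.q : ℤ) - 536870912) * ((e.v : ℤ) - 672) = 120960 * ((e.t : ℤ) - 64) ^ 2

/-- The hereditary conditions. -/
structure Her (f : ι → E) (D N W W' n d x y w w' : ℕ) (a : Finset ι) : Prop where
  w : w + ∑ i ∈ a, (f i).w ≤ W
  w' : w' + ∑ i ∈ a, (f i).w' ≤ W'
  gr : (y + a.card * 65536) * (y + a.card * 65536) + (x + ∑ i ∈ a, (f i).x) *
    (x + ∑ i ∈ a, (f i).x) ≤ 2 * ((y + a.card * 65536) * (x + ∑ i ∈ a, (f i).x)) +
      (D - (d + ∑ i ∈ a, (f i).d)) * (N - (n + ∑ i ∈ a, (f i).n))

theorem srch_sound (hrel : ∀ i, Rel (f i)) {g : List ℕ → Bool} {Γ : Multiset ℕ → Prop}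
    (hg : ∀ c : List ℕ, g c = true → Γ ↑c) {S T R D N W W' : ℕ} :
    ∀ (k : ℕ) (L : List Blk) (s t q n d x y w w' : ℕ) (c : List ℕ) (a : Finset ι),
      srch g S T R D N W W' k L s t q n d x y w w' c = true → a.card = k →
      (∀ i ∈ a, InL L (f i)) → s + ∑ i ∈ a, (f i).v = S → t + ∑ i ∈ a, (f i).t = T →
      q + ∑ i ∈ a, (f i).q = R → (∀ a' ⊆ a, Her f D N W W' n d x y w w' a') →
      Γ (a.val.map (fun i => (f i).m) + ↑c) := by
  intro k
  induction k with
  | zero =>
    intro L s t q n d x y w w' c a h hk _ hS hT hR _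
    have ha : a = ∅ := Finset.card_eq_zero.1 hk
    subst ha
    rw [Finset.sum_empty, add_zero] at hS hT hR
    subst hS hT hR
    have h' : fin g s t q s t q c = true := h
    unfold fin at h'
    have h1 := imp_rec (imp_rec (imp_rec h' (Nat.beq_refl _)) (Nat.beq_refl _)) (Nat.beq_refl _)
    have h2 := hg c h1
    simpa using h2
  | succ k ih =>
    intro L s t q n d x y w w' c a h hk hL hS hT hR hH
    -- the relation
    have hne : a.Nonempty := by rw [← Finset.card_pos, hk]; omega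
    have hlast : Bool.rec (motive := fun _ => Bool) false
        (Bool.not (rl S T R (Nat.add s 672) (Nat.add t 64) (Nat.add q 536870912)))
          (Nat.beq k 0) = false := by
      rw [Bool.eq_false_iff]
      intro h1
      obtain ⟨h2, h3⟩ := and_rec h1
      rw [Nat.beq_eq] at h2
      subst h2
      obtain ⟨i, rfl⟩ := Finset.card_eq_one.1 hk
      rw [Finset.sum_singleton] at hS hT hR
      have h4 := hrel i
      unfold Rel at h4
      have h5 : rl S T R (Nat.add s 672) (Nat.add t 64) (Nat.add q 536870912) = true := by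
        unfold rl
        rw [Nat.beq_eq]
        simp only [Nat.add_eq, Nat.mul_eq]
        zify
        rw [← hS, ← hT, ← hR]
        push_cast
        linear_combination h4
      rw [h5] at h3
      exact Bool.false_ne_true h3
    rw [srch_succ] at h
    unfold step at h
    rw [hlast] at h
    obtain ⟨i₀, hi₀⟩ := hne
    obtain ⟨B, L', L₁, hLe, hF, ⟨i₁, hi₁, hB₁⟩, hL₁⟩ := loopB_spec h
      (fun B => ∃ i ∈ a, InB B (f i)) (by
        obtain ⟨B, hB, hB'⟩ := hL i₀ hi₀
        exact ⟨B, hB, i₀, hi₀, hB'⟩)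
    obtain ⟨m, v, e, l⟩ := B
    -- membership
    have hmem : ∀ i ∈ a, InB (.mk m v e l) (f i) ∨ InL L' (f i) := by
      intro i hi
      obtain ⟨B, hB, hB'⟩ := hL i hi
      rw [hLe, List.mem_append, List.mem_cons] at hB
      rcases hB with hB | rfl | hB
      · exact absurd ⟨i, hi, hB'⟩ (hL₁ B hB)
      · exact Or.inl hB'
      · exact Or.inr ⟨B, hB, hB'⟩
    -- the reach test
    have hreach : Nat.beq (Nat.land 1 (Nat.shiftRight (reach (List.cons (Blk.mk m v e l) L') k)
        (Nat.sub S (Nat.add s v)))) 1 = true := by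
      apply beq_of_testBit
      have h1 := reach_spec (f := f) (.mk m v e l :: L') (a.erase i₁) (fun i hi => by
        rcases hmem i (Finset.mem_of_mem_erase hi) with h2 | ⟨B, hB, hB'⟩
        · exact ⟨_, List.mem_cons_self, h2⟩
        · exact ⟨B, List.mem_cons_of_mem _ hB, hB'⟩)
      rw [Finset.card_erase_of_mem hi₁, hk, Nat.add_sub_cancel] at h1
      have h2 : Nat.sub S (Nat.add s v) = ∑ i ∈ a.erase i₁, (f i).v := by
        rw [← hS, ← Finset.add_sum_erase a (fun i => (f i).v) hi₁, hB₁.2.1]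
        simp only [Nat.add_eq, Nat.sub_eq]
        omega
      rw [h2]
      exact h1
    have hF' := imp_rec hF hreach
    -- the value
    obtain ⟨i, l', l₁, hle, hG, ⟨j, hj, hjB, rfl⟩, hl₁⟩ := loopI_spec hF'
      (fun i => ∃ j ∈ a, InB (.mk m v e l) (f j) ∧ i = (f j).it)
      ⟨(f i₁).it, hB₁.2.2.2, i₁, hi₁, hB₁, rfl⟩
    obtain ⟨hjm, hjv, hjd, hjl⟩ := hjB
    have hher : Her f D N W W' n d x y w w' {j} := hH {j} (Finset.singleton_subset_iff.2 hj)
    have hG' : Bool.rec (motive := fun _ => Bool) true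
                (Bool.rec (motive := fun _ => Bool) true
                  (Bool.rec (motive := fun _ => Bool) true
                    (srch g S T R D N W W' k
                      (List.cons (Blk.mk m v e (List.cons (f j).it l')) L')
                      (Nat.add s v)
                      (Nat.add t (f j).t) (Nat.add q (f j).q) (Nat.add n (f j).n) (Nat.add d e)
                      (Nat.add x (f j).x)
                      (Nat.add y 65536) (Nat.add w (f j).w) (Nat.add w' (f j).w') (List.cons m c))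
                    (gr D N (Nat.add n (f j).n) (Nat.add d e) (Nat.add x (f j).x)
                      (Nat.add y 65536)))
                  (Nat.ble (Nat.add w' (f j).w') W'))
                (Nat.ble (Nat.add w (f j).w) W) = true := hG
    have g1 : Nat.ble (Nat.add w (f j).w) W = true := by
      rw [Nat.ble_eq]
      have := hher.w
      rwa [Finset.sum_singleton] at this
    have g2 : Nat.ble (Nat.add w' (f j).w') W' = true := by
      rw [Nat.ble_eq]
      have := hher.w'
      rwa [Finset.sum_singleton] at this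
    have g3 : gr D N (Nat.add n (f j).n) (Nat.add d e) (Nat.add x (f j).x) (Nat.add y 65536) =
        true := by
      unfold gr
      rw [Nat.ble_eq]
      have := hher.gr
      rw [Finset.sum_singleton, Finset.sum_singleton, Finset.sum_singleton, Finset.card_singleton,
        one_mul, hjd] at this
      exact this
    have h3 := ih _ _ _ _ _ _ _ _ _ _ _ (a.erase j) (imp_rec (imp_rec (imp_rec hG' g1) g2) g3)
      (by rw [Finset.card_erase_of_mem hj, hk, Nat.add_sub_cancel]) ?_ ?_ ?_ ?_ ?_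
    · have h4 : a.val.map (fun i => (f i).m) + (c : Multiset ℕ) =
          (a.erase j).val.map (fun i => (f i).m) + ((m :: c : List ℕ) : Multiset ℕ) := by
        have h5 : a = insert j (a.erase j) := (Finset.insert_erase hj).symm
        rw [h5, Finset.insert_val_of_notMem (Finset.notMem_erase j a), Multiset.map_cons,
          ← Multiset.cons_coe, hjm, ← h5]
        rw [Multiset.cons_add, Multiset.add_cons]
      rw [h4]
      exact h3
    · intro i hi
      have hia := Finset.mem_of_mem_erase hi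
      rcases hmem i hia with hI | ⟨B, hB, hB'⟩
      · refine ⟨_, List.mem_cons_self, hI.1, hI.2.1, hI.2.2.1, ?_⟩
        have h5 := hI.2.2.2
        rw [hle, List.mem_append] at h5
        rcases h5 with h5 | h5
        · exact absurd ⟨i, hia, hI, rfl⟩ (hl₁ _ h5)
        · exact h5
      · exact ⟨B, List.mem_cons_of_mem _ hB, hB'⟩
    · rw [← hS, ← Finset.add_sum_erase a (fun i => (f i).v) hj, hjv]
      simp only [Nat.add_eq]
      ring
    · rw [← hT, ← Finset.add_sum_erase a (fun i => (f i).t) hj]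
      simp only [Nat.add_eq]
      ring
    · rw [← hR, ← Finset.add_sum_erase a (fun i => (f i).q) hj]
      simp only [Nat.add_eq]
      ring
    · intro a' ha'
      have hj' : j ∉ a' := fun h => Finset.notMem_erase j a (ha' h)
      have h5 := hH (insert j a') (by
        intro i hi
        rcases Finset.mem_insert.1 hi with rfl | hi
        · exact hj
        · exact Finset.mem_of_mem_erase (ha' hi))
      obtain ⟨p1, p2, p3⟩ := h5
      rw [Finset.sum_insert hj'] at p1 p2
      rw [Finset.sum_insert hj', Finset.sum_insert hj', Finset.sum_insert hj',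
        Finset.card_insert_of_notMem hj', hjd] at p3
      refine ⟨?_, ?_, ?_⟩
      · simp only [Nat.add_eq]; omega
      · simp only [Nat.add_eq]; omega
      · simp only [Nat.add_eq]
        have e1 : y + 65536 + a'.card * 65536 = y + (a'.card + 1) * 65536 := by ring
        rw [e1, add_assoc, add_assoc, add_assoc]
        exact p3

/-! ### The degrees and values -/

/-- The possible `m = χ(1) / 23`. -/
def ms : List ℕ := [1, 10, 12, 21, 32, 45, 54, 56, 120, 144, 210, 252, 320, 384, 540, 560, 672]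

/-- The sign. -/
def sg (m : ℕ) : ℤ := if m % 11 = 1 then 1 else -1

/-- The weight `120960 / m`. -/
def wt (m : ℕ) : ℤ := ((120960 / m : ℕ) : ℤ)

theorem sg_sq (m : ℕ) : sg m * sg m = 1 := by
  unfold sg; split_ifs <;> rfl

/-- The conditions for a value. -/
structure CU (m : ℕ) (x : ℤ) : Prop where
  four : (4 : ℤ) ∣ 23 * m - x
  dvd : ((23 * m : ℕ) : ℤ) ∣ 31878 * x
  five : 5 ∣ m → (5 : ℤ) ∣ x
  eleven : 11 * |x| ≤ 23 * m + 10 * sg m

/-- The code. -/
def code (m : ℕ) (b : ℤ) : E where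
  m := m
  v := (672 + sg m * m).toNat
  d := m * m
  t := (64 + sg m * b).toNat
  q := (536870912 + sg m * (b * b) * wt m).toNat
  n := (b * b).toNat
  x := (65536 + m * b).toNat
  w := ((b - 23 * m) ^ 2 % 5).toNat
  w' := ((2 * b - 23 * m) ^ 2 % 5).toNat

/-- The range of the values. -/
def rb : List ℤ := (List.range 117).map fun i : ℕ => (i : ℤ) - 58

theorem mem_rb {x : ℤ} (h : x * x ≤ 3404) : x ∈ rb := by
  have h1 : x ≤ 58 := by nlinarith
  have h2 : -58 ≤ x := by nlinarith
  exact List.mem_map.2 ⟨(x + 58).toNat, List.mem_range.2 (by omega), by omega⟩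

theorem cover' : ∀ m ∈ ms, ∀ x ∈ rb, (4 : ℤ) ∣ 23 * m - x → ((23 * m : ℕ) : ℤ) ∣ 31878 * x →
    (5 ∣ m → (5 : ℤ) ∣ x) → 11 * |x| ≤ 23 * m + 10 * sg m → InL blocks (code m x) := by
  decide +kernel

theorem spec' : ∀ m ∈ ms, ∀ x ∈ rb,
    ((code m x).v : ℤ) = 672 + sg m * m ∧
    ((code m x).t : ℤ) = 64 + sg m * x ∧
    ((code m x).q : ℤ) = 536870912 + sg m * (x * x) * wt m ∧
    ((code m x).n : ℤ) = x * x ∧
    ((code m x).x : ℤ) = 65536 + m * x ∧
    ((code m x).w : ℤ) = (x - 23 * m) ^ 2 % 5 ∧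
    ((code m x).w' : ℤ) = (2 * x - 23 * m) ^ 2 % 5 := by
  decide +kernel

theorem wt_mul' : ∀ m ∈ ms, wt m * m = 120960 := by
  decide +kernel

/-! ### The rows -/

/-- The sign of a degree. -/
def sd (z : ℤ) : ℤ := if z % 11 = 1 then 1 else if z % 11 = 10 then -1 else 0

/-- Removing the sign. -/
def un (p : ℤ × ℤ) : ℤ × ℤ := if 0 ≤ p.1 then p else (-p.1, -p.2)

/-- The known characters to which the weights apply. -/
def kw (r : List (ℤ × ℤ) × ℤ × ℤ) : List (ℤ × ℤ) :=
  (1035, 35) :: (990, -10) :: (990, -10) :: un r.2 :: un r.2 :: r.1.map un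

/-- The known characters. -/
def kd (r : List (ℤ × ℤ) × ℤ × ℤ) : List (ℤ × ℤ) :=
  (1, 1) :: (5544, 24) :: (5796, 36) :: (1771, 11) :: (2024, 24) :: kw r

/-- The relation of a row with its parameters. -/
def OK (r : List (ℤ × ℤ) × ℤ × ℤ) : Par → Prop
  | .mk k S T R D N W W' Y =>
    (k : ℤ) + ((kd r).map fun p => sd p.1 * sd p.1).sum = 11 ∧
    23 * ((S : ℤ) - 672 * k) + ((kd r).map fun p => sd p.1 * p.1).sum = 0 ∧
    ((T : ℤ) - 64 * k) + ((kd r).map fun p => sd p.1 * p.2).sum = 0 ∧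
    88 * ((R : ℤ) - 536870912 * k) +
      ((kd r).map fun p => sd p.1 * (p.2 ^ 2 * (244823040 / p.1))).sum = 11 * 7680 ^ 2 ∧
    529 * (D : ℤ) + ((kd r).map fun p => p.1 ^ 2).sum = 244823040 ∧
    (N : ℤ) + ((kd r).map fun p => p.2 ^ 2).sum = 7680 ∧
    (W : ℤ) + ((kw r).map fun p => (p.2 - p.1) ^ 2 % 5).sum = 5 ∧
    (W' : ℤ) + ((kw r).map fun p => (2 * p.2 - p.1) ^ 2 % 5).sum = 10 ∧
    23 * ((Y : ℤ) - 65536) + ((kd r).map fun p => p.1 * p.2).sum = 0 ∧ N ≤ 3404

instance (r : List (ℤ × ℤ) × ℤ × ℤ) (p : Par) : Decidable (OK r p) := by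
  cases p
  unfold OK
  infer_instance

theorem pars_ok : ∀ r ∈ Last.rows, ∃ p ∈ pars, OK r p := by
  decide +kernel

theorem row_of_D : ∀ r ∈ Last.rows,
    529 * ((91536 : ℕ) : ℤ) + ((kd r).map fun p => p.1 ^ 2).sum = 244823040 → r.2 = (770, 10) := by
  decide +kernel

theorem chk_all : ∀ p ∈ pars, chk p = true := by
  decide +kernel

/-- The conditions for the rest of the block. -/
structure Hyps {ι : Type*} (r : List (ℤ × ℤ) × ℤ × ℤ) (a : Finset ι) (m : ι → ℕ) (b : ι → ℤ) :
    Prop where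
  mem : ∀ i ∈ a, m i ∈ ms
  cu : ∀ i ∈ a, CU (m i) (b i)
  card : (a.card : ℤ) + ((kd r).map fun p => sd p.1 * sd p.1).sum = 11
  sS : ∑ i ∈ a, sg (m i) * (23 * (m i : ℤ)) + ((kd r).map fun p => sd p.1 * p.1).sum = 0
  sT : ∑ i ∈ a, sg (m i) * b i + ((kd r).map fun p => sd p.1 * p.2).sum = 0
  sR : ∑ i ∈ a, sg (m i) * (b i ^ 2 * (88 * wt (m i))) +
    ((kd r).map fun p => sd p.1 * (p.2 ^ 2 * (244823040 / p.1))).sum = 11 * 7680 ^ 2
  norm : ∀ a' ⊆ a, ∑ i ∈ a', b i ^ 2 + ((kd r).map fun p => p.2 ^ 2).sum ≤ 7680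
  wt : ∀ a' ⊆ a, ∑ i ∈ a', (b i - 23 * (m i : ℤ)) ^ 2 % 5 +
    ((kw r).map fun p => (p.2 - p.1) ^ 2 % 5).sum ≤ 5
  wt' : ∀ a' ⊆ a, ∑ i ∈ a', (2 * b i - 23 * (m i : ℤ)) ^ 2 % 5 +
    ((kw r).map fun p => (2 * p.2 - p.1) ^ 2 % 5).sum ≤ 10
  gram : ∀ a' ⊆ a, (∑ i ∈ a', 23 * (m i : ℤ) * b i + ((kd r).map fun p => p.1 * p.2).sum) ^ 2 ≤
    (244823040 - (∑ i ∈ a', (23 * (m i : ℤ)) ^ 2 + ((kd r).map fun p => p.1 ^ 2).sum)) *
      (7680 - (∑ i ∈ a', b i ^ 2 + ((kd r).map fun p => p.2 ^ 2).sum))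

/-- Only one row survives, and the rest of the block is determined. -/
theorem main {ι : Type*} {r : List (ℤ × ℤ) × ℤ × ℤ} (hr : r ∈ Last.rows) {a : Finset ι}
    {m : ι → ℕ} {b : ι → ℤ} (h : Hyps r a m b) :
    r.2 = (770, 10) ∧ a.val.map m = ↑([21, 144, 45, 45, 1] : List ℕ) := by
  classical
  obtain ⟨p, hp, hok⟩ := pars_ok r hr
  have hc := chk_all p hp
  obtain ⟨k, S, T, R, D, N, W, W', Y⟩ := p
  obtain ⟨o1, o2, o3, o4, o5, o6, o7, o8, o9, o10⟩ := hok
  have hb : ∀ i ∈ a, b i ∈ rb := by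
    intro i hi
    apply mem_rb
    have h1 := h.norm {i} (Finset.singleton_subset_iff.2 hi)
    rw [Finset.sum_singleton] at h1
    have h2 : b i * b i = b i ^ 2 := by ring
    omega
  have hsp := fun i (hi : i ∈ a) => spec' _ (h.mem i hi) _ (hb i hi)
  have hcard : a.card = k := by
    have := h.card
    omega
  -- use a function with the relation everywhere
  let f : ι → E := fun i => if i ∈ a then code (m i) (b i) else code 1 (-1)
  have hf : ∀ i ∈ a, f i = code (m i) (b i) := fun i hi => if_pos hi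
  have hrel0 : ∀ m ∈ ms, ∀ x ∈ rb, Rel (code m x) := by
    intro m hm x hx
    obtain ⟨e1, e2, e3, -⟩ := spec' m hm x hx
    unfold Rel
    rw [e1, e2, e3]
    have h1 := sg_sq m
    have h2 := wt_mul' m hm
    linear_combination (x ^ 2 * wt m * m - 120960 * x ^ 2) * h1 + x ^ 2 * h2
  have hrel : ∀ i, Rel (f i) := by
    intro i
    by_cases hi : i ∈ a
    · rw [hf i hi]; exact hrel0 _ (h.mem i hi) _ (hb i hi)
    · have : f i = code 1 (-1) := if_neg hi
      rw [this]
      exact hrel0 1 (by decide) (-1) (by decide)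
  have hc' : srch (fun c => Nat.beq D 91536 && good c) S T R D N W W' k blocks
      0 0 0 0 0 65536 Y 0 0 [] = true := hc
  have key := srch_sound hrel (Γ := fun M => D = 91536 ∧ M = ↑([21, 144, 45, 45, 1] : List ℕ))
    (fun c hc => by
      rw [Bool.and_eq_true, Nat.beq_eq] at hc
      refine ⟨hc.1, ?_⟩
      have h2 := hc.2
      unfold good at h2
      rw [beq_iff_eq] at h2
      rw [h2]) k blocks 0 0 0 0 0 65536 Y 0 0 [] a hc' hcard ?_ ?_ ?_ ?_ ?_
  · obtain ⟨k1, k2⟩ := key
    subst k1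
    refine ⟨row_of_D r hr o5, ?_⟩
    rw [← k2, Multiset.coe_nil, add_zero]
    exact Multiset.map_congr rfl fun i hi => by rw [hf i hi]; rfl
  · intro i hi
    rw [hf i hi]
    have h1 := h.cu i hi
    exact cover' _ (h.mem i hi) _ (hb i hi) h1.four h1.dvd h1.five h1.eleven
  · have h1 : ((∑ i ∈ a, (f i).v : ℕ) : ℤ) = 672 * a.card + ∑ i ∈ a, sg (m i) * (m i : ℤ) := by
      push_cast
      rw [Finset.sum_congr rfl fun i hi => by rw [hf i hi, (hsp i hi).1], Finset.sum_add_distrib,
        Finset.sum_const, nsmul_eq_mul]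
      ring
    have h2 : ∑ i ∈ a, sg (m i) * (23 * (m i : ℤ)) = 23 * ∑ i ∈ a, sg (m i) * (m i : ℤ) := by
      rw [Finset.mul_sum]; exact Finset.sum_congr rfl fun i _ => by ring
    have h3 := h.sS
    rw [h2] at h3
    rw [hcard] at h1
    omega
  · have h1 : ((∑ i ∈ a, (f i).t : ℕ) : ℤ) = 64 * a.card + ∑ i ∈ a, sg (m i) * b i := by
      push_cast
      rw [Finset.sum_congr rfl fun i hi => by rw [hf i hi, (hsp i hi).2.1],
        Finset.sum_add_distrib, Finset.sum_const, nsmul_eq_mul]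
      ring
    have h3 := h.sT
    rw [hcard] at h1
    omega
  · have h1 : ((∑ i ∈ a, (f i).q : ℕ) : ℤ) = 536870912 * a.card +
        ∑ i ∈ a, sg (m i) * (b i * b i) * LastRestArith.wt (m i) := by
      push_cast
      rw [Finset.sum_congr rfl fun i hi => by rw [hf i hi, (hsp i hi).2.2.1],
        Finset.sum_add_distrib, Finset.sum_const, nsmul_eq_mul]
      ring
    have h2 : ∑ i ∈ a, sg (m i) * (b i ^ 2 * (88 * LastRestArith.wt (m i))) =
        88 * ∑ i ∈ a, sg (m i) * (b i * b i) * LastRestArith.wt (m i) := by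
      rw [Finset.mul_sum]; exact Finset.sum_congr rfl fun i _ => by ring
    have h3 := h.sR
    rw [h2] at h3
    rw [hcard] at h1
    omega
  · intro a' ha'
    have hn : ((∑ i ∈ a', (f i).n : ℕ) : ℤ) = ∑ i ∈ a', b i ^ 2 := by
      push_cast
      exact Finset.sum_congr rfl fun i hi => by
        rw [hf i (ha' hi), (hsp i (ha' hi)).2.2.2.1]; ring
    have hd : ((∑ i ∈ a', (f i).d : ℕ) : ℤ) = ∑ i ∈ a', (m i : ℤ) ^ 2 := by
      push_cast
      exact Finset.sum_congr rfl fun i hi => by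
        rw [hf i (ha' hi)]; change ((m i * m i : ℕ) : ℤ) = _; push_cast; ring
    have hx : ((∑ i ∈ a', (f i).x : ℕ) : ℤ) = 65536 * a'.card + ∑ i ∈ a', (m i : ℤ) * b i := by
      push_cast
      rw [Finset.sum_congr rfl fun i hi => by rw [hf i (ha' hi), (hsp i (ha' hi)).2.2.2.2.1],
        Finset.sum_add_distrib, Finset.sum_const, nsmul_eq_mul]
      ring
    have hw : ((∑ i ∈ a', (f i).w : ℕ) : ℤ) = ∑ i ∈ a', (b i - 23 * (m i : ℤ)) ^ 2 % 5 := by
      push_cast
      exact Finset.sum_congr rfl fun i hi => by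
        rw [hf i (ha' hi), (hsp i (ha' hi)).2.2.2.2.2.1]
    have hw' : ((∑ i ∈ a', (f i).w' : ℕ) : ℤ) = ∑ i ∈ a', (2 * b i - 23 * (m i : ℤ)) ^ 2 % 5 := by
      push_cast
      exact Finset.sum_congr rfl fun i hi => by
        rw [hf i (ha' hi), (hsp i (ha' hi)).2.2.2.2.2.2]
    have g1 := h.wt a' ha'
    have g2 := h.wt' a' ha'
    have g3 := h.norm a' ha'
    have g4 := h.gram a' ha'
    rw [← hw] at g1
    rw [← hw'] at g2
    rw [← hn] at g3 g4
    refine ⟨by omega, by omega, ?_⟩
    have g5 : ∑ i ∈ a', 23 * (m i : ℤ) * b i = 23 * ∑ i ∈ a', (m i : ℤ) * b i := by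
      rw [Finset.mul_sum]; exact Finset.sum_congr rfl fun i _ => by ring
    have g6 : ∑ i ∈ a', (23 * (m i : ℤ)) ^ 2 = 529 * ∑ i ∈ a', (m i : ℤ) ^ 2 := by
      rw [Finset.mul_sum]; exact Finset.sum_congr rfl fun i _ => by ring
    rw [g5, g6, ← hd] at g4
    set dd := ∑ i ∈ a', (f i).d with hdd
    set nn := ∑ i ∈ a', (f i).n with hnn
    set xx := ∑ i ∈ a', (f i).x with hxx
    set ms' := ∑ i ∈ a', (m i : ℤ) * b i with hms
    have q1 : nn ≤ N := by omega
    have q2 : (7680 : ℤ) - ((nn : ℤ) + ((kd r).map fun p => p.2 ^ 2).sum) = ((N - nn : ℕ) : ℤ) := by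
      omega
    have q3 : (244823040 : ℤ) - (529 * (dd : ℤ) + ((kd r).map fun p => p.1 ^ 2).sum) =
        529 * ((D : ℤ) - dd) := by omega
    have q4 : 23 * ms' + ((kd r).map fun p => p.1 * p.2).sum = 23 * (ms' - (Y - 65536)) := by
      omega
    rw [q2, q3, q4] at g4
    have q5 : (ms' - (Y - 65536)) ^ 2 ≤ ((D : ℤ) - dd) * ((N - nn : ℕ) : ℤ) := by nlinarith
    have q6 : ((D : ℤ) - dd) * ((N - nn : ℕ) : ℤ) ≤ (((D - dd) * (N - nn) : ℕ) : ℤ) := by
      push_cast
      refine mul_le_mul_of_nonneg_right ?_ (Int.natCast_nonneg _)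
      omega
    have q7 : (ms' - (Y - 65536)) ^ 2 ≤ (((D - dd) * (N - nn) : ℕ) : ℤ) := q5.trans q6
    rw [zero_add, zero_add]
    zify
    have q8 : ((xx : ℕ) : ℤ) = 65536 * a'.card + ms' := hx
    rw [q8]
    push_cast at q7 ⊢
    linear_combination q7

end Cfsg.Agent.M24Order.LastRestArith
end

-- part: M24Order/LastRest
section
/-!
# The rest of the principal 11-block in the last case

From the column of the involution (`Last`) and the principal 23-block (`Block`): there is exactly
one irreducible character of degree 23 and none of degree 11, 12, 22, 230, 264.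
-/

set_option autoImplicit false
set_option linter.unusedSectionVars false

open Cfsg Subgroup
open Cfsg.Agent.Characters.Core
open Cfsg.Agent.SmallSimple
open Cfsg.Agent.M23Order.Base
open Cfsg.Agent.M24Order.Setup
open Cfsg.Agent.M24Order.Last
open Cfsg.Agent.M24Order.LastRestArith

namespace Cfsg.Agent.M24Order.LastRest

universe u

variable {G : Type u} [Group G] [Finite G] [IsSimpleGroup G] {H : Hyp G} {t : G}
  {b : IrrCharacter G → ℤ} {c1035 c5796 c1771 c2024 c5544 c990 c990' : IrrCharacter G}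
  {l : List (IrrCharacter G)} {r : List (ℤ × ℤ) × ℤ × ℤ}

/-- Degree and value. -/
noncomputable def pr (b : IrrCharacter G → ℤ) (χ : IrrCharacter G) : ℤ × ℤ := ((dg χ : ℤ), b χ)

theorem un_mul {e : ℤ} (he : e = 1 ∨ e = -1) {x y : ℤ} (hx : 0 < x) :
    un (e * x, e * y) = (x, y) := by
  unfold un
  rcases he with rfl | rfl
  · rw [if_pos (by simpa using hx.le)]; simp
  · rw [if_neg (by simpa using hx)]; simp

theorem dg_pos (χ : IrrCharacter G) : (0 : ℤ) < dg χ := by
  have := dg_ne_zero χ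
  omega

theorem sd_dg (χ : IrrCharacter G) : sd (dg χ : ℤ) = uu χ := by
  unfold sd uu
  split_ifs <;> omega

theorem arith_a : ∀ d ∈ A, d % 23 = 0 → d % 11 ≠ 0 → d / 23 ∈ ms ∧ 23 * (d / 23) = d ∧
    sg (d / 23) = sd (d : ℤ) ∧ (244823040 : ℤ) / (d : ℤ) = 88 * LastRestArith.wt (d / 23) := by
  decide +kernel

theorem arith_kd : ∀ r ∈ Last.rows, r.2 = (770, 10) → ∀ p ∈ kd r, p.1 ≠ 11 ∧ p.1 ≠ 12 ∧
    p.1 ≠ 22 ∧ p.1 ≠ 23 ∧ p.1 ≠ 230 ∧ p.1 ≠ 264 := by
  decide +kernel

/-- The known characters: `kwl` and five more. -/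
structure Kn (H : Hyp G) (b : IrrCharacter G → ℤ) (c5796 c1771 c2024 c5544 : IrrCharacter G)
    (r : List (ℤ × ℤ) × ℤ × ℤ) (kwl kdl : List (IrrCharacter G)) : Prop where
  eq : kdl = H.D.one :: c5544 :: c5796 :: c1771 :: c2024 :: kwl
  nd : kdl.Nodup
  kd : kdl.map (pr b) = kd r
  kw : kwl.map (pr b) = kw r
  mem : ∀ χ : IrrCharacter G, χ ∈ H.D.NE ∨ χ ∈ H.D.X → χ ∈ kdl

theorem exists_kn (K : Last H t b c1035 c5796 c1771 c2024 c5544 c990 c990')
    (B : Block H b c5544 c990 c990' l r) :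
    ∃ kwl kdl, Kn H b c5796 c1771 c2024 c5544 r kwl kdl := by
  classical
  obtain ⟨Θ, Θ', hΘΘ, hX⟩ := Finset.card_eq_two.1 H.D.card_X
  have hΘ : Θ ∈ H.D.X := by rw [hX]; simp
  have hΘ' : Θ' ∈ H.D.X := by rw [hX]; simp
  have hNE : ∀ χ : IrrCharacter G, χ ∈ H.D.NE → dg χ % 23 = 1 ∨ dg χ % 23 = 22 := by
    intro χ hχ
    rcases mod23_NE H hχ with h | h
    · exact Or.inl h.2
    · exact Or.inr h.2
  have hXX : ∀ χ : IrrCharacter G, χ ∈ H.D.X → dg χ % 23 = 11 ∨ dg χ % 23 = 12 := by
    intro χ hχ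
    rcases mod23_X H hχ with h | h
    · exact Or.inl h.2
    · exact Or.inr h.2
  have hone : H.D.one ∈ H.D.NE := H.D.one_mem
  have h5544 : c5544 ∈ H.D.NE := (B.NE _).2 (by simp)
  have h990 : c990 ∈ H.D.NE := (B.NE _).2 (by simp)
  have h990' : c990' ∈ H.D.NE := (B.NE _).2 (by simp)
  have hl : ∀ χ ∈ l, χ ∈ H.D.NE := fun χ hχ => (B.NE _).2 (by simp [hχ])
  have d1 := K.d1035
  have d2 := K.d5796
  have d3 := K.d1771
  have d4 := K.d2024
  have d5 := K.d5544
  have d6 := K.d990
  have d7 := K.d990'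
  have hndl := B.nodup
  -- degrees and values
  have hXv : ∀ χ ∈ H.D.X, pr b χ = un r.2 := by
    intro χ hχ
    have h1 : r.2 = (H.D.d * (dg χ : ℤ), H.D.d * b χ) := by
      rw [B.bX χ hχ, H.D.deg_X χ hχ, B.f_eq]
    rw [h1, un_mul H.D.d_mem (dg_pos χ)]
    rfl
  have hlv : l.map (pr b) = r.1.map un := by
    rw [← B.eq, List.map_map]
    refine List.map_congr_left fun χ hχ => ?_
    exact (un_mul (H.D.ε_mem χ (hl χ hχ)) (dg_pos χ)).symm
  have hkw : (c1035 :: c990 :: c990' :: Θ :: Θ' :: l).map (pr b) = LastRestArith.kw r := by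
    simp only [List.map_cons]
    rw [hXv Θ hΘ, hXv Θ' hΘ', hlv]
    unfold pr LastRestArith.kw
    rw [d1, d6, d7, K.b1035, K.b990, K.b990']
    rfl
  refine ⟨c1035 :: c990 :: c990' :: Θ :: Θ' :: l,
    H.D.one :: c5544 :: c5796 :: c1771 :: c2024 :: c1035 :: c990 :: c990' :: Θ :: Θ' :: l,
    rfl, ?_, ?_, hkw, ?_⟩
  · simp only [List.cons_append, List.nil_append, List.nodup_cons, List.mem_cons, not_or] at hndl
    obtain ⟨⟨n1, n2, n3, n4⟩, ⟨n5, n6, n7⟩, ⟨n8, n9⟩, n10, n11⟩ := hndl
    have hz : ∀ {χ ψ : IrrCharacter G}, dg χ % 23 = 0 → ψ ∈ H.D.NE → χ ≠ ψ := by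
      rintro χ _ h1 h2 rfl
      have := hNE _ h2
      omega
    have hz' : ∀ {χ ψ : IrrCharacter G}, dg χ % 23 = 0 → ψ ∈ H.D.X → χ ≠ ψ := by
      rintro χ _ h1 h2 rfl
      have := hXX _ h2
      omega
    have hz2 : ∀ {χ ψ : IrrCharacter G}, χ ∈ H.D.NE → ψ ∈ H.D.X → χ ≠ ψ := by
      rintro χ _ h1 h2 rfl
      exact Finset.disjoint_left.1 H.D.disj h1 h2
    have z1 : dg c1035 % 23 = 0 := by rw [d1]
    have z2 : dg c5796 % 23 = 0 := by rw [d2]
    have z3 : dg c1771 % 23 = 0 := by rw [d3]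
    have z4 : dg c2024 % 23 = 0 := by rw [d4]
    have hd : ∀ {χ ψ : IrrCharacter G}, dg χ ≠ dg ψ → χ ≠ ψ := fun h h' => h (by rw [h'])
    simp only [List.nodup_cons, List.mem_cons, not_or]
    refine ⟨⟨n1, (hz z2 hone).symm, (hz z3 hone).symm, (hz z4 hone).symm, (hz z1 hone).symm, n2,
      n3, hz2 hone hΘ, hz2 hone hΘ', n4⟩, ⟨(hz z2 h5544).symm, (hz z3 h5544).symm,
      (hz z4 h5544).symm, (hz z1 h5544).symm, n5, n6, hz2 h5544 hΘ, hz2 h5544 hΘ', n7⟩,
      ⟨hd (by rw [d2, d3]; decide), hd (by rw [d2, d4]; decide), hd (by rw [d2, d1]; decide),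
        hz z2 h990, hz z2 h990', hz' z2 hΘ, hz' z2 hΘ', fun h => hz z2 (hl _ h) rfl⟩,
      ⟨hd (by rw [d3, d4]; decide), hd (by rw [d3, d1]; decide),
        hz z3 h990, hz z3 h990', hz' z3 hΘ, hz' z3 hΘ', fun h => hz z3 (hl _ h) rfl⟩,
      ⟨hd (by rw [d4, d1]; decide),
        hz z4 h990, hz z4 h990', hz' z4 hΘ, hz' z4 hΘ', fun h => hz z4 (hl _ h) rfl⟩,
      ⟨hz z1 h990, hz z1 h990', hz' z1 hΘ, hz' z1 hΘ', fun h => hz z1 (hl _ h) rfl⟩,
      ⟨n8, hz2 h990 hΘ, hz2 h990 hΘ', n9⟩, ⟨hz2 h990' hΘ, hz2 h990' hΘ', n10⟩,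
      ⟨hΘΘ, fun h => hz2 (hl _ h) hΘ rfl⟩, fun h => hz2 (hl _ h) hΘ' rfl, n11⟩
  · rw [List.map_cons, List.map_cons, List.map_cons, List.map_cons, List.map_cons, hkw]
    unfold pr LastRestArith.kd
    rw [dg_one H, d5, d2, d3, d4, K.one, K.b5544, K.b5796, K.b1771, K.b2024]
    rfl
  · rintro χ (hχ | hχ)
    · rw [B.NE] at hχ
      simp only [List.mem_cons, List.mem_append, List.not_mem_nil, or_false] at hχ ⊢
      tauto
    · rw [hX, Finset.mem_insert, Finset.mem_singleton] at hχ
      simp only [List.mem_cons]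
      tauto

section

variable {kwl kdl : List (IrrCharacter G)} [DecidableEq (IrrCharacter G)]

theorem sum_map {F : ℤ × ℤ → ℤ} {L : List (IrrCharacter G)} {k : List (ℤ × ℤ)}
    (hn : L.Nodup) (hL : L.map (pr b) = k) :
    ∑ χ ∈ L.toFinset, F (pr b χ) = (k.map F).sum := by
  rw [List.sum_toFinset _ hn, ← hL, List.map_map]
  rfl

theorem Kn.ndw (N : Kn H b c5796 c1771 c2024 c5544 r kwl kdl) : kwl.Nodup := by
  have := N.nd
  rw [N.eq] at this
  simp only [List.nodup_cons] at this
  exact this.2.2.2.2.2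

theorem Kn.sub (N : Kn H b c5796 c1771 c2024 c5544 r kwl kdl) : kwl.toFinset ⊆ kdl.toFinset := by
  intro χ hχ
  rw [List.mem_toFinset, N.eq]
  rw [List.mem_toFinset] at hχ
  simp [hχ]

/-- The rest of the block. -/
noncomputable def rst (H : Hyp G) (kdl : List (IrrCharacter G)) : Finset (IrrCharacter G) :=
  B11 H \ kdl.toFinset

theorem notMem_kdl {χ : IrrCharacter G} (hχ : χ ∈ rst H kdl) : χ ∉ kdl := fun h =>
  (Finset.mem_sdiff.1 hχ).2 (List.mem_toFinset.2 h)

theorem rst_arith (N : Kn H b c5796 c1771 c2024 c5544 r kwl kdl) {χ : IrrCharacter G}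
    (hχ : χ ∈ rst H kdl) : dg χ / 23 ∈ ms ∧ 23 * (dg χ / 23) = dg χ ∧
      sg (dg χ / 23) = sd (dg χ : ℤ) ∧
        (244823040 : ℤ) / (dg χ : ℤ) = 88 * LastRestArith.wt (dg χ / 23) := by
  have h1 := notMem_kdl hχ
  exact arith_a _ (dg_mem_A H χ) (mod23_out H (fun h => h1 (N.mem χ (Or.inl h)))
    (fun h => h1 (N.mem χ (Or.inr h)))) ((mem_B11 H).1 (Finset.mem_sdiff.1 hχ).1)

theorem rst_m (N : Kn H b c5796 c1771 c2024 c5544 r kwl kdl) {χ : IrrCharacter G}
    (hχ : χ ∈ rst H kdl) : (dg χ : ℤ) = 23 * ((dg χ / 23 : ℕ) : ℤ) := by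
  have := (rst_arith N hχ).2.1
  omega

theorem rst_s (N : Kn H b c5796 c1771 c2024 c5544 r kwl kdl) {χ : IrrCharacter G}
    (hχ : χ ∈ rst H kdl) : sg (dg χ / 23) = uu χ := by
  rw [(rst_arith N hχ).2.2.1, sd_dg]

theorem disj (H : Hyp G) {a' : Finset (IrrCharacter G)} (ha' : a' ⊆ rst H kdl) :
    Disjoint a' kdl.toFinset := Finset.sdiff_disjoint.mono_left ha'

theorem sum_rst (H : Hyp G) (kdl : List (IrrCharacter G)) (F : IrrCharacter G → ℤ)
    (hF : ∀ χ, χ ∉ B11 H → F χ = 0) :
    ∑ χ ∈ B11 H, F χ = ∑ χ ∈ rst H kdl, F χ + ∑ χ ∈ kdl.toFinset, F χ := by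
  rw [← Finset.sum_union (disj H (Finset.Subset.refl _))]
  refine Finset.sum_subset (fun χ hχ => ?_) (fun χ _ hχ => hF χ hχ)
  by_cases h : χ ∈ kdl.toFinset
  · exact Finset.mem_union_right _ h
  · exact Finset.mem_union_left _ (Finset.mem_sdiff.2 ⟨hχ, h⟩)

theorem h_cu (K : Last H t b c1035 c5796 c1771 c2024 c5544 c990 c990')
    (N : Kn H b c5796 c1771 c2024 c5544 r kwl kdl) {χ : IrrCharacter G} (hχ : χ ∈ rst H kdl) :
    CU (dg χ / 23) (b χ) := by
  have hne : χ ≠ H.D.one := by
    rintro rfl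
    exact notMem_kdl hχ (N.mem _ (Or.inl H.D.one_mem))
  refine ⟨?_, ?_, ?_, ?_⟩
  · rw [← rst_m N hχ]; exact K.four hne
  · rw [(rst_arith N hχ).2.1]; exact K.dvd χ
  · intro h5
    exact K.five χ (by rw [← (rst_arith N hχ).2.1]; exact h5.mul_left 23)
  · rw [rst_s N hχ, ← rst_m N hχ]; exact K.le χ

theorem h_card (N : Kn H b c5796 c1771 c2024 c5544 r kwl kdl) :
    ((rst H kdl).card : ℤ) + ((kd r).map fun p => sd p.1 * sd p.1).sum = 11 := by
  have h1 := sum_rst H kdl (fun χ => uu χ * uu χ)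
    (fun χ hχ => by simp only [Last.uu_out H hχ, mul_zero])
  have h2 : ∑ χ ∈ B11 H, uu χ * uu χ = 11 := by
    rw [Finset.sum_congr rfl fun χ hχ => show uu χ * uu χ = 1 by
      rcases uu_mem H hχ with h | h <;> rw [h] <;> rfl, Finset.sum_const, card_B11]
    rfl
  have h3 : ∑ χ ∈ rst H kdl, uu χ * uu χ = (rst H kdl).card := by
    rw [Finset.sum_congr rfl fun χ hχ => show uu χ * uu χ = 1 by
      rcases uu_mem H (Finset.mem_sdiff.1 hχ).1 with h | h <;> rw [h] <;> rfl,
      Finset.sum_const, nsmul_one]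
  rw [← sum_map (b := b) (F := fun p => sd p.1 * sd p.1) N.nd N.kd, ← h3, ← h2, h1]
  congr 1
  exact Finset.sum_congr rfl fun χ _ => by unfold pr; rw [sd_dg]

theorem h_sS (N : Kn H b c5796 c1771 c2024 c5544 r kwl kdl) :
    ∑ χ ∈ rst H kdl, sg (dg χ / 23) * (23 * ((dg χ / 23 : ℕ) : ℤ)) +
      ((kd r).map fun p => sd p.1 * p.1).sum = 0 := by
  have h1 := sum_rst H kdl (fun χ => uu χ * (dg χ : ℤ))
    (fun χ hχ => by simp only [Last.uu_out H hχ, zero_mul])
  rw [Last.deg11 H] at h1
  rw [← sum_map (b := b) (F := fun p => sd p.1 * p.1) N.nd N.kd, h1]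
  congr 1
  · exact Finset.sum_congr rfl fun χ hχ => by rw [rst_s N hχ, ← rst_m N hχ]
  · exact Finset.sum_congr rfl fun χ _ => by unfold pr; rw [sd_dg]

theorem h_sT (K : Last H t b c1035 c5796 c1771 c2024 c5544 c990 c990')
    (N : Kn H b c5796 c1771 c2024 c5544 r kwl kdl) :
    ∑ χ ∈ rst H kdl, sg (dg χ / 23) * b χ +
      ((kd r).map fun p => sd p.1 * p.2).sum = 0 := by
  have h1 := sum_rst H kdl (fun χ => uu χ * b χ)
    (fun χ hχ => by simp only [Last.uu_out H hχ, zero_mul])
  rw [K.rel11] at h1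
  rw [← sum_map (b := b) (F := fun p => sd p.1 * p.2) N.nd N.kd, h1]
  congr 1
  · exact Finset.sum_congr rfl fun χ hχ => by rw [rst_s N hχ]
  · exact Finset.sum_congr rfl fun χ _ => by unfold pr; rw [sd_dg]

theorem h_sR (K : Last H t b c1035 c5796 c1771 c2024 c5544 c990 c990')
    (N : Kn H b c5796 c1771 c2024 c5544 r kwl kdl) :
    ∑ χ ∈ rst H kdl, sg (dg χ / 23) * (b χ ^ 2 * (88 * LastRestArith.wt (dg χ / 23))) +
      ((kd r).map fun p => sd p.1 * (p.2 ^ 2 * (244823040 / p.1))).sum = 11 * 7680 ^ 2 := by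
  have h1 := sum_rst H kdl (fun χ => uu χ * (b χ ^ 2 * (244823040 / (dg χ : ℤ))))
    (fun χ hχ => by simp only [Last.uu_out H hχ, zero_mul])
  rw [K.pair11] at h1
  rw [← sum_map (b := b) (F := fun p => sd p.1 * (p.2 ^ 2 * (244823040 / p.1))) N.nd N.kd, h1]
  congr 1
  · exact Finset.sum_congr rfl fun χ hχ => by rw [rst_s N hχ, (rst_arith N hχ).2.2.2]
  · exact Finset.sum_congr rfl fun χ _ => by unfold pr; rw [sd_dg]

theorem h_no (N : Kn H b c5796 c1771 c2024 c5544 r kwl kdl) {a' : Finset (IrrCharacter G)}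
    (ha' : a' ⊆ rst H kdl) : ∀ χ ∈ a' ∪ kwl.toFinset,
      χ ∉ [H.D.one, c5544, c5796, c1771, c2024] := by
  intro χ hχ hmem
  rcases Finset.mem_union.1 hχ with h | h
  · refine notMem_kdl (ha' h) ?_
    rw [N.eq]
    simp only [List.mem_cons, List.not_mem_nil, or_false] at hmem ⊢
    tauto
  · rw [List.mem_toFinset] at h
    have hnd := N.nd
    rw [N.eq] at hnd
    simp only [List.nodup_cons, List.mem_cons, not_or] at hnd
    simp only [List.mem_cons, List.not_mem_nil, or_false] at hmem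
    rcases hmem with rfl | rfl | rfl | rfl | rfl
    · exact hnd.1.2.2.2.2 h
    · exact hnd.2.1.2.2.2 h
    · exact hnd.2.2.1.2.2 h
    · exact hnd.2.2.2.1.2 h
    · exact hnd.2.2.2.2.1 h

theorem h_wt (K : Last H t b c1035 c5796 c1771 c2024 c5544 c990 c990')
    (N : Kn H b c5796 c1771 c2024 c5544 r kwl kdl) {a' : Finset (IrrCharacter G)}
    (ha' : a' ⊆ rst H kdl) :
    ∑ χ ∈ a', (b χ - 23 * ((dg χ / 23 : ℕ) : ℤ)) ^ 2 % 5 +
      ((kw r).map fun p => (p.2 - p.1) ^ 2 % 5).sum ≤ 5 := by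
  have hno := h_no N ha'
  have h1 := K.wt (a' ∪ kwl.toFinset) (fun h => hno _ h (by simp)) (fun h => hno _ h (by simp))
    (fun h => hno _ h (by simp)) (fun h => hno _ h (by simp)) (fun h => hno _ h (by simp))
  rw [Finset.sum_union ((disj H ha').mono_right N.sub)] at h1
  rw [← sum_map (b := b) (F := fun p => (p.2 - p.1) ^ 2 % 5) N.ndw N.kw]
  refine le_trans (le_of_eq ?_) h1
  congr 1
  exact Finset.sum_congr rfl fun χ hχ => by rw [← rst_m N (ha' hχ)]

theorem h_wt' (K : Last H t b c1035 c5796 c1771 c2024 c5544 c990 c990')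
    (N : Kn H b c5796 c1771 c2024 c5544 r kwl kdl) {a' : Finset (IrrCharacter G)}
    (ha' : a' ⊆ rst H kdl) :
    ∑ χ ∈ a', (2 * b χ - 23 * ((dg χ / 23 : ℕ) : ℤ)) ^ 2 % 5 +
      ((kw r).map fun p => (2 * p.2 - p.1) ^ 2 % 5).sum ≤ 10 := by
  have hno := h_no N ha'
  have h1 := K.wt' (a' ∪ kwl.toFinset) (fun h => hno _ h (by simp)) (fun h => hno _ h (by simp))
    (fun h => hno _ h (by simp)) (fun h => hno _ h (by simp)) (fun h => hno _ h (by simp))
  rw [Finset.sum_union ((disj H ha').mono_right N.sub)] at h1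
  rw [← sum_map (b := b) (F := fun p => (2 * p.2 - p.1) ^ 2 % 5) N.ndw N.kw]
  refine le_trans (le_of_eq ?_) h1
  congr 1
  exact Finset.sum_congr rfl fun χ hχ => by rw [← rst_m N (ha' hχ)]

theorem h_norm (K : Last H t b c1035 c5796 c1771 c2024 c5544 c990 c990')
    (N : Kn H b c5796 c1771 c2024 c5544 r kwl kdl) {a' : Finset (IrrCharacter G)}
    (ha' : a' ⊆ rst H kdl) :
    ∑ χ ∈ a', b χ ^ 2 + ((kd r).map fun p => p.2 ^ 2).sum ≤ 7680 := by
  have h1 := K.norm (a' ∪ kdl.toFinset)
  rw [Finset.sum_union (disj H ha')] at h1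
  rw [← sum_map (b := b) (F := fun p => p.2 ^ 2) N.nd N.kd]
  exact h1

theorem h_gram (K : Last H t b c1035 c5796 c1771 c2024 c5544 c990 c990')
    (N : Kn H b c5796 c1771 c2024 c5544 r kwl kdl) {a' : Finset (IrrCharacter G)}
    (ha' : a' ⊆ rst H kdl) :
    (∑ χ ∈ a', 23 * ((dg χ / 23 : ℕ) : ℤ) * b χ + ((kd r).map fun p => p.1 * p.2).sum) ^ 2 ≤
    (244823040 - (∑ χ ∈ a', (23 * ((dg χ / 23 : ℕ) : ℤ)) ^ 2 +
      ((kd r).map fun p => p.1 ^ 2).sum)) *
      (7680 - (∑ χ ∈ a', b χ ^ 2 + ((kd r).map fun p => p.2 ^ 2).sum)) := by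
  have h1 := K.gram (a' ∪ kdl.toFinset)
  rw [Finset.sum_union (disj H ha'), Finset.sum_union (disj H ha'),
    Finset.sum_union (disj H ha')] at h1
  rw [← sum_map (b := b) (F := fun p => p.1 * p.2) N.nd N.kd,
    ← sum_map (b := b) (F := fun p => p.1 ^ 2) N.nd N.kd,
    ← sum_map (b := b) (F := fun p => p.2 ^ 2) N.nd N.kd]
  have e1 : ∑ χ ∈ a', 23 * ((dg χ / 23 : ℕ) : ℤ) * b χ = ∑ χ ∈ a', (dg χ : ℤ) * b χ :=
    Finset.sum_congr rfl fun χ hχ => by rw [← rst_m N (ha' hχ)]
  have e2 : ∑ χ ∈ a', (23 * ((dg χ / 23 : ℕ) : ℤ)) ^ 2 = ∑ χ ∈ a', (dg χ : ℤ) ^ 2 :=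
    Finset.sum_congr rfl fun χ hχ => by rw [← rst_m N (ha' hχ)]
  rw [e1, e2]
  exact h1

theorem hyps (K : Last H t b c1035 c5796 c1771 c2024 c5544 c990 c990')
    (N : Kn H b c5796 c1771 c2024 c5544 r kwl kdl) :
    Hyps r (rst H kdl) (fun χ => dg χ / 23) b where
  mem := fun _ hχ => (rst_arith N hχ).1
  cu := fun _ hχ => h_cu K N hχ
  card := h_card N
  sS := h_sS N
  sT := h_sT K N
  sR := h_sR K N
  norm := fun _ ha' => h_norm K N ha'
  wt := fun _ ha' => h_wt K N ha'
  wt' := fun _ ha' => h_wt' K N ha'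
  gram := fun _ ha' => h_gram K N ha'

end

/-- **The end of the last case**. -/
theorem unique_twentythree (K : Last H t b c1035 c5796 c1771 c2024 c5544 c990 c990')
    (B : Block H b c5544 c990 c990' l r) :
    (∃ χ : IrrCharacter G, dg χ = 23 ∧ ∀ ψ : IrrCharacter G, dg ψ = 23 → ψ = χ) ∧
    ∀ ψ : IrrCharacter G, dg ψ ≠ 11 ∧ dg ψ ≠ 12 ∧ dg ψ ≠ 22 ∧ dg ψ ≠ 230 ∧ dg ψ ≠ 264 := by
  classical
  obtain ⟨kwl, kdl, N⟩ := exists_kn K B
  obtain ⟨hr2, hmult⟩ := main B.mem (hyps K N)
  have hno := arith_kd r B.mem hr2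
  have hKDno : ∀ χ ∈ kdl, (dg χ : ℤ) ≠ 11 ∧ (dg χ : ℤ) ≠ 12 ∧ (dg χ : ℤ) ≠ 22 ∧
      (dg χ : ℤ) ≠ 23 ∧ (dg χ : ℤ) ≠ 230 ∧ (dg χ : ℤ) ≠ 264 := by
    intro χ hχ
    have h1 : pr b χ ∈ kd r := by
      rw [← N.kd]
      exact List.mem_map.2 ⟨χ, hχ, rfl⟩
    exact hno _ h1
  have hmemm : ∀ χ ∈ rst H kdl, dg χ / 23 = 21 ∨ dg χ / 23 = 144 ∨ dg χ / 23 = 45 ∨
      dg χ / 23 = 1 := by
    intro χ hχ
    have h1 : dg χ / 23 ∈ (rst H kdl).val.map (fun χ => dg χ / 23) :=
      Multiset.mem_map_of_mem _ hχ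
    rw [hmult, Multiset.mem_coe] at h1
    simp only [List.mem_cons, List.not_mem_nil, or_false] at h1
    tauto
  have hcount : ((rst H kdl).filter fun χ => 1 = dg χ / 23).card = 1 := by
    have h1 : Multiset.count 1 ((rst H kdl).val.map fun χ => dg χ / 23) = 1 := by
      rw [hmult]; decide
    rw [Multiset.count_map] at h1
    exact h1
  obtain ⟨χ₀, hχ₀⟩ := Finset.card_eq_one.1 hcount
  have h23 : ∀ ψ : IrrCharacter G, dg ψ = 23 → ψ ∈ (rst H kdl).filter fun χ => 1 = dg χ / 23 := by
    intro ψ hψ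
    refine Finset.mem_filter.2 ⟨Finset.mem_sdiff.2 ⟨(mem_B11 H).2 (by omega), fun h => ?_⟩,
      by rw [hψ]⟩
    have := (hKDno ψ (List.mem_toFinset.1 h)).2.2.2.1
    omega
  refine ⟨⟨χ₀, ?_, fun ψ hψ => ?_⟩, fun ψ => ?_⟩
  · have h1 : χ₀ ∈ (rst H kdl).filter fun χ => 1 = dg χ / 23 := by
      rw [hχ₀]; exact Finset.mem_singleton_self _
    obtain ⟨h2, h3⟩ := Finset.mem_filter.1 h1
    have h4 := (rst_arith N h2).2.1
    omega
  · have h1 := h23 ψ hψ
    rw [hχ₀] at h1
    exact Finset.mem_singleton.1 h1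
  · have hk := hKDno ψ
    have hX' := fun h => hk (N.mem ψ (Or.inr (mem_X23 H h)))
    have hN' := fun h => hk (N.mem ψ (Or.inl (mem_NE23 H h)))
    refine ⟨fun h => ?_, fun h => ?_, fun h => ?_, fun h => ?_, fun h => ?_⟩
    · have := (hX' (by omega)).1; omega
    · have := (hX' (by omega)).2.1; omega
    · have := (hN' (by omega)).2.2.1; omega
    · by_cases h1 : ψ ∈ kdl
      · have := (hk h1).2.2.2.2.1; omega
      · have := hmemm ψ (Finset.mem_sdiff.2 ⟨(mem_B11 H).2 (by omega), fun h =>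
          h1 (List.mem_toFinset.1 h)⟩)
        omega
    · have := (hX' (by omega)).2.2.2.2.2; omega

end Cfsg.Agent.M24Order.LastRest
end

-- part: SporadicA/NortonCor
section
set_option autoImplicit false

open scoped ComplexConjugate
open Cfsg

namespace Cfsg.Agent.SporadicA.NortonCor

universe u

variable {G : Type u} [Group G] [Fintype G]

/-- Sum over the normaliser of a Sylow subgroup of order `p` of a function which is constant on the
nonidentity elements of `P` and on the elements outside `P`. -/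
theorem sum_normalizer {p e : ℕ} (P N : Subgroup G) [Fintype N] (hP : Nat.card P = p)
    (hN : Nat.card N = p * e) (hPN : P ≤ N)
    (f : G → ℂ) (a b c : ℂ) (ha : f 1 = a) (hb : ∀ x ∈ P, x ≠ 1 → f x = b)
    (hc : ∀ y ∈ N, y ∉ P → f y = c) :
    ∑ m : N, f m = a + (p - 1) * b + (p * e - p) * c := by
  classical
  have key : ∀ m : N, f m = c + ((if (m : G) ∈ P then b - c else 0) + (if m = 1 then a - b else 0)) := by
    intro m
    by_cases h1 : m = 1
    · subst h1
      have : ((1 : N) : G) ∈ P := by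
        rw [Subgroup.coe_one]; exact Subgroup.one_mem _
      rw [if_pos this, if_pos rfl, Subgroup.coe_one, ha]
      ring
    · rw [if_neg h1]
      by_cases h2 : (m : G) ∈ P
      · rw [if_pos h2, hb m h2 (fun h => h1 (Subtype.ext h))]
        ring
      · rw [if_neg h2, hc m m.2 h2]
        ring
  have c1 : (Finset.univ.filter (fun m : N => (m : G) ∈ P)).card = p := by
    have : (Finset.univ.filter (fun m : N => (m : G) ∈ P)).card = Fintype.card P := by
      refine Finset.card_bij' (fun m hm => (⟨(m : G), (Finset.mem_filter.mp hm).2⟩ : P))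
        (fun x _ => ⟨(x : G), hPN x.2⟩) ?_ ?_ ?_ ?_
      · intro m hm; exact Finset.mem_univ _
      · intro x _; exact Finset.mem_filter.mpr ⟨Finset.mem_univ _, x.2⟩
      · intro m hm; rfl
      · intro x _; rfl
    rw [this, ← Nat.card_eq_fintype_card, hP]
  have c2 : (Finset.univ.filter (fun m : N => m = 1)).card = 1 := by
    rw [Finset.filter_eq' Finset.univ (1 : N), if_pos (Finset.mem_univ _), Finset.card_singleton]
  have c3 : (Finset.univ : Finset N).card = p * e := by
    rw [Finset.card_univ, ← Nat.card_eq_fintype_card, hN]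
  rw [Finset.sum_congr rfl (fun m _ => key m)]
  rw [Finset.sum_add_distrib, Finset.sum_add_distrib, Finset.sum_const, c3, ← Finset.sum_filter, Finset.sum_const,
    ← Finset.sum_filter, Finset.sum_const, c1, c2]
  simp only [nsmul_eq_mul, Nat.cast_mul, one_smul]
  ring

/-- **Norton trick**, Sylow version. -/
theorem exists_index_of_normalizer {p e : ℕ} [Fact p.Prime] (hpe : p = 2 * e + 1) (he : Odd e) (hp4 : 4 ≤ p)
    (P : Sylow p G) (hP : Nat.card P = p)
    (hN : Nat.card (Subgroup.normalizer ((P : Subgroup G) : Set G)) = p * e)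
    (S : Set (G → ℂ)) (hne : S.Nonempty) (hirr : ∀ χ ∈ S, IsIrrCharacter G χ)
    (hreal : ∀ χ ∈ S, ∀ g, conj (χ g) = χ g) (hdeg : ∀ χ ∈ S, χ 1 = p)
    (h0 : ∀ χ ∈ S, ∀ x ∈ (P : Subgroup G), x ≠ 1 → χ x = 0)
    (h1 : ∀ χ ∈ S, ∀ y ∈ Subgroup.normalizer ((P : Subgroup G) : Set G), y ∉ (P : Subgroup G) → χ y = 1)
    (hS : ∀ χ ∈ S, ∃ ψ ∈ S, ∑ g : G, (χ g ^ 2 + χ (g * g)) * ψ g ≠ 0) :
    ∃ H : Subgroup G, Subgroup.normalizer ((P : Subgroup G) : Set G) ≤ H ∧ H.index = p + 1 := by
  classical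
  have hp : p.Prime := Fact.out
  set N := Subgroup.normalizer ((P : Subgroup G) : Set G) with hNdef
  have : Fintype N := Fintype.ofFinite N
  have hPN : (P : Subgroup G) ≤ N := Subgroup.le_normalizer
  have hp' : (p : ℂ) = 2 * e + 1 := by exact_mod_cast hpe
  -- squares
  have hsqP : ∀ x ∈ (P : Subgroup G), x ≠ 1 → x * x ≠ 1 := by
    intro x hx hx1 hxx
    have ho : orderOf x ∣ 2 := orderOf_dvd_of_pow_eq_one (by rw [sq]; exact hxx)
    have ho2 : orderOf x ∣ p := by
      rw [← hP, ← Subgroup.orderOf_mk x hx]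
      exact orderOf_dvd_natCard _
    have hodd : Nat.Coprime 2 p := by
      rw [Nat.coprime_primes Nat.prime_two hp]; omega
    have : orderOf x ∣ 1 := by
      rw [← Nat.Coprime.gcd_eq_one hodd]; exact Nat.dvd_gcd ho ho2
    exact hx1 (orderOf_eq_one_iff.mp (Nat.dvd_one.mp this))
  have hsqN : ∀ y ∈ N, y ∉ (P : Subgroup G) → y * y ∉ (P : Subgroup G) := by
    intro y hy hyP hyy
    -- y has odd order
    have hodd : Odd (orderOf y) := by
      have h3 : orderOf y ∣ p * e := by
        rw [← hN, ← Subgroup.orderOf_mk y hy]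
        exact orderOf_dvd_natCard _
      have h4 : Odd (p * e) := by
        apply Odd.mul _ he
        rw [hpe]; exact ⟨e, rfl⟩
      exact h4.of_dvd_nat h3
    obtain ⟨k, hk⟩ := hodd
    apply hyP
    have : y = (y * y) ^ (k + 1) := by
      rw [← sq, ← pow_mul, show 2 * (k + 1) = orderOf y + 1 by omega, pow_succ, pow_orderOf_eq_one, one_mul]
    rw [this]
    exact Subgroup.pow_mem _ hyy _
  refine NortonTrick.exists_subgroup_index N p hp4 S hne hirr hreal hdeg ?_ ?_ hS
  · intro χ hχ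
    rw [sum_normalizer (P : Subgroup G) N hP hN hPN χ p 0 1 (hdeg χ hχ) (h0 χ hχ) (h1 χ hχ), hN]
    push_cast
    ring
  · intro χ hχ
    rw [sum_normalizer (P : Subgroup G) N hP hN hPN (fun g => χ g ^ 2 + χ (g * g)) (p ^ 2 + p) 0 2 ?_ ?_ ?_, hN]
    · push_cast
      rw [hp']
      ring
    · simp [hdeg χ hχ]
    · intro x hx hx1
      rw [h0 χ hχ x hx hx1, h0 χ hχ (x * x) (Subgroup.mul_mem _ hx hx) (hsqP x hx hx1)]
      ring
    · intro y hy hyP
      rw [h1 χ hχ y hy hyP, h1 χ hχ (y * y) (Subgroup.mul_mem _ hy hy) (hsqN y hy hyP)]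
      norm_num

end Cfsg.Agent.SporadicA.NortonCor
end

-- part: MTwelve/IndexTwentyFour
section
set_option autoImplicit false

open scoped ComplexConjugate
open Cfsg Subgroup

namespace Cfsg.Agent.MTwelve.IndexTwentyFour

open Characters.Core MTwelve.SymSquare

universe u

variable {G : Type u} [Group G] [Fintype G]

/-- The character of degree `23` is real. -/
theorem real_of_unique {χ : G → ℂ} (hχ : IsIrrCharacter G χ) (hdeg : χ 1 = 23)
    (huniq : ∀ ψ : G → ℂ, IsIrrCharacter G ψ → ψ 1 = 23 → ψ = χ) (g : G) : conj (χ g) = χ g := by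
  have h := huniq _ (isIrr_conj hχ) (by
    show conj (χ 1) = 23
    rw [hdeg]
    exact map_ofNat (starRingEnd ℂ) 23)
  exact congrFun h g

/-- The symmetric square of the character of degree `23` contains it. -/
theorem symSq_ne_zero {χ : G → ℂ} (hχ : IsIrrCharacter G χ) (hdeg : χ 1 = 23)
    (huniq : ∀ ψ : G → ℂ, IsIrrCharacter G ψ → ψ 1 = 23 → ψ = χ)
    (hdegs : ∀ ψ : G → ℂ, IsIrrCharacter G ψ → ψ = 1 ∨ charDegree ψ = 23 ∨ charDegree ψ = 45 ∨
      charDegree ψ = 231 ∨ charDegree ψ = 252 ∨ charDegree ψ = 253 ∨ 275 < charDegree ψ) :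
    ∑ g, (χ g ^ 2 + χ (g * g)) * χ g ≠ 0 := by
  classical
  have hreal := real_of_unique hχ hdeg huniq
  have := finite_irr (G := G)
  have := Fintype.ofFinite (IrrCharacter G)
  have hGne : (Nat.card G : ℂ) ≠ 0 := card_ne_zero_complex
  have hsym := isCharacter_symSq (isIrr_isCharacter hχ)
  obtain ⟨m, hm⟩ := exists_nat_comb hsym
  have hmψ : ∀ ψ : IrrCharacter G, ∑ g : G, (χ g ^ 2 + χ (g * g)) * conj ((ψ : G → ℂ) g) =
      2 * Nat.card G * m ψ := by
    intro ψ
    rw [sum_symSq_mul, hm, classInner_sum_nsmul_irr]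
  have hmv : ∀ g : G, (χ g ^ 2 + χ (g * g)) / 2 = ∑ ψ : IrrCharacter G, (m ψ : ℂ) * (ψ : G → ℂ) g := by
    intro g
    have := congrFun hm g
    simp only [Finset.sum_apply, nsmul_eq_mul] at this
    exact this
  have hdegsum : ∑ ψ : IrrCharacter G, m ψ * charDegree (ψ : G → ℂ) = 276 := by
    have h := hmv 1
    rw [mul_one, hdeg] at h
    have h1 : ((∑ ψ : IrrCharacter G, m ψ * charDegree (ψ : G → ℂ) : ℕ) : ℂ) = ((276 : ℕ) : ℂ) := by
      push_cast
      have h2 : ∀ ψ : IrrCharacter G, (m ψ : ℂ) * (charDegree (ψ : G → ℂ) : ℂ) =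
          (m ψ : ℂ) * (ψ : G → ℂ) 1 := fun ψ => by rw [apply_one_eq ψ.2]
      rw [Finset.sum_congr rfl fun ψ _ => h2 ψ, ← h]
      norm_num
    exact_mod_cast h1
  let one : IrrCharacter G := ⟨1, isIrr_one⟩
  have hone_deg : charDegree (one : G → ℂ) = 1 := by
    have h := apply_one_eq one.2
    simp only [one, Pi.one_apply] at h
    exact_mod_cast h.symm
  have hm1 : m one = 1 := by
    have h := hmψ one
    simp only [one, Pi.one_apply, map_one, mul_one, Finset.sum_add_distrib] at h
    rw [sum_sq_eq_card hχ hreal 23 (by rw [hdeg]; norm_num) (by decide)] at h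
    have h2 : ∑ g : G, χ g ^ 2 = Nat.card G := by
      have h3 := classInner_irr_self hχ
      rw [classInner_def] at h3
      field_simp at h3
      rw [← h3]
      refine Finset.sum_congr rfl fun g _ => ?_
      rw [hreal, sq]
    rw [h2] at h
    have h3 : (Nat.card G : ℂ) * (1 - (m one : ℂ)) = 0 := by
      linear_combination (1/2 : ℂ) * h
    rcases mul_eq_zero.1 h3 with h4 | h4
    · exact absurd h4 hGne
    · have h5 : (m one : ℂ) = ((1 : ℕ) : ℂ) := by
        push_cast
        exact (sub_eq_zero.1 h4).symm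
      exact_mod_cast h5
  -- sum over the nontrivial characters
  have hrest : ∑ ψ ∈ Finset.univ.erase one, m ψ * charDegree (ψ : G → ℂ) = 275 := by
    have h := Finset.add_sum_erase Finset.univ (fun ψ : IrrCharacter G => m ψ * charDegree (ψ : G → ℂ))
      (Finset.mem_univ one)
    rw [hdegsum, hm1, hone_deg] at h
    omega
  intro h0
  set c : IrrCharacter G := ⟨χ, hχ⟩ with hc
  have hmc : m c = 0 := by
    have h := hmψ c
    rw [Finset.sum_congr rfl (g := fun g => (χ g ^ 2 + χ (g * g)) * χ g)] at h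
    · rw [h0] at h
      have h1 : (2 * (Nat.card G : ℂ)) ≠ 0 := mul_ne_zero two_ne_zero hGne
      rcases mul_eq_zero.1 h.symm with h2 | h2
      · exact absurd h2 h1
      · exact_mod_cast h2
    · intro g _
      rw [hreal]
  have hpt : ∀ ψ ∈ Finset.univ.erase one, m ψ * charDegree (ψ : G → ℂ) =
      45 * (if charDegree (ψ : G → ℂ) = 45 then m ψ else 0) +
      231 * (if charDegree (ψ : G → ℂ) = 231 then m ψ else 0) +
      252 * (if charDegree (ψ : G → ℂ) = 252 then m ψ else 0) +
      253 * (if charDegree (ψ : G → ℂ) = 253 then m ψ else 0) := by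
    intro ψ hψ
    have hψ1 : (ψ : G → ℂ) ≠ 1 := fun h => (Finset.mem_erase.1 hψ).1 (Subtype.ext h)
    rcases hdegs _ ψ.2 with h | h | h | h | h | h | h
    · exact absurd h hψ1
    · have h1 : ψ = c := by
        apply Subtype.ext
        refine huniq _ ψ.2 ?_
        rw [apply_one_eq ψ.2, h]
        norm_num
      rw [h1, hmc]
      simp
    · rw [h]; simp [mul_comm]
    · rw [h]; simp [mul_comm]
    · rw [h]; simp [mul_comm]
    · rw [h]; simp [mul_comm]
    · have h1 : m ψ = 0 := by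
        by_contra h2
        have h3 : m ψ * charDegree (ψ : G → ℂ) ≤ 275 := by
          rw [← hrest]
          exact Finset.single_le_sum (f := fun ψ : IrrCharacter G => m ψ * charDegree (ψ : G → ℂ))
            (fun _ _ => Nat.zero_le _) hψ
        have h4 : 1 ≤ m ψ := Nat.one_le_iff_ne_zero.2 h2
        nlinarith
      simp [h1]
  rw [Finset.sum_congr rfl hpt, Finset.sum_add_distrib, Finset.sum_add_distrib,
    Finset.sum_add_distrib, ← Finset.mul_sum, ← Finset.mul_sum, ← Finset.mul_sum,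
    ← Finset.mul_sum] at hrest
  omega

/-- **The subgroup of index `24`.** -/
theorem exists_index_twentyfour (P : Sylow 23 G) (hP : Nat.card P = 23)
    (hN : Nat.card (normalizer ((P : Subgroup G) : Set G)) = 253)
    {χ : G → ℂ} (hχ : IsIrrCharacter G χ) (hdeg : χ 1 = 23)
    (huniq : ∀ ψ : G → ℂ, IsIrrCharacter G ψ → ψ 1 = 23 → ψ = χ)
    (hdegs : ∀ ψ : G → ℂ, IsIrrCharacter G ψ → ψ = 1 ∨ charDegree ψ = 23 ∨ charDegree ψ = 45 ∨
      charDegree ψ = 231 ∨ charDegree ψ = 252 ∨ charDegree ψ = 253 ∨ 275 < charDegree ψ)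
    (h0 : ∀ x ∈ (P : Subgroup G), x ≠ 1 → χ x = 0)
    (h1 : ∀ y ∈ normalizer ((P : Subgroup G) : Set G), y ∉ (P : Subgroup G) → χ y = 1) :
    ∃ H : Subgroup G, normalizer ((P : Subgroup G) : Set G) ≤ H ∧ H.index = 24 := by
  have : Fact (Nat.Prime 23) := ⟨by norm_num⟩
  refine SporadicA.NortonCor.exists_index_of_normalizer (p := 23) (e := 11) (by norm_num) (by decide)
    (by norm_num) P hP (by rw [hN]) {χ} (Set.singleton_nonempty χ) ?_ ?_ ?_ ?_ ?_ ?_
  · rintro ψ rfl; exact hχ
  · rintro ψ rfl; exact real_of_unique hχ hdeg huniq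
  · rintro ψ rfl; rw [hdeg]; norm_num
  · rintro ψ rfl; exact h0
  · rintro ψ rfl; exact h1
  · rintro ψ rfl
    exact ⟨ψ, rfl, symSq_ne_zero hχ hdeg huniq hdegs⟩

end Cfsg.Agent.MTwelve.IndexTwentyFour
end

-- part: M24Order/Final
section
/-!
# The end of the identification of groups of order 244823040

`exists_hyp` : the hypotheses `Setup.Hyp` hold for every simple group of order 244823040.
`mulEquiv_of_degree` : if there is exactly one irreducible character of degree 23 and none of degree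
12, 22, 230, 264, the group is `M₂₄`.
-/

set_option autoImplicit false

open Cfsg Subgroup
open Cfsg.Agent.Characters.Core
open Cfsg.Agent.SmallSimple
open Cfsg.Agent.M23Order.Base
open Cfsg.Agent.M24Order.Setup

namespace Cfsg.Agent.M24Order.Final

universe u

theorem arith_degs : ∀ d ∈ A, d = 1 ∨ d = 11 ∨ d = 12 ∨ d = 22 ∨ d = 230 ∨ d = 264 ∨ d = 23 ∨
    d = 45 ∨ d = 231 ∨ d = 252 ∨ d = 253 ∨ 275 < d := by decide

variable {G : Type u} [Group G] [Finite G] [hs : IsSimpleGroup G]

theorem exists_hyp (hcard : Nat.card G = 244823040) : Nonempty (Hyp G) := by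
  have : Fact (Nat.Prime 23) := ⟨by norm_num⟩
  have : Fact (Nat.Prime 11) := ⟨by norm_num⟩
  obtain ⟨P⟩ : Nonempty (Sylow 23 G) := inferInstance
  obtain ⟨Q⟩ : Nonempty (Sylow 11 G) := inferInstance
  have hP : Nat.card P = 23 := by
    refine Simple168Max.card_sylow_eq_prime P ?_ ?_ <;> rw [hcard] <;> norm_num
  have hQ : Nat.card Q = 11 := by
    refine Simple168Max.card_sylow_eq_prime Q ?_ ?_ <;> rw [hcard] <;> norm_num
  have hCP := SporadicA.M24.Sylow23.centralizer_eq hcard P
  have heP := SporadicA.M24.Sylow23.relIndex_eq hcard P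
  have hCQ := SporadicA.M24.Sylow11.centralizer_eq hcard Q
  have heQ := SporadicA.M24.Sylow11.relIndex_eq hcard Q
  obtain ⟨D⟩ := exists_sc 23 (by norm_num) P hP hCP 11 2 heP (by norm_num)
  obtain ⟨E⟩ := exists_sc 11 (by norm_num) Q hQ hCQ 10 1 heQ (by norm_num)
  exact ⟨⟨hcard, MTwelve.SmallDegree.commutator_eq_top_of_card (by rw [hcard]; norm_num),
    P, hP, hCP, heP, Q, hQ, hCQ, heQ, D, E⟩⟩

variable (H : Hyp G)

include H

/-- Elements of `N(P)` outside `P` have order 11. -/
theorem orderOf_eq {y : G} (hy : y ∈ normalizer ((H.P : Subgroup G) : Set G))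
    (hyP : y ∉ (H.P : Subgroup G)) : orderOf y = 11 := by
  have h23 : Fact (Nat.Prime 23) := ⟨by norm_num⟩
  have hP : Nat.card (H.P : Subgroup G) = 23 := H.hP
  have hN : Nat.card (normalizer ((H.P : Subgroup G) : Set G)) = 253 :=
    SporadicA.M24.Sylow23.card_normalizer H.hcard H.P
  have h1 : orderOf y ∣ 253 := by
    rw [← hN]
    exact Subgroup.orderOf_dvd_natCard _ hy
  have h2 : ¬ 23 ∣ orderOf y := by
    intro h
    have hu : orderOf (y ^ (orderOf y / 23)) = 23 := by
      have h0 : 0 < orderOf y := orderOf_pos y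
      have h3 : orderOf y / 23 ≠ 0 := by
        have := Nat.div_pos (Nat.le_of_dvd h0 h) (by norm_num)
        omega
      rw [orderOf_pow_of_dvd h3 (Nat.div_dvd_of_dvd h), Nat.div_div_self h h0.ne']
    set u := y ^ (orderOf y / 23) with hudef
    have huN : u ∈ normalizer ((H.P : Subgroup G) : Set G) := Subgroup.pow_mem _ hy _
    have hZ : IsPGroup 23 (zpowers u) := IsPGroup.of_card (n := 1) (by
      rw [Nat.card_zpowers, hu, pow_one])
    have hsup : IsPGroup 23 ((zpowers u ⊔ (H.P : Subgroup G) : Subgroup G)) :=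
      hZ.to_sup_of_normal_right' H.P.isPGroup' (by rwa [zpowers_le])
    have heq := H.P.is_maximal' hsup le_sup_right
    have huP : u ∈ (H.P : Subgroup G) := by
      rw [← heq]
      exact (le_sup_left : zpowers u ≤ _) (mem_zpowers u)
    have hu1 : u ≠ 1 := by
      intro h'
      rw [h', orderOf_one] at hu
      norm_num at hu
    have hC : centralizer ({u} : Set G) = centralizer ((H.P : Subgroup G) : Set G) :=
      BlockIndex.centralizer_eq (P := (H.P : Subgroup G)) hP huP hu1
    have h4 : y ∈ centralizer ({u} : Set G) := by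
      rw [mem_centralizer_singleton_iff, hudef, ← pow_succ, ← pow_succ']
    rw [hC] at h4
    have h5 : centralizer ((H.P : Subgroup G) : Set G) = (H.P : Subgroup G) := H.hCP
    rw [h5] at h4
    exact hyP h4
  have h3 : orderOf y ∣ 11 := by
    have h4 : Nat.Coprime (orderOf y) 23 :=
      ((Nat.Prime.coprime_iff_not_dvd (by norm_num)).2 h2).symm
    exact h4.dvd_of_dvd_mul_left (by rw [show 23 * 11 = 253 by norm_num]; exact h1)
  rcases (Nat.dvd_prime (by norm_num)).1 h3 with h | h
  · exact absurd (orderOf_eq_one_iff.1 h ▸ Subgroup.one_mem _) hyP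
  · exact h

/-- **The end.** -/
theorem mulEquiv_of_degree {χ : IrrCharacter G} (hχ : dg χ = 23)
    (huniq : ∀ ψ : IrrCharacter G, dg ψ = 23 → ψ = χ)
    (hno : ∀ ψ : IrrCharacter G, dg ψ ≠ 12 ∧ dg ψ ≠ 22 ∧ dg ψ ≠ 230 ∧ dg ψ ≠ 264) :
    Nonempty (G ≃* Cfsg.M24) := by
  have h11 : Fact (Nat.Prime 11) := ⟨by norm_num⟩
  have := Fintype.ofFinite G
  have hdg : ∀ {ψ : G → ℂ} (hψ : IsIrrCharacter G ψ), dg ⟨ψ, hψ⟩ = charDegree ψ := fun _ => rfl
  obtain ⟨K, -, hK⟩ := MTwelve.IndexTwentyFour.exists_index_twentyfour H.P H.hP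
    (SporadicA.M24.Sylow23.card_normalizer H.hcard H.P) χ.2 (by rw [dg_eq, hχ]; norm_num)
    (fun ψ hψ h => congrArg Subtype.val (huniq ⟨ψ, hψ⟩ (dg_of_eq (by exact_mod_cast h))))
    (fun ψ hψ => by
      have h1 := arith_degs _ (dg_mem_A H ⟨ψ, hψ⟩)
      have h2 := hno ⟨ψ, hψ⟩
      have h3 := dg_ne_eleven H ⟨ψ, hψ⟩
      by_cases h4 : dg ⟨ψ, hψ⟩ = 1
      · left
        have h5 := eq_one_of_dg H h4
        rw [← H.D.coe_one, ← h5]
      · right
        rw [hdg hψ] at h1 h2 h3 h4
        omega)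
    (fun x hx hx1 => by
      refine H.D.out χ (fun h => ?_) (fun h => ?_) x hx hx1
      · rcases mod23_NE H h with h' | h' <;> rw [hχ] at h' <;> omega
      · rcases mod23_X H h with h' | h' <;> rw [hχ] at h' <;> omega)
    (fun y hy hyP => by
      obtain ⟨c, hc⟩ := InvolFour.exists_conj_mem_sylow H.Q (orderOf_eq H hy hyP)
      have hc1 : c * y * c⁻¹ ≠ 1 := by
        intro h
        apply hyP
        have : y = 1 := by
          have h2 : y = c⁻¹ * (c * y * c⁻¹) * c := by group
          rw [h2, h, mul_one, inv_mul_cancel]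
        rw [this]
        exact Subgroup.one_mem _
      have h1 := val_u H χ hc hc1
      rw [Blocks.Basic.irr_conj χ.2, uu_of_one (by rw [hχ])] at h1
      rw [h1]; norm_num)
  exact SporadicA.M24OfIndex.mulEquiv_of_index hs H.hcard K hK

end Cfsg.Agent.M24Order.Final
end

-- part: M24Order/LastEnd
section
/-!
# The end of the last case

A simple group of order 244823040 with the column `Last` and a principal 23-block `Block` is `M₂₄`.
-/

set_option autoImplicit false

open Cfsg Subgroup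
open Cfsg.Agent.Characters.Core
open Cfsg.Agent.M24Order.Setup
open Cfsg.Agent.M24Order.Last

namespace Cfsg.Agent.M24Order.LastEnd

universe u

variable {G : Type u} [Group G] [Finite G] [IsSimpleGroup G] {H : Hyp G} {t : G}
  {b : IrrCharacter G → ℤ} {c1035 c5796 c1771 c2024 c5544 c990 c990' : IrrCharacter G}

/-- `Last` and `Block` identify `M₂₄`. -/
theorem mulEquiv_of_block (K : Last H t b c1035 c5796 c1771 c2024 c5544 c990 c990')
    {l : List (IrrCharacter G)} {r : List (ℤ × ℤ) × ℤ × ℤ}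
    (B : Block H b c5544 c990 c990' l r) : Nonempty (G ≃* Cfsg.M24) := by
  obtain ⟨⟨χ, hχ, huniq⟩, hno⟩ := LastRest.unique_twentythree K B
  exact Final.mulEquiv_of_degree H hχ huniq fun ψ =>
    ⟨(hno ψ).2.1, (hno ψ).2.2.1, (hno ψ).2.2.2.1, (hno ψ).2.2.2.2⟩

/-- The same with the output of the search for the principal 23-block. -/
theorem mulEquiv_of_exists (K : Last H t b c1035 c5796 c1771 c2024 c5544 c990 c990')
    (h : ∃ (l : List (IrrCharacter G)) (r : List (ℤ × ℤ) × ℤ × ℤ),
      Block H b c5544 c990 c990' l r) : Nonempty (G ≃* Cfsg.M24) := by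
  obtain ⟨l, r, B⟩ := h
  exact mulEquiv_of_block K B

end Cfsg.Agent.M24Order.LastEnd
end
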