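import Cfsg.Agent.SmallSimple.DegreeSearch
import Cfsg.Agent.SporadicA.M24.Seven
import Cfsg.Agent.Characters.ClassMul
import Cfsg.Agent.S0876
import Cfsg.Agent.SmallSimple.PrimeFusion
import Cfsg.Agent.SmallSimple.ThetaValue
import Cfsg.Agent.SporadicA.M24.Gram_mg
import Cfsg.Agent.SporadicA.M24.YStar_mg
import Cfsg.Agent.SporadicA.M24.KillThree
set_option linter.all false

-- part: SporadicA/M24/YSearch
section
/-!
# Arithmetic of the principal 23-block, if the principal 7-block has a character of degree 3520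

A character of the principal 23-block is encoded by `z = 100 * s + v`, where `s` is the signed
degree and `v` the value at the elements of order 7.
-/

set_option autoImplicit false

namespace Cfsg.Agent.SporadicA.M24.YSearch

open Cfsg.Agent.SmallSimple.DegreeSearch

/-- signed degree -/
def sd (z : ℤ) : ℤ := (z + 50) / 100

/-- value at the elements of order 7 -/
def vl (z : ℤ) : ℤ := (z + 50) % 100 - 50

/-- sign -/
def sg (z : ℤ) : ℤ := if z < 0 then -1 else 1

/-- signed value -/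
def wt (z : ℤ) : ℤ := sg z * vl z

/-- `2661120` divided by the degree -/
def iv (z : ℤ) : ℤ := 2661120 / ((sd z).natAbs : ℤ)

/-- the term of the class multiplication constant -/
def qd (z : ℤ) : ℤ := sg z * (vl z * vl z) * iv z

/-- the possible nonexceptional characters -/
def C : List ℤ := [-1267198, -1039500, -383996, -154000, -52804, -52797, -25200, -4504, -4497,
  -2199, 23100, 98996, 99003, 351999, 352006, 554400]

/-- the possible exceptional characters -/
def X : List ℤ := [-633606, -633599, -302400, -77000, -54006, -26402, 1198, 49498, 175996, 176003,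
  277200, 985600, 1187994]

/-- the solutions -/
def sols : List (ℤ × List ℤ) := [
  (-633599, [-383996, -383996, -52804, -25200, 23100, 98996, 99003, 352006]),
  (-633599, [-383996, -154000, -154000, -154000, 23100, 98996, 99003, 352006]),
  (-633599, [-383996, -154000, -154000, -52804, -2199, 23100, 98996, 352006]),
  (-633599, [-383996, -154000, -154000, 23100, 98996, 99003, 99003, 99003]),
  (-633599, [-383996, -154000, -52804, -2199, 23100, 98996, 99003, 99003]),
  (-633599, [-383996, -52804, -52804, -2199, -2199, 23100, 98996, 99003]),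
  (-633599, [-154000, -154000, -52804, -52804, -52797, -4504, 98996, 98996]),
  (-633599, [-154000, -154000, -52804, -52804, -52797, -4497, 98996, 99003]),
  (-633599, [-154000, -154000, -52804, -52804, -4497, 23100, 23100, 98996]),
  (-633599, [-154000, -52804, -52804, -52804, -52797, -4497, -2199, 98996]),
  (-633599, [-154000, -52797, -52797, -25200, -4504, -4504, -2199, 23100]),
  (-633599, [-154000, -52797, -25200, -25200, -4504, -4504, -4497, -2199]),
  (176003, [-1039500, -383996, -154000, -154000, -52797, -2199, 351999, 352006]),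
  (176003, [-1039500, -383996, -154000, -52797, -2199, 99003, 99003, 351999]),
  (176003, [-1039500, -383996, -154000, -2199, 23100, 23100, 99003, 351999]),
  (176003, [-1039500, -383996, -52804, -52797, -2199, -2199, 99003, 351999]),
  (176003, [-1039500, -383996, -52804, -2199, -2199, 23100, 23100, 351999]),
  (176003, [-1039500, -154000, -154000, -52804, -52797, -4497, 23100, 351999]),
  (176003, [-1039500, -154000, -154000, -52804, -25200, -4497, -4497, 351999])]

/-- bound for the sum of squares -/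
def BD : ℕ := 160870070

/-- encoding -/
def enc (z : ℤ) : ℕ := (4 * ((sd z + 12672) / 23) + (wt z + 6)).toNat

/-- target of the search -/
def target (x : ℤ) : ℕ := ((4 * (-9065 - sd x + 101376) + 23 * (48 - wt x)) / 23).toNat

/-- the test at the leaves -/
def test (x : ℤ) (l : List ℤ) : Bool :=
  !((l.map sd).sum == -9065 - sd x) || !((l.map wt).sum == -wt x) ||
    !((2661120 + 756 + (l.map qd).sum + qd x) % 7056 == 0) || sols.contains (x, l)

/-- data for the engine -/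
def trip (z : ℤ) : ℤ × ℕ × ℕ := (z, enc z, (sd z).natAbs ^ 2)

/-- the search for one exceptional character -/
def chk (x : ℤ) : Bool :=
  Nat.blt (target x) 25600 && dfs (2 ^ 25600) (BD - 2 * (sd x).natAbs ^ 2)
    (fun l => test x l.reverse) (C.map trip) 8 (target x) 0 []

theorem search : X.all chk = true := by decide +kernel

theorem enc_eq : ∀ z ∈ C, 23 * (enc z : ℤ) = 4 * (sd z + 12672) + 23 * (wt z + 6) := by decide

theorem target_eq : ∀ x ∈ X, 23 * (target x : ℤ) = 4 * (-9065 - sd x + 101376) +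
    23 * (48 - wt x) := by decide

theorem sum_enc {l : List ℤ} (h : ∀ z ∈ l, z ∈ C) : 23 * ((l.map enc).sum : ℤ) =
    4 * ((l.map sd).sum + l.length * 12672) + 23 * ((l.map wt).sum + l.length * 6) := by
  induction l with
  | nil => simp
  | cons z l ih =>
    have h1 := ih fun y hy => h y (List.mem_cons_of_mem _ hy)
    have h2 := enc_eq z (h z (by simp))
    simp only [List.map_cons, List.sum_cons, List.length_cons]
    push_cast at h1 ⊢
    linarith

theorem spec {x : ℤ} (hx : x ∈ X) {l : List ℤ} (hlen : l.length = 8)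
    (hsort : l.Pairwise (· ≤ ·)) (hmem : ∀ z ∈ l, z ∈ C)
    (hsd : (l.map sd).sum = -9065 - sd x) (hwt : (l.map wt).sum = -wt x)
    (hsq : (l.map fun z => (sd z).natAbs ^ 2).sum + 2 * (sd x).natAbs ^ 2 ≤ BD)
    (hS : (7056 : ℤ) ∣ 2661120 + 756 + (l.map qd).sum + qd x) : (x, l) ∈ sols := by
  have h1 := search
  rw [List.all_eq_true] at h1
  have h2 := h1 x hx
  rw [chk, Bool.and_eq_true, Nat.blt_eq] at h2
  have h3 := target_eq x hx
  have h4 := sum_enc hmem
  rw [hsd, hwt, hlen] at h4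
  have h5 : ((l.map enc).sum : ℤ) = target x := by
    have : (23 : ℤ) * ((l.map enc).sum : ℤ) = 23 * target x := by
      rw [h3, h4]; push_cast; ring
    linarith
  have h6 : (l.map enc).sum = target x := by exact_mod_cast h5
  have h7 := (rep_of_sorted (by decide : C.Pairwise (· < ·)) hsort hmem).map trip
  have h8 := dfs_spec (w := 25600) (B := BD - 2 * (sd x).natAbs ^ 2)
    (P := fun l => test x l.reverse) h7 0 []
  rw [List.map_map, List.map_map, List.map_map, List.length_map] at h8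
  have e1 : ((fun x : ℤ × ℕ × ℕ => x.2.1) ∘ trip) = enc := rfl
  have e2 : ((fun x : ℤ × ℕ × ℕ => x.2.2) ∘ trip) = fun z => (sd z).natAbs ^ 2 := rfl
  have e3 : ((fun x : ℤ × ℕ × ℕ => x.1) ∘ trip) = id := rfl
  rw [e1, e2, e3, List.map_id, hlen, h6, List.append_nil, List.reverse_reverse, zero_add] at h8
  have h9 := h8 h2.1 (by omega) h2.2
  unfold test at h9
  rw [hsd, hwt] at h9
  have h10 : (2661120 + 756 + (l.map qd).sum + qd x) % 7056 = 0 := Int.emod_eq_zero_of_dvd hS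
  rw [h10] at h9
  simpa using h9

/-! ### Values at the elements of order 5 -/

/-- the search for the values at the elements of order 5; `cd` gives the candidates. -/
def five (cd : ℕ → List ℤ) (m m' : ℤ) : List ℤ → ℤ → ℤ → ℤ → Bool
  | [], t, s, s' => !(t == 0) || !(s % m == 0) || !(s' % m' == 0)
  | z :: l, t, s, s' => (cd (sd z).natAbs).all fun v =>
      five cd m m' l (t + sg z * v) (s + sg z * (v * v) * iv z) (s' + sg z * (v * vl z) * iv z)

theorem five_spec {α : Type*} {cd : ℕ → List ℤ} {m m' : ℤ} {Z : α → ℤ} {v : α → ℤ} :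
    ∀ {l : List α} {t s s' : ℤ}, five cd m m' (l.map Z) t s s' = true →
      (∀ x ∈ l, v x ∈ cd (sd (Z x)).natAbs) →
      t + (l.map fun x => sg (Z x) * v x).sum = 0 →
      m ∣ s + (l.map fun x => sg (Z x) * (v x * v x) * iv (Z x)).sum →
      m' ∣ s' + (l.map fun x => sg (Z x) * (v x * vl (Z x)) * iv (Z x)).sum → False
  | [], t, s, s', h, _, h1, h2, h3 => by
    simp only [List.map_nil, List.sum_nil, add_zero] at h h1 h2 h3
    unfold five at h
    rw [h1, Int.emod_eq_zero_of_dvd h2, Int.emod_eq_zero_of_dvd h3] at h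
    simp at h
  | x :: l, t, s, s', h, h0, h1, h2, h3 => by
    rw [List.map_cons, five, List.all_eq_true] at h
    rw [List.map_cons, List.sum_cons] at h1 h2 h3
    exact five_spec (h (v x) (h0 x (by simp))) (fun y hy => h0 y (List.mem_cons_of_mem _ hy))
      (by rw [add_assoc]; exact h1) (by rw [add_assoc]; exact h2) (by rw [add_assoc]; exact h3)

/-- candidates for the values at the elements of order 5, complement of order 12 -/
def cd12 (d : ℕ) : List ℤ :=
  if d = 22 ∨ d = 252 ∨ d = 12672 then [2, -3] else if d = 528 then [3, -2]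
  else if d = 231 ∨ d = 6336 then [1, -4] else [0]

/-- candidates for the values at the elements of order 5, complement of order 192 -/
def cd192 (d : ℕ) : List ℤ :=
  if d = 22 then [2, -3, 12] else if d = 252 then [2, -3, 12, -8]
  else if d = 528 then [3, -2, 8, -12] else if d = 231 then [1, -4, 6, 16, -24]
  else if d = 6336 then [-4, 16, -24] else [0]

theorem five12 : ∀ s ∈ sols, s ≠ (176003,
    [-1039500, -154000, -154000, -52804, -25200, -4497, -4497, 351999]) →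
    five cd12 900 2520 (s.1 :: s.2) 0 (2661120 + 480) 2661120 = true := by
  decide +kernel

theorem five192 : ∀ s ∈ sols, five cd192 230400 1 (s.1 :: s.2) 0 (2661120 + 480) 0 = true := by
  decide +kernel

end Cfsg.Agent.SporadicA.M24.YSearch
end

-- part: SporadicA/M24/YClass
section
/-!
# Class multiplication constants at a self-centralizing Sylow subgroup of prime order

* `sum_X` : the exceptional characters sum to `- d` at the elements of `P#`;
* `int_sc` : the number of `(x', y') ∈ x^G × y^G` with `x' y' = g`, `g ∈ P#`, for `p`-regular `x`, `y`;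
* `int_23` : the case `p = 23` for `|G| = 244823040`.
-/

set_option autoImplicit false
set_option linter.unusedSectionVars false

open Cfsg Subgroup
open Cfsg.Agent.Characters.Core
open Cfsg.Agent.SmallSimple
open Cfsg.Agent.M23Order.Base
open Cfsg.Agent.SporadicA.M24.Setup
open scoped ComplexConjugate

namespace Cfsg.Agent.SporadicA.M24.YClass

universe u

section General

variable {G : Type u} [Group G] [Finite G] {p e t : ℕ} {P : Sylow p G}

theorem conj_val (D : SC p e t P) {χ : IrrCharacter G} (hχ : χ ∈ D.NE) {g : G} (hg : g ∈ P)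
    (hg1 : g ≠ 1) : conj ((χ : G → ℂ) g) = D.ε χ := by
  rw [D.val χ hχ g hg hg1, map_intCast]

theorem sum_split (D : SC p e t P) [Fintype (IrrCharacter G)] {g : G} (hg : g ∈ P) (hg1 : g ≠ 1)
    (F : IrrCharacter G → ℂ) : ∑ χ : IrrCharacter G, F χ * conj ((χ : G → ℂ) g) =
      ∑ χ ∈ D.NE, (D.ε χ : ℂ) * F χ + ∑ χ ∈ D.X, F χ * conj ((χ : G → ℂ) g) := by
  classical
  rw [← Finset.sum_subset (Finset.subset_univ (D.NE ∪ D.X)), Finset.sum_union D.disj]
  · congr 1
    exact Finset.sum_congr rfl fun χ hχ => by rw [conj_val D hχ hg hg1, mul_comm]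
  · intro χ _ hχ
    rw [Finset.mem_union, not_or] at hχ
    rw [D.out χ hχ.1 hχ.2 g hg hg1, map_zero, mul_zero]

/-- The exceptional characters sum to `- d` at `P#`. -/
theorem sum_X (D : SC p e t P) (hp : p ≠ 1) {g : G} (hg : g ∈ P) (hg1 : g ≠ 1)
    (hX : D.X.Nonempty) : ∑ χ ∈ D.X, conj ((χ : G → ℂ) g) = -(D.d : ℂ) := by
  classical
  have := Fintype.ofFinite G
  have := finite_irr (G := G)
  have := Fintype.ofFinite (IrrCharacter G)
  have h1 := S0876.sum_irr_mul_conj (G := G) 1 g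
  have h2 : IsEmpty {x : G // x * 1 * x⁻¹ = g} :=
    ⟨fun x => hg1 (by rw [← x.2, mul_one, mul_inv_cancel])⟩
  rw [Nat.card_of_isEmpty, Nat.cast_zero, sum_split D hg hg1] at h1
  obtain ⟨Θ, hΘ⟩ := hX
  have h3 := D.rel_deg hp hΘ
  have h4 : ∑ χ ∈ D.NE, (D.ε χ : ℂ) * (χ : G → ℂ) 1 = D.d * D.f := by
    rw [Finset.sum_congr rfl fun χ _ => by rw [dg_eq]]
    exact_mod_cast h3
  have h5 : ∑ χ ∈ D.X, (χ : G → ℂ) 1 * conj ((χ : G → ℂ) g) =
      (D.f : ℂ) * ∑ χ ∈ D.X, conj ((χ : G → ℂ) g) := by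
    rw [Finset.mul_sum]
    exact Finset.sum_congr rfl fun χ hχ => by rw [dg_eq, D.deg_X χ hχ]
  rw [h4, h5] at h1
  have h6 : (D.f : ℂ) ≠ 0 := by
    have := dg_ne_zero Θ
    rw [D.deg_X Θ hΘ] at this
    exact_mod_cast this
  apply mul_left_cancel₀ h6
  linear_combination h1

/-- The exceptional characters agree on `p`-regular elements. -/
theorem eq_of_mem_X (D : SC p e t P) {Θ Θ' : IrrCharacter G} (hΘ : Θ ∈ D.X) (hΘ' : Θ' ∈ D.X)
    {x : G} (hx : ¬ p ∣ orderOf x) : (Θ : G → ℂ) x = (Θ' : G → ℂ) x := by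
  have h1 := (D.rel Θ hΘ x hx).symm.trans (D.rel Θ' hΘ' x hx)
  rcases D.d_mem with h | h <;> rw [h] at h1 <;> simpa using h1

/-- **Class multiplication constants** for `p`-regular classes at an element of `P#`. -/
theorem int_sc (D : SC p e t P) (hp : p ≠ 1) {g : G} (hg : g ∈ P) (hg1 : g ≠ 1)
    {Θ : IrrCharacter G} (hΘ : Θ ∈ D.X) {x y : G} (hx : ¬ p ∣ orderOf x)
    (hy : ¬ p ∣ orderOf y) : ∃ N : ℕ, (N : ℂ) * Nat.card G =
      (centralizer ({x} : Set G)).index * (centralizer ({y} : Set G)).index *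
      (∑ χ ∈ D.NE, (D.ε χ : ℂ) * ((χ : G → ℂ) x * (χ : G → ℂ) y / (χ : G → ℂ) 1) -
        D.d * ((Θ : G → ℂ) x * (Θ : G → ℂ) y / (Θ : G → ℂ) 1)) := by
  classical
  have := finite_irr (G := G)
  have := Fintype.ofFinite (IrrCharacter G)
  have h1 := Characters.ClassMul.card_class_mul x y g
  have h2 : ∑ χ : IrrCharacter G,
      (χ : G → ℂ) x * (χ : G → ℂ) y * conj ((χ : G → ℂ) g) / (χ : G → ℂ) 1 =
      ∑ χ ∈ D.NE, (D.ε χ : ℂ) * ((χ : G → ℂ) x * (χ : G → ℂ) y / (χ : G → ℂ) 1) -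
        D.d * ((Θ : G → ℂ) x * (Θ : G → ℂ) y / (Θ : G → ℂ) 1) := by
    rw [Finset.sum_congr rfl (g := fun χ : IrrCharacter G =>
      ((χ : G → ℂ) x * (χ : G → ℂ) y / (χ : G → ℂ) 1) * conj ((χ : G → ℂ) g))
      fun χ _ => by ring, sum_split D hg hg1,
      Finset.sum_congr rfl (s₁ := D.X) (g := fun χ : IrrCharacter G =>
      ((Θ : G → ℂ) x * (Θ : G → ℂ) y / (Θ : G → ℂ) 1) * conj ((χ : G → ℂ) g))
      fun χ hχ => by rw [eq_of_mem_X D hχ hΘ hx, eq_of_mem_X D hχ hΘ hy, dg_eq, dg_eq,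
        D.deg_X χ hχ, D.deg_X Θ hΘ], ← Finset.mul_sum, sum_X D hp hg hg1 ⟨Θ, hΘ⟩]
    ring
  rw [h2] at h1
  have hne : (Nat.card G : ℂ) ≠ 0 := by exact_mod_cast Nat.card_pos.ne'
  refine ⟨_, by rw [h1]; field_simp⟩

end General

/-- **Class multiplication constants** at an element of order 23. -/
theorem int_23 {G : Type u} [Group G] [Finite G] (H : Hyp G) {Θ : IrrCharacter G}
    (hΘ : Θ ∈ H.D.X) {x y : G} (hx : ¬ 23 ∣ orderOf x) (hy : ¬ 23 ∣ orderOf y) :
    ∃ N : ℕ, (N : ℂ) * Nat.card G =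
      (centralizer ({x} : Set G)).index * (centralizer ({y} : Set G)).index *
      (∑ χ ∈ H.D.NE, (H.D.ε χ : ℂ) * ((χ : G → ℂ) x * (χ : G → ℂ) y / (χ : G → ℂ) 1) -
        H.D.d * ((Θ : G → ℂ) x * (Θ : G → ℂ) y / (Θ : G → ℂ) 1)) := by
  have h23 : Fact (Nat.Prime 23) := ⟨by norm_num⟩
  have h1 : (H.P : Subgroup G) ≠ ⊥ := by
    intro h
    have h2 : Nat.card (H.P : Subgroup G) = 23 := H.hP
    rw [h, Subgroup.card_bot] at h2
    omega
  obtain ⟨g, hg1⟩ := (Subgroup.ne_bot_iff_exists_ne_one.1 h1)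
  exact int_sc H.D (by norm_num) g.2 (fun h => hg1 (Subtype.ext h)) hΘ hx hy

end Cfsg.Agent.SporadicA.M24.YClass
end

-- part: SmallSimple/PrimeValues
section
/-!
# All elementary properties of the values at elements of order `p`

`|P| = p`, `|N(P) : C(P)| = p - 1`, `C(P) = P × K`.
-/

set_option autoImplicit false
set_option linter.unusedSectionVars false

namespace Cfsg.Agent.SmallSimple.PrimeValues

open Cfsg Subgroup
open Cfsg.Agent.Characters.Core
open Cfsg.Agent.M23Order.Base (dg dg_eq)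
open scoped ComplexConjugate

universe u

variable {G : Type u} [Group G] [Finite G]

/-- The values `v` at the elements of `P \ 1`, where `|P| = p`. -/
structure Values (p : ℕ) (P : Sylow p G) (K : Subgroup G) (M : Ideal AlgInt)
    (v : IrrCharacter G → ℤ) : Prop where
  val : ∀ χ : IrrCharacter G, ∀ x ∈ P, x ≠ 1 → (χ : G → ℂ) x = v χ
  modEq : ∀ χ : IrrCharacter G, v χ ≡ dg χ [ZMOD p]
  norm : ∀ s : Finset (IrrCharacter G), ∑ χ ∈ s, v χ ^ 2 ≤ Nat.card (centralizer (P : Set G))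
  dvd : ∀ χ : IrrCharacter G, ∀ x ∈ P, x ≠ 1 →
    (dg χ : ℤ) ∣ ((centralizer ({x} : Set G)).index : ℤ) * v χ
  nonneg : ∀ χ : IrrCharacter G, 0 ≤ (dg χ : ℤ) + ((p - 1 : ℕ) : ℤ) * v χ
  mem : ∀ χ : IrrCharacter G, χ ∉ principalBlock M G → v χ = 0 ∨ ∃ n m : ℕ, n ∣ Nat.card K ∧
    m ∣ p - 1 ∧ 0 < m ∧ 1 + m * n ^ 2 ≤ Nat.card K ∧
    ((v χ).natAbs = n * m ∨ (v χ).natAbs = n)

theorem exists_values {p : ℕ} [hp : Fact p.Prime] (hp2 : p ≠ 2) {P : Sylow p G}
    (hP : Nat.card P = p) {K : Subgroup G} (hK : PrimeLocal.IsLocal p P (p - 1) K)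
    {M : Ideal AlgInt} (hM : IsPModular p M) :
    ∃ v : IrrCharacter G → ℤ, Values p P K M v := by
  have he := BlockIndex.relIndex_eq hK
  have hP' : Nat.card (P : Subgroup G) = p := hP
  obtain ⟨v, h1, h2, h3⟩ := PrimeFusion.exists_val (P := (P : Subgroup G)) hP' he
  refine ⟨v, h1, h2, h3, fun χ x hx hx1 => InvolColumn.dvd_index_mul χ.2 (h1 χ x hx hx1),
    fun χ => ?_, fun χ hχ => ?_⟩
  · obtain ⟨m, hm⟩ := M23.Adm.exists_add_V (isIrr_isCharacter χ.2) (P : Subgroup G)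
    rw [M23.Adm.V_const (P : Subgroup G) (h1 χ), dg_eq, hP'] at hm
    have h4 : (dg χ : ℤ) + ((p - 1 : ℕ) : ℤ) * v χ = p * m := by exact_mod_cast hm
    rw [h4]
    positivity
  · exact ThetaValue.value_mem hp2 hP (ThetaValue.isComp_of_local hK) hM he hχ (h1 χ)

end Cfsg.Agent.SmallSimple.PrimeValues
end

-- part: SporadicA/M24/YBase
section
/-!
# The principal 23-block and the values at elements of orders 5 and 7

Interface between characters and `YSearch`.
-/

set_option autoImplicit false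
set_option linter.unusedSectionVars false

open Cfsg Subgroup
open Cfsg.Agent.Characters.Core
open Cfsg.Agent.SmallSimple
open Cfsg.Agent.SmallSimple.FlatBlock Cfsg.Agent.SmallSimple.PrimeValues
open Cfsg.Agent.SmallSimple.DegreeData
open Cfsg.Agent.M23Order.Base
open Cfsg.Agent.SporadicA.M24.Setup Cfsg.Agent.SporadicA.M24.Five Cfsg.Agent.SporadicA.M24.Seven
open Cfsg.Agent.SporadicA.M24.YSearch
open scoped ComplexConjugate

namespace Cfsg.Agent.SporadicA.M24.YBase

universe u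

/-! ### Arithmetic -/

/-- values at the elements of order 7, complement of order 24 -/
def V7 : List ℤ := [0, 1, -1, 2, -2, 3, -3, 4, -4, 6, -6]

/-- values at the elements of order 5, complement of order 12 -/
def V12 : List ℤ := [0, 1, -1, 2, -2, 3, -3, 4, -4]

/-- values at the elements of order 5, complement of order 192 -/
def V192 : List ℤ := [0, 1, -1, 2, -2, 3, -3, 4, -4, 6, -6, 8, -8, 12, -12, 16, -16, 24, -24]

theorem mem_V7 {v : ℤ} (h : v = 0 ∨ ∃ n m : ℕ, n ∣ 24 ∧ m ∣ 6 ∧ 0 < m ∧ 1 + m * n ^ 2 ≤ 24 ∧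
    (v.natAbs = n * m ∨ v.natAbs = n)) : v ∈ V7 := by
  have key : ∀ n ∈ List.range 5, ∀ m ∈ List.range 7, n ∣ 24 → m ∣ 6 → 0 < m → 1 + m * n ^ 2 ≤ 24 →
      n * m ∈ [1, 2, 3, 4, 6] ∧ n ∈ [1, 2, 3, 4, 6] := by decide +kernel
  have h2 : ∀ k : ℕ, k ∈ [1, 2, 3, 4, 6] → v.natAbs = k → v ∈ V7 := by
    intro k hk hvk
    unfold V7
    simp only [List.mem_cons, List.not_mem_nil, or_false] at hk ⊢
    omega
  rcases h with rfl | ⟨n, m, h3, h4, h5, h6, h7⟩
  · decide
  · have h8 : n < 5 := by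
      by_contra h
      have : 5 ^ 2 ≤ n ^ 2 := Nat.pow_le_pow_left (by omega) 2
      have : 1 * n ^ 2 ≤ m * n ^ 2 := Nat.mul_le_mul_right _ h5
      omega
    have h9 : m < 7 := by have := Nat.le_of_dvd (by norm_num) h4; omega
    obtain ⟨e1, e2⟩ := key n (List.mem_range.2 h8) m (List.mem_range.2 h9) h3 h4 h5 h6
    rcases h7 with h7 | h7
    · exact h2 _ e1 h7
    · exact h2 _ e2 h7

theorem mem_V12 {v : ℤ} (h : v = 0 ∨ ∃ n m : ℕ, n ∣ 12 ∧ m ∣ 4 ∧ 0 < m ∧ 1 + m * n ^ 2 ≤ 12 ∧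
    (v.natAbs = n * m ∨ v.natAbs = n)) : v ∈ V12 := by
  have key : ∀ n ∈ List.range 4, ∀ m ∈ List.range 5, n ∣ 12 → m ∣ 4 → 0 < m → 1 + m * n ^ 2 ≤ 12 →
      n * m ∈ [1, 2, 3, 4] ∧ n ∈ [1, 2, 3, 4] := by decide +kernel
  have h2 : ∀ k : ℕ, k ∈ [1, 2, 3, 4] → v.natAbs = k → v ∈ V12 := by
    intro k hk hvk
    unfold V12
    simp only [List.mem_cons, List.not_mem_nil, or_false] at hk ⊢
    omega
  rcases h with rfl | ⟨n, m, h3, h4, h5, h6, h7⟩
  · decide
  · have h8 : n < 4 := by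
      by_contra h
      have : 4 ^ 2 ≤ n ^ 2 := Nat.pow_le_pow_left (by omega) 2
      have : 1 * n ^ 2 ≤ m * n ^ 2 := Nat.mul_le_mul_right _ h5
      omega
    have h9 : m < 5 := by have := Nat.le_of_dvd (by norm_num) h4; omega
    obtain ⟨e1, e2⟩ := key n (List.mem_range.2 h8) m (List.mem_range.2 h9) h3 h4 h5 h6
    rcases h7 with h7 | h7
    · exact h2 _ e1 h7
    · exact h2 _ e2 h7

theorem mem_V192 {v : ℤ} (h : v = 0 ∨ ∃ n m : ℕ, n ∣ 192 ∧ m ∣ 4 ∧ 0 < m ∧
    1 + m * n ^ 2 ≤ 192 ∧ (v.natAbs = n * m ∨ v.natAbs = n)) : v ∈ V192 := by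
  have key : ∀ n ∈ List.range 14, ∀ m ∈ List.range 5, n ∣ 192 → m ∣ 4 → 0 < m → 1 + m * n ^ 2 ≤ 192 →
      n * m ∈ [1, 2, 3, 4, 6, 8, 12, 16, 24] ∧ n ∈ [1, 2, 3, 4, 6, 8, 12, 16, 24] := by
    decide +kernel
  have h2 : ∀ k : ℕ, k ∈ [1, 2, 3, 4, 6, 8, 12, 16, 24] → v.natAbs = k → v ∈ V192 := by
    intro k hk hvk
    unfold V192
    simp only [List.mem_cons, List.not_mem_nil, or_false] at hk ⊢
    omega
  rcases h with rfl | ⟨n, m, h3, h4, h5, h6, h7⟩
  · decide
  · have h8 : n < 14 := by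
      by_contra h
      have : 14 ^ 2 ≤ n ^ 2 := Nat.pow_le_pow_left (by omega) 2
      have : 1 * n ^ 2 ≤ m * n ^ 2 := Nat.mul_le_mul_right _ h5
      omega
    have h9 : m < 5 := by have := Nat.le_of_dvd (by norm_num) h4; omega
    obtain ⟨e1, e2⟩ := key n (List.mem_range.2 h8) m (List.mem_range.2 h9) h3 h4 h5 h6
    rcases h7 with h7 | h7
    · exact h2 _ e1 h7
    · exact h2 _ e2 h7

theorem arith7 : ∀ d ∈ A, ∀ v ∈ V7, d ≠ 1 → d ≠ 11 → (v - d) % 7 = 0 → (d % 7 = 0 → v = 0) →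
    (1457280 * v) % d = 0 → 0 ≤ d + 6 * v →
    (d % 23 = 1 → 100 * (1 * (d : ℤ)) + v ∈ C) ∧ (d % 23 = 22 → 100 * (-1 * (d : ℤ)) + v ∈ C) ∧
    (d % 23 = 12 → 100 * (1 * (d : ℤ)) + v ∈ X) ∧
    (d % 23 = 11 → 100 * (-1 * (d : ℤ)) + v ∈ X) := by
  decide +kernel

/-- degrees in the solutions -/
def DS : List ℕ := [22, 45, 231, 252, 528, 990, 1540, 1760, 3520, 3840, 6336, 10395]

theorem deg_mem : ∀ s ∈ sols, ∀ z ∈ s.1 :: s.2, (sd z).natAbs ∈ DS := by decide +kernel

theorem arith12 : ∀ d ∈ DS, ∀ v ∈ V12, (v - d) % 5 = 0 → (d % 5 = 0 → v = 0) →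
    (4080384 * v) % d = 0 → 0 ≤ d + 4 * v → v ∈ cd12 d := by
  decide +kernel

theorem arith192 : ∀ d ∈ DS, ∀ v ∈ V192, (v - d) % 5 = 0 → (d % 5 = 0 → v = 0) →
    (255024 * v) % d = 0 → 0 ≤ d + 4 * v → v ∈ cd192 d := by
  decide +kernel

theorem iv_mul : ∀ z ∈ C ++ X, iv z * ((sd z).natAbs : ℤ) = 2661120 := by decide +kernel

theorem decode {s v : ℤ} {d : ℕ} (hs : s = 1 ∨ s = -1) (hd : 0 < d) (hv : v ∈ V7) :
    sd (100 * (s * d) + v) = s * d ∧ vl (100 * (s * d) + v) = v ∧ sg (100 * (s * d) + v) = s := by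
  have h1 : -6 ≤ v ∧ v ≤ 6 := by
    revert v
    decide
  unfold sd vl sg
  rcases hs with rfl | rfl
  · refine ⟨by omega, by omega, ?_⟩
    rw [if_neg (by omega)]
  · refine ⟨by omega, by omega, ?_⟩
    rw [if_pos (by omega)]

/-! ### Characters -/

variable {G : Type u} [Group G] [Finite G] [IsSimpleGroup G] (H : Hyp G)

open Classical in
/-- the sign at 23 -/
noncomputable def sn (χ : IrrCharacter G) : ℤ := if χ ∈ H.D.NE then H.D.ε χ else -H.D.d

/-- the code of a character -/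
noncomputable def Z (v : IrrCharacter G → ℤ) (χ : IrrCharacter G) : ℤ :=
  100 * (sn H χ * dg χ) + v χ

theorem sn_mem (χ : IrrCharacter G) : sn H χ = 1 ∨ sn H χ = -1 := by
  unfold sn
  split_ifs with h
  · exact H.D.ε_mem χ h
  · rcases H.D.d_mem with h | h <;> rw [h] <;> simp

theorem sn_NE {χ : IrrCharacter G} (h : χ ∈ H.D.NE) : sn H χ = H.D.ε χ := if_pos h

theorem sn_X {χ : IrrCharacter G} (h : χ ∈ H.D.X) : sn H χ = -H.D.d :=
  if_neg fun h' => Finset.disjoint_left.1 H.D.disj h' h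

theorem decode_Z {v : IrrCharacter G → ℤ} {χ : IrrCharacter G} (hv : v χ ∈ V7) :
    sd (Z H v χ) = sn H χ * dg χ ∧ vl (Z H v χ) = v χ ∧ sg (Z H v χ) = sn H χ :=
  decode (sn_mem H χ) (Nat.pos_of_ne_zero (dg_ne_zero χ)) hv

theorem natAbs_sd {v : IrrCharacter G → ℤ} {χ : IrrCharacter G} (hv : v χ ∈ V7) :
    (sd (Z H v χ)).natAbs = dg χ := by
  rw [(decode_Z H hv).1, Int.natAbs_mul, Int.natAbs_natCast]
  rcases sn_mem H χ with h | h <;> rw [h] <;> simp

/-- The relation at 23. -/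
theorem rel_sum {Θ : IrrCharacter G} (hΘ : Θ ∈ H.D.X) {x : G} (hx : ¬ 23 ∣ orderOf x)
    {v : IrrCharacter G → ℤ} (hv : ∀ χ : IrrCharacter G, (χ : G → ℂ) x = v χ) :
    ∑ χ ∈ H.D.NE, H.D.ε χ * v χ = H.D.d * v Θ := by
  have h1 := H.D.rel Θ hΘ x hx
  have h2 : ((∑ χ ∈ H.D.NE, H.D.ε χ * v χ : ℤ) : ℂ) = ((H.D.d * v Θ : ℤ) : ℂ) := by
    push_cast
    rw [← hv, ← h1]
    refine Finset.sum_congr rfl fun χ _ => ?_
    rw [hv]
  exact_mod_cast h2

/-- Class multiplication at 23 with integral values. -/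
theorem int_sum {Θ : IrrCharacter G} (hΘ : Θ ∈ H.D.X) {x y : G} (hx : ¬ 23 ∣ orderOf x)
    (hy : ¬ 23 ∣ orderOf y) {v w : IrrCharacter G → ℤ}
    (hv : ∀ χ : IrrCharacter G, (χ : G → ℂ) x = v χ)
    (hw : ∀ χ : IrrCharacter G, (χ : G → ℂ) y = w χ) {q : IrrCharacter G → ℤ}
    (hq : ∀ χ : IrrCharacter G, χ ∈ H.D.NE ∨ χ ∈ H.D.X → q χ * (dg χ : ℤ) = 2661120) :
    ∃ N : ℕ, (N : ℤ) * Nat.card G * 2661120 = (centralizer ({x} : Set G)).index *
      (centralizer ({y} : Set G)).index * (∑ χ ∈ H.D.NE, H.D.ε χ * (v χ * w χ) * q χ -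
        H.D.d * (v Θ * w Θ) * q Θ) := by
  obtain ⟨N, hN⟩ := YClass.int_23 H hΘ hx hy
  refine ⟨N, ?_⟩
  have hterm : ∀ χ : IrrCharacter G, χ ∈ H.D.NE ∨ χ ∈ H.D.X →
      (χ : G → ℂ) x * (χ : G → ℂ) y / (χ : G → ℂ) 1 * 2661120 = (v χ * w χ) * q χ := by
    intro χ hχ
    have h1 : (q χ : ℂ) * dg χ = 2661120 := by exact_mod_cast hq χ hχ
    have h2 : (dg χ : ℂ) ≠ 0 := by exact_mod_cast dg_ne_zero χ
    rw [hv, hw, dg_eq, ← h1]
    field_simp
  have hA : (∑ χ ∈ H.D.NE, (H.D.ε χ : ℂ) * ((χ : G → ℂ) x * (χ : G → ℂ) y / (χ : G → ℂ) 1)) *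
      2661120 = ∑ χ ∈ H.D.NE, (H.D.ε χ : ℂ) * (v χ * w χ) * q χ := by
    rw [Finset.sum_mul]
    refine Finset.sum_congr rfl fun χ hχ => ?_
    rw [mul_assoc, hterm χ (Or.inl hχ)]
    ring
  have hB := hterm Θ (Or.inr hΘ)
  have h1 : ((N : ℂ) * Nat.card G) * 2661120 = (centralizer ({x} : Set G)).index *
      (centralizer ({y} : Set G)).index * (∑ χ ∈ H.D.NE, (H.D.ε χ : ℂ) * (v χ * w χ) * q χ -
        H.D.d * (v Θ * w Θ) * q Θ) := by
    rw [hN, ← hA]
    linear_combination (-(centralizer ({x} : Set G)).index *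
      (centralizer ({y} : Set G)).index * (H.D.d : ℂ)) * hB
  exact_mod_cast h1

/-- The list of the nonexceptional characters. -/
theorem exists_list {T : List (IrrCharacter G)} (hT : T.Nodup) (hsub : ∀ χ ∈ T, χ ∈ H.D.NE)
    (F : IrrCharacter G → ℤ) : ∃ l : List (IrrCharacter G), (T ++ l).Nodup ∧
      (∀ χ, χ ∈ H.D.NE ↔ χ ∈ T ++ l) ∧ (T ++ l).length = 11 ∧ (l.map F).Pairwise (· ≤ ·) := by
  classical
  obtain ⟨l, h1, h2, h3⟩ := DegreeData.exists_sorted (H.D.NE \ T.toFinset) F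
  have hmem : ∀ χ, χ ∈ l ↔ χ ∈ H.D.NE ∧ χ ∉ T := by
    intro χ
    rw [← List.mem_toFinset, h2, Finset.mem_sdiff, List.mem_toFinset]
  have hnd : (T ++ l).Nodup := by
    rw [List.nodup_append]
    refine ⟨hT, h1, fun χ hχ ψ hψ h => ?_⟩
    subst h
    exact ((hmem χ).1 hψ).2 hχ
  have hiff : ∀ χ, χ ∈ H.D.NE ↔ χ ∈ T ++ l := by
    intro χ
    rw [List.mem_append, hmem]
    constructor
    · intro h
      by_cases h' : χ ∈ T
      · exact Or.inl h'
      · exact Or.inr ⟨h, h'⟩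
    · rintro (h | h)
      · exact hsub χ h
      · exact h.1
  refine ⟨l, hnd, hiff, ?_, h3⟩
  have h4 : (T ++ l).toFinset = H.D.NE := by
    ext χ; rw [List.mem_toFinset, hiff]
  rw [← List.toFinset_card_of_nodup hnd, h4, H.D.card_NE]

theorem sum_NE {l : List (IrrCharacter G)} (hnd : l.Nodup) (hmem : ∀ χ, χ ∈ H.D.NE ↔ χ ∈ l)
    (F : IrrCharacter G → ℤ) : ∑ χ ∈ H.D.NE, F χ = (l.map F).sum := by
  classical
  have h : H.D.NE = l.toFinset := by ext χ; rw [List.mem_toFinset, hmem]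
  rw [h, List.sum_toFinset _ hnd]

end Cfsg.Agent.SporadicA.M24.YBase
end

-- part: SporadicA/M24/YStage
section
/-!
# The principal 23-block if the principal 7-block has a character of degree 3520

* `exists_code` : the codes of the 23-block are in `YSearch.sols`.
-/

set_option autoImplicit false
set_option linter.unusedSectionVars false

open Cfsg Subgroup
open Cfsg.Agent.Characters.Core
open Cfsg.Agent.SmallSimple
open Cfsg.Agent.SmallSimple.FlatBlock Cfsg.Agent.SmallSimple.PrimeValues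
open Cfsg.Agent.SmallSimple.DegreeData
open Cfsg.Agent.M23Order.Base
open Cfsg.Agent.SporadicA.M24.Setup Cfsg.Agent.SporadicA.M24.Five Cfsg.Agent.SporadicA.M24.Seven
open Cfsg.Agent.SporadicA.M24.YSearch Cfsg.Agent.SporadicA.M24.YBase
open scoped ComplexConjugate

namespace Cfsg.Agent.SporadicA.M24.YStage

universe u

variable {G : Type u} [Group G] [Finite G] [IsSimpleGroup G] (H : Hyp G)

include H

theorem not_23 {p : ℕ} [Fact p.Prime] {P : Sylow p G} (hP : Nat.card P = p) {x : G}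
    (hx : x ∈ P) (hx1 : x ≠ 1) (hp : p ≠ 23) : ¬ 23 ∣ orderOf x := by
  rw [Integral.orderOf_of_mem hP hx hx1]
  intro h
  exact hp ((Nat.prime_dvd_prime_iff_eq (by norm_num) (Fact.out : p.Prime)).1 h).symm

/-- The values at the elements of order 7. -/
theorem seven_facts {S : Sylow 7 G} {K' : Subgroup G} {M' : Ideal AlgInt}
    {B' : Finset (IrrCharacter G)} {ε' : IrrCharacter G → ℤ} {l' : List (IrrCharacter G)}
    {b : IrrCharacter G} (h7 : B7six S K' M' B' ε' l' b) (hK' : Nat.card K' = 24)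
    {v : IrrCharacter G → ℤ} (hv : Values 7 S K' M' v) (χ : IrrCharacter G) :
    v χ ∈ V7 ∧ (v χ - dg χ) % 7 = 0 ∧ (dg χ % 7 = 0 → v χ = 0) ∧
      (1457280 * v χ) % dg χ = 0 ∧ 0 ≤ (dg χ : ℤ) + 6 * v χ := by
  have h7p : Fact (Nat.Prime 7) := ⟨by norm_num⟩
  have hS := card_seven H S
  obtain ⟨y, hy, hy1⟩ := BlockIndex.exists_ne_one (P := (S : Subgroup G)) hS
  have hi := Integral.index_mul h7.loc.loc hS hy hy1
  rw [hK', H.hcard] at hi
  have hi' : (centralizer ({y} : Set G)).index = 1457280 := by omega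
  refine ⟨?_, ?_, fun h => ?_, ?_, ?_⟩
  · by_cases hχ : χ ∈ B'
    · have h1 := h7.loc.toFlat.val' hχ hy hy1
      rw [hv.val χ y hy hy1] at h1
      have h2 : v χ = ε' χ := by exact_mod_cast h1
      rw [h2]
      rcases h7.loc.ε_mem χ hχ with h | h <;> rw [h] <;> decide
    · have h1 := hv.mem χ (fun h => hχ ((h7.loc.mem_iff χ).1 h))
      rw [hK'] at h1
      exact mem_V7 h1
  · have h1 := hv.modEq χ
    have h2 := h1.symm.dvd
    omega
  · have h1 := Integral.seven_zero H χ (Nat.dvd_of_mod_eq_zero h) (w := y)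
      (by rw [Integral.orderOf_of_mem hS hy hy1])
    rw [hv.val χ y hy hy1] at h1
    exact_mod_cast h1
  · have h1 := hv.dvd χ y hy hy1
    rw [hi'] at h1
    exact Int.emod_eq_zero_of_dvd h1
  · have h1 := hv.nonneg χ
    norm_num at h1
    exact h1

/-- The codes of the nonexceptional characters. -/
theorem code_NE {v : IrrCharacter G → ℤ} (hf : ∀ χ : IrrCharacter G,
    v χ ∈ V7 ∧ (v χ - dg χ) % 7 = 0 ∧ (dg χ % 7 = 0 → v χ = 0) ∧
      (1457280 * v χ) % dg χ = 0 ∧ 0 ≤ (dg χ : ℤ) + 6 * v χ) {χ : IrrCharacter G}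
    (hχ : χ ∈ H.D.NE) (h1 : χ ≠ tr G) : Z H v χ ∈ C := by
  obtain ⟨f1, f2, f3, f4, f5⟩ := hf χ
  have hd1 : dg χ ≠ 1 := by
    intro h
    apply h1
    have h2 := eq_one_of_dg H h
    apply Subtype.ext
    rw [h2, H.D.coe_one, coe_tr]
  obtain ⟨e1, e2, -, -⟩ := arith7 _ (dg_mem_A H χ) _ f1 hd1 (dg_ne_eleven H χ) f2 f3 f4 f5
  unfold Z
  rw [sn_NE H hχ]
  rcases mod23_NE H hχ with ⟨h2, h3⟩ | ⟨h2, h3⟩
  · rw [h2]; exact e1 h3
  · rw [h2]; exact e2 h3

/-- The codes of the exceptional characters. -/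
theorem code_X {v : IrrCharacter G → ℤ} (hf : ∀ χ : IrrCharacter G,
    v χ ∈ V7 ∧ (v χ - dg χ) % 7 = 0 ∧ (dg χ % 7 = 0 → v χ = 0) ∧
      (1457280 * v χ) % dg χ = 0 ∧ 0 ≤ (dg χ : ℤ) + 6 * v χ) {χ : IrrCharacter G}
    (hχ : χ ∈ H.D.X) : Z H v χ ∈ X := by
  obtain ⟨f1, f2, f3, f4, f5⟩ := hf χ
  have hd1 : dg χ ≠ 1 := by
    intro h
    rcases mod23_X H hχ with h2 | h2 <;> rw [h] at h2 <;> omega
  obtain ⟨-, -, e1, e2⟩ := arith7 _ (dg_mem_A H χ) _ f1 hd1 (dg_ne_eleven H χ) f2 f3 f4 f5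
  unfold Z
  rw [sn_X H hχ]
  rcases mod23_X H hχ with ⟨h2, h3⟩ | ⟨h2, h3⟩
  · rw [h2]; exact e2 h3
  · rw [h2, neg_neg]; exact e1 h3

theorem iv_Z {v : IrrCharacter G → ℤ} {χ : IrrCharacter G} (hv : v χ ∈ V7) :
    iv (Z H v χ) = 2661120 / (dg χ : ℤ) := by
  unfold iv
  rw [natAbs_sd H hv]

theorem iv_mul_dg {v : IrrCharacter G → ℤ} (hf : ∀ χ : IrrCharacter G,
    v χ ∈ V7 ∧ (v χ - dg χ) % 7 = 0 ∧ (dg χ % 7 = 0 → v χ = 0) ∧
      (1457280 * v χ) % dg χ = 0 ∧ 0 ≤ (dg χ : ℤ) + 6 * v χ) (χ : IrrCharacter G)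
    (hχ : χ ∈ H.D.NE ∨ χ ∈ H.D.X) : iv (Z H v χ) * (dg χ : ℤ) = 2661120 := by
  by_cases h1 : χ = tr G
  · rw [iv_Z H (hf χ).1, h1, dg_tr]
    norm_num
  · have h2 : Z H v χ ∈ C ++ X := by
      rw [List.mem_append]
      rcases hχ with h | h
      · exact Or.inl (code_NE H hf h h1)
      · exact Or.inr (code_X H hf h)
    have h3 := iv_mul _ h2
    rwa [natAbs_sd H (hf χ).1] at h3

/-- the trivial character is nonexceptional of sign 1 -/
theorem tr_NE : tr G ∈ H.D.NE ∧ H.D.ε (tr G) = 1 := by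
  have h : H.D.one = tr G := Subtype.ext (by rw [H.D.coe_one, coe_tr])
  rw [← h]
  exact ⟨H.D.one_mem, H.D.ε_one⟩

theorem pos_NE {χ : IrrCharacter G} (h : dg χ % 23 = 1) : χ ∈ H.D.NE ∧ H.D.ε χ = 1 := by
  have h1 := mem_NE23 H (Or.inl h)
  refine ⟨h1, ?_⟩
  rcases mod23_NE H h1 with h2 | h2
  · exact h2.1
  · omega

/-- Sum of the squares of the degrees. -/
theorem sum_sq {l : List (IrrCharacter G)} (hnd : l.Nodup)
    (hmem : ∀ χ, χ ∈ H.D.NE ↔ χ ∈ l) {b c d : IrrCharacter G} (hb : dg b = 2024)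
    (hc : dg c = 1771) (hd : dg d = 5796) :
    (l.map fun χ => dg χ ^ 2).sum + 2 * H.D.f ^ 2 + 2024 ^ 2 + 1771 ^ 2 + 5796 ^ 2 ≤
      244823040 := by
  classical
  have h1 : l.toFinset = H.D.NE := by ext χ; rw [List.mem_toFinset, hmem]
  have hout : ∀ χ : IrrCharacter G, dg χ % 23 = 0 → χ ∉ H.D.NE ∪ H.D.X := by
    intro χ h2 h3
    rw [Finset.mem_union] at h3
    rcases h3 with h3 | h3
    · rcases mod23_NE H h3 with h | h <;> omega
    · rcases mod23_X H h3 with h | h <;> omega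
  have h2 := sum_dg_sq_le (G := G) (insert b (insert c (insert d (H.D.NE ∪ H.D.X))))
  have hne : ∀ {χ ψ : IrrCharacter G}, dg χ ≠ dg ψ → χ ≠ ψ := by
    rintro χ ψ h rfl
    exact h rfl
  rw [Finset.sum_insert, Finset.sum_insert, Finset.sum_insert (hout d (by rw [hd])),
    Finset.sum_union H.D.disj, ← h1, List.sum_toFinset _ hnd, hb, hc, hd, H.hcard,
    Finset.sum_congr (s₁ := H.D.X) rfl fun χ hχ => by rw [H.D.deg_X χ hχ], Finset.sum_const,
    H.D.card_X, smul_eq_mul] at h2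
  · omega
  · rw [Finset.mem_insert, not_or]
    exact ⟨hne (by rw [hc, hd]; norm_num), hout c (by rw [hc])⟩
  · rw [Finset.mem_insert, not_or, Finset.mem_insert, not_or]
    exact ⟨hne (by rw [hb, hc]; norm_num), hne (by rw [hb, hd]; norm_num), hout b (by rw [hb])⟩

/-- **Stage 1.** -/
theorem exists_code {R : Sylow 5 G} {K : Subgroup G} {M : Ideal AlgInt}
    {B : Finset (IrrCharacter G)} {ε : IrrCharacter G → ℤ} {a b c d : IrrCharacter G}
    (h5 : B5 R K M B ε a b c d) (hc : dg c = 1771) (hd : dg d = 5796) {S : Sylow 7 G}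
    {K' : Subgroup G} {M' : Ideal AlgInt} {B' : Finset (IrrCharacter G)}
    {ε' : IrrCharacter G → ℤ} {l' : List (IrrCharacter G)} (h7 : B7six S K' M' B' ε' l' b)
    {v : IrrCharacter G → ℤ} (hv : Values 7 S K' M' v)
    (hf : ∀ χ : IrrCharacter G, v χ ∈ V7 ∧ (v χ - dg χ) % 7 = 0 ∧ (dg χ % 7 = 0 → v χ = 0) ∧
      (1457280 * v χ) % dg χ = 0 ∧ 0 ≤ (dg χ : ℤ) + 6 * v χ) (hK' : Nat.card K' = 24)
    {s : IrrCharacter G} (hs : s ∈ B') (hs1 : dg s = 3520) {Θ : IrrCharacter G}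
    (hΘ : Θ ∈ H.D.X) : ∃ l : List (IrrCharacter G), (tr G :: a :: s :: l).Nodup ∧
      (∀ χ, χ ∈ H.D.NE ↔ χ ∈ tr G :: a :: s :: l) ∧ (Z H v Θ, l.map (Z H v)) ∈ sols := by
  classical
  have h7p : Fact (Nat.Prime 7) := ⟨by norm_num⟩
  have hS := card_seven H S
  obtain ⟨y, hy, hy1⟩ := BlockIndex.exists_ne_one (P := (S : Subgroup G)) hS
  have hi := Integral.index_mul h7.loc.loc hS hy hy1
  rw [hK', H.hcard] at hi
  have hi' : (centralizer ({y} : Set G)).index = 1457280 := by omega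
  have hy23 : ¬ 23 ∣ orderOf y := not_23 H hS hy hy1 (by norm_num)
  have hyv : ∀ χ : IrrCharacter G, (χ : G → ℂ) y = v χ := fun χ => hv.val χ y hy hy1
  obtain ⟨ht1, ht2⟩ := tr_NE H
  obtain ⟨ha1, ha2⟩ := pos_NE H (χ := a) (by rw [h5.dg_a])
  obtain ⟨hs2, hs3⟩ := pos_NE H (χ := s) (by rw [hs1])
  have hne : ∀ {χ ψ : IrrCharacter G}, dg χ ≠ dg ψ → χ ≠ ψ := by
    rintro χ ψ h rfl
    exact h rfl
  have hdt : dg (tr G) = 1 := dg_tr
  have hT : [tr G, a, s].Nodup := by
    simp only [List.nodup_cons, List.mem_cons, List.not_mem_nil, or_false, not_or,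
      not_false_eq_true, List.nodup_nil, and_true]
    refine ⟨⟨hne ?_, hne ?_⟩, hne ?_⟩
    · rw [hdt, h5.dg_a]; norm_num
    · rw [hdt, hs1]; norm_num
    · rw [h5.dg_a, hs1]; norm_num
  obtain ⟨l, hl1, hl2, hl3, hl4⟩ := exists_list H hT (by
    intro χ hχ
    simp only [List.mem_cons, List.not_mem_nil, or_false] at hχ
    rcases hχ with rfl | rfl | rfl
    · exact ht1
    · exact ha1
    · exact hs2) (Z H v)
  have hl1' : (tr G :: a :: s :: l).Nodup := hl1
  have hl2' : ∀ χ, χ ∈ H.D.NE ↔ χ ∈ tr G :: a :: s :: l := hl2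
  refine ⟨l, hl1', hl2', ?_⟩
  -- values
  have hvt : v (tr G) = 1 := by
    have h1 := hyv (tr G)
    rw [coe_tr] at h1
    simp only [Pi.one_apply] at h1
    exact_mod_cast h1.symm
  have hva : v a = 0 := (hf a).2.2.1 (by rw [h5.dg_a])
  have hvs : v s = -1 := by
    have h1 := h7.loc.toFlat.val' hs hy hy1
    rw [hyv] at h1
    have h2 : v s = ε' s := by exact_mod_cast h1
    have h3 := (hf s).2.1
    rw [hs1] at h3
    rcases h7.loc.ε_mem s hs with h | h <;> rw [h] at h2 <;> omega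
  have hiva : iv (Z H v a) = 480 := by rw [iv_Z H (hf a).1, h5.dg_a]; norm_num
  have hivs : iv (Z H v s) = 756 := by rw [iv_Z H (hf s).1, hs1]; norm_num
  have hivt : iv (Z H v (tr G)) = 2661120 := by rw [iv_Z H (hf _).1, dg_tr]; norm_num
  -- members of the list
  have hlNE : ∀ χ ∈ l, χ ∈ H.D.NE ∧ χ ≠ tr G := by
    intro χ hχ
    refine ⟨(hl2' χ).2 (by simp [hχ]), ?_⟩
    rintro rfl
    exact (List.nodup_cons.1 hl1').1 (by simp [hχ])
  have hdec : ∀ χ ∈ l, sd (Z H v χ) = H.D.ε χ * dg χ ∧ vl (Z H v χ) = v χ ∧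
      sg (Z H v χ) = H.D.ε χ := by
    intro χ hχ
    have h1 := decode_Z H (hf χ).1
    rwa [sn_NE H (hlNE χ hχ).1] at h1
  obtain ⟨x1, x2, x3⟩ := decode_Z H (hf Θ).1
  rw [sn_X H hΘ] at x1 x3
  have hfΘ : dg Θ = H.D.f := H.D.deg_X Θ hΘ
  -- the sums
  have r1 := H.D.rel_deg (by norm_num) hΘ
  rw [sum_NE H hl1' hl2'] at r1
  have r2 := rel_sum H hΘ hy23 hyv
  rw [sum_NE H hl1' hl2'] at r2
  obtain ⟨N, r3⟩ := int_sum H hΘ hy23 hy23 hyv hyv (q := fun χ => iv (Z H v χ))
    (iv_mul_dg H hf)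
  rw [sum_NE H hl1' hl2', hi', H.hcard] at r3
  simp only [List.map_cons, List.sum_cons, ht2, ha2, hs3, hvt, hva, hvs, hiva, hivs, hivt,
    hdt, h5.dg_a, hs1] at r1 r2 r3
  have e1 : ((l.map (Z H v)).map sd).sum = (l.map fun χ => H.D.ε χ * (dg χ : ℤ)).sum := by
    rw [List.map_map]
    congr 1
    exact List.map_congr_left fun χ hχ => (hdec χ hχ).1
  have e2 : ((l.map (Z H v)).map wt).sum = (l.map fun χ => H.D.ε χ * v χ).sum := by
    rw [List.map_map]
    congr 1
    refine List.map_congr_left fun χ hχ => ?_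
    show sg (Z H v χ) * vl (Z H v χ) = _
    rw [(hdec χ hχ).2.1, (hdec χ hχ).2.2]
  have e3 : ((l.map (Z H v)).map qd).sum =
      (l.map fun χ => H.D.ε χ * (v χ * v χ) * iv (Z H v χ)).sum := by
    rw [List.map_map]
    congr 1
    refine List.map_congr_left fun χ hχ => ?_
    show sg (Z H v χ) * (vl (Z H v χ) * vl (Z H v χ)) * iv (Z H v χ) = _
    rw [(hdec χ hχ).2.1, (hdec χ hχ).2.2]
  refine YSearch.spec (code_X H hf hΘ) ?_ hl4 ?_ ?_ ?_ ?_ ?_
  · rw [List.length_map]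
    rw [List.length_append] at hl3
    simp only [List.length_cons, List.length_nil] at hl3
    omega
  · intro z hz
    obtain ⟨χ, hχ, rfl⟩ := List.mem_map.1 hz
    exact code_NE H hf (hlNE χ hχ).1 (hlNE χ hχ).2
  · rw [e1, x1, hfΘ]
    push_cast at r1
    linarith
  · rw [e2]
    unfold wt
    rw [x2, x3]
    linarith
  · have h1 := sum_sq H hl1' hl2' h5.dg_b hc hd
    simp only [List.map_cons, List.sum_cons, hdt, h5.dg_a, hs1] at h1
    have h2 : ((l.map (Z H v)).map fun z => (sd z).natAbs ^ 2).sum =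
        (l.map fun χ => dg χ ^ 2).sum := by
      rw [List.map_map]
      congr 1
      refine List.map_congr_left fun χ hχ => ?_
      show (sd (Z H v χ)).natAbs ^ 2 = _
      rw [natAbs_sd H (hf χ).1]
    rw [h2, natAbs_sd H (hf Θ).1, hfΘ]
    unfold BD
    omega
  · rw [e3]
    unfold qd
    rw [x2, x3]
    set T : ℤ := (l.map fun χ => H.D.ε χ * (v χ * v χ) * iv (Z H v χ)).sum with hTdef
    set U : ℤ := H.D.d * (v Θ * v Θ) * iv (Z H v Θ) with hU
    have h1 : -H.D.d * (v Θ * v Θ) * iv (Z H v Θ) = -U := by rw [hU]; ring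
    rw [h1]
    omega

end Cfsg.Agent.SporadicA.M24.YStage
end

-- part: SporadicA/M24/Y
section
/-!
# No character of degree 3520 in the principal 7-block

* `not_3520` : if `|N(P₇) : C(P₇)| = 6` and the complement has order 24 then the principal 7-block
  has no character of degree 3520;
* `mem_22` : hence it has a character of degree 22.
-/

set_option autoImplicit false
set_option linter.unusedSectionVars false

open Cfsg Subgroup
open Cfsg.Agent.Characters.Core
open Cfsg.Agent.SmallSimple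
open Cfsg.Agent.SmallSimple.FlatBlock Cfsg.Agent.SmallSimple.PrimeValues
open Cfsg.Agent.SmallSimple.DegreeData
open Cfsg.Agent.M23Order.Base
open Cfsg.Agent.SporadicA.M24.Setup Cfsg.Agent.SporadicA.M24.Five Cfsg.Agent.SporadicA.M24.Seven
open Cfsg.Agent.SporadicA.M24.YSearch Cfsg.Agent.SporadicA.M24.YBase
open Cfsg.Agent.SporadicA.M24.YStage
open scoped ComplexConjugate

namespace Cfsg.Agent.SporadicA.M24.Y

universe u

variable {G : Type u} [Group G] [Finite G] [IsSimpleGroup G] (H : Hyp G)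

include H

/-- The values at the elements of order 5. -/
theorem five_facts {R : Sylow 5 G} {K : Subgroup G} {M : Ideal AlgInt}
    {B : Finset (IrrCharacter G)} {ε : IrrCharacter G → ℤ} {a b c d : IrrCharacter G}
    (h5 : B5 R K M B ε a b c d) {i : ℤ}
    (hi : ∀ x ∈ R, x ≠ 1 → ((centralizer ({x} : Set G)).index : ℤ) = i)
    {w : IrrCharacter G → ℤ} (hw : Values 5 R K M w) (χ : IrrCharacter G) :
    (w χ - dg χ) % 5 = 0 ∧ (dg χ % 5 = 0 → w χ = 0) ∧
      (i * w χ) % dg χ = 0 ∧ 0 ≤ (dg χ : ℤ) + 4 * w χ := by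
  have h5p : Fact (Nat.Prime 5) := ⟨by norm_num⟩
  have hR := card_five H R
  obtain ⟨y, hy, hy1⟩ := BlockIndex.exists_ne_one (P := (R : Subgroup G)) hR
  refine ⟨?_, fun h => ?_, ?_, ?_⟩
  · have h1 := hw.modEq χ
    have h2 := h1.symm.dvd
    omega
  · have h1 := Integral.five_zero H χ (Nat.dvd_of_mod_eq_zero h) (w := y)
      (by rw [Integral.orderOf_of_mem hR hy hy1])
    rw [hw.val χ y hy hy1] at h1
    exact_mod_cast h1
  · have h1 := hw.dvd χ y hy hy1
    rw [hi y hy hy1] at h1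
    exact Int.emod_eq_zero_of_dvd h1
  · have h1 := hw.nonneg χ
    norm_num at h1
    exact h1

/-- the values are in the list -/
theorem five_small {R : Sylow 5 G} {K : Subgroup G} {M : Ideal AlgInt}
    {B : Finset (IrrCharacter G)} {ε : IrrCharacter G → ℤ} {a b c d : IrrCharacter G}
    (h5 : B5 R K M B ε a b c d) {w : IrrCharacter G → ℤ} (hw : Values 5 R K M w)
    (χ : IrrCharacter G) : (Nat.card K = 12 → w χ ∈ V12) ∧ (Nat.card K = 192 → w χ ∈ V192) := by
  have h5p : Fact (Nat.Prime 5) := ⟨by norm_num⟩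
  have hR := card_five H R
  obtain ⟨y, hy, hy1⟩ := BlockIndex.exists_ne_one (P := (R : Subgroup G)) hR
  by_cases hχ : χ ∈ B
  · have h1 := h5.loc.toFlat.val' hχ hy hy1
    rw [hw.val χ y hy hy1] at h1
    have h2 : w χ = ε χ := by exact_mod_cast h1
    rw [h2]
    rcases h5.loc.ε_mem χ hχ with h | h <;> rw [h] <;>
      exact ⟨fun _ => by decide, fun _ => by decide⟩
  · have h1 := hw.mem χ (fun h => hχ ((h5.loc.mem_iff χ).1 h))
    constructor
    · intro h
      rw [h] at h1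
      exact mem_V12 h1
    · intro h
      rw [h] at h1
      exact mem_V192 h1

/-- The index of the centralizer of an element of order 5. -/
theorem index_five {R : Sylow 5 G} {K : Subgroup G} {M : Ideal AlgInt}
    {B : Finset (IrrCharacter G)} {ε : IrrCharacter G → ℤ} {a b c d : IrrCharacter G}
    (h5 : B5 R K M B ε a b c d) {i : ℕ} (hi : 5 * Nat.card K * i = 244823040) :
    ∀ x ∈ R, x ≠ 1 → ((centralizer ({x} : Set G)).index : ℤ) = i := by
  have h5p : Fact (Nat.Prime 5) := ⟨by norm_num⟩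
  intro x hx hx1
  have h1 := Integral.index_mul h5.loc.loc (card_five H R) hx hx1
  rw [H.hcard, ← hi] at h1
  have h2 : 0 < 5 * Nat.card K := by
    have : 0 < Nat.card K := Nat.card_pos
    omega
  exact_mod_cast Nat.eq_of_mul_eq_mul_left h2 h1

/-- **The kill.** -/
theorem false_of_3520 {R : Sylow 5 G} {K : Subgroup G} {M : Ideal AlgInt}
    {B : Finset (IrrCharacter G)} {ε : IrrCharacter G → ℤ} {a b c d : IrrCharacter G}
    (h5 : B5 R K M B ε a b c d) {S : Sylow 7 G}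
    {K' : Subgroup G} {M' : Ideal AlgInt} {B' : Finset (IrrCharacter G)}
    {ε' : IrrCharacter G → ℤ} {l' : List (IrrCharacter G)} (h7 : B7six S K' M' B' ε' l' b)
    (hK' : Nat.card K' = 24) {s : IrrCharacter G} (hs : s ∈ B') (hs1 : dg s = 3520) : False := by
  classical
  have h5p : Fact (Nat.Prime 5) := ⟨by norm_num⟩
  have h7p : Fact (Nat.Prime 7) := ⟨by norm_num⟩
  obtain ⟨hc, hd, hK⟩ := KillThree.card_K H h5
  have hS := card_seven H S
  have hR := card_five H R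
  obtain ⟨v, hv⟩ := exists_values (by norm_num) hS h7.loc.loc h7.loc.modular
  obtain ⟨w, hw⟩ := exists_values (by norm_num) hR h5.loc.loc h5.loc.modular
  have hf := fun χ => seven_facts H h7 hK' hv χ
  obtain ⟨Θ, hΘ⟩ : H.D.X.Nonempty := by
    rw [← Finset.card_pos, H.D.card_X]; norm_num
  obtain ⟨l, hl1, hl2, hl3⟩ := exists_code H h5 hc hd h7 hv hf hK' hs hs1 hΘ
  obtain ⟨y, hy, hy1⟩ := BlockIndex.exists_ne_one (P := (S : Subgroup G)) hS
  obtain ⟨x, hx, hx1⟩ := BlockIndex.exists_ne_one (P := (R : Subgroup G)) hR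
  have hy23 : ¬ 23 ∣ orderOf y := not_23 H hS hy hy1 (by norm_num)
  have hx23 : ¬ 23 ∣ orderOf x := not_23 H hR hx hx1 (by norm_num)
  have hyv : ∀ χ : IrrCharacter G, (χ : G → ℂ) y = v χ := fun χ => hv.val χ y hy hy1
  have hxw : ∀ χ : IrrCharacter G, (χ : G → ℂ) x = w χ := fun χ => hw.val χ x hx hx1
  have hi := Integral.index_mul h7.loc.loc hS hy hy1
  rw [hK', H.hcard] at hi
  have hi' : (centralizer ({y} : Set G)).index = 1457280 := by omega
  obtain ⟨ht1, ht2⟩ := tr_NE H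
  obtain ⟨ha1, ha2⟩ := pos_NE H (χ := a) (by rw [h5.dg_a])
  obtain ⟨hs2, hs3⟩ := pos_NE H (χ := s) (by rw [hs1])
  have hdt : dg (tr G) = 1 := dg_tr
  -- values
  have hvt : v (tr G) = 1 := by
    have h1 := hyv (tr G)
    rw [coe_tr] at h1
    simp only [Pi.one_apply] at h1
    exact_mod_cast h1.symm
  have hva : v a = 0 := (hf a).2.2.1 (by rw [h5.dg_a])
  have hwt : w (tr G) = 1 := by
    have h1 := hxw (tr G)
    rw [coe_tr] at h1
    simp only [Pi.one_apply] at h1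
    exact_mod_cast h1.symm
  have hwa : w a = -1 := by
    have h1 := h5.loc.toFlat.val' ((h5.mem a).2 (by simp)) hx hx1
    rw [hxw, h5.ε_a] at h1
    exact_mod_cast h1
  have hws : w s = 0 := by
    have h1 := Integral.five_zero H s (by rw [hs1]; norm_num) (w := x)
      (by rw [Integral.orderOf_of_mem hR hx hx1])
    rw [hxw] at h1
    exact_mod_cast h1
  have hiva : iv (Z H v a) = 480 := by rw [iv_Z H (hf a).1, h5.dg_a]; norm_num
  have hivs : iv (Z H v s) = 756 := by rw [iv_Z H (hf s).1, hs1]; norm_num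
  have hivt : iv (Z H v (tr G)) = 2661120 := by rw [iv_Z H (hf _).1, dg_tr]; norm_num
  have hlNE : ∀ χ ∈ l, χ ∈ H.D.NE := fun χ hχ => (hl2 χ).2 (by simp [hχ])
  have hsg : ∀ χ ∈ l, sg (Z H v χ) = H.D.ε χ := by
    intro χ hχ
    rw [(decode_Z H (hf χ).1).2.2, sn_NE H (hlNE χ hχ)]
  have hsgΘ : sg (Z H v Θ) = -H.D.d := by rw [(decode_Z H (hf Θ).1).2.2, sn_X H hΘ]
  have hvl : ∀ χ : IrrCharacter G, vl (Z H v χ) = v χ := fun χ => (decode_Z H (hf χ).1).2.1
  -- the sums
  have r2 := rel_sum H hΘ hx23 hxw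
  rw [sum_NE H hl1 hl2] at r2
  simp only [List.map_cons, List.sum_cons, ht2, ha2, hs3, hwt, hwa, hws] at r2
  have q0 : (0 : ℤ) + ((Θ :: l).map fun χ => sg (Z H v χ) * w χ).sum = 0 := by
    rw [List.map_cons, List.sum_cons, hsgΘ,
      List.map_congr_left (g := fun χ => H.D.ε χ * w χ) fun χ hχ => by rw [hsg χ hχ]]
    linarith
  have q1 : ((Θ :: l).map fun χ => sg (Z H v χ) * (w χ * w χ) * iv (Z H v χ)).sum =
      (l.map fun χ => H.D.ε χ * (w χ * w χ) * iv (Z H v χ)).sum -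
        H.D.d * (w Θ * w Θ) * iv (Z H v Θ) := by
    rw [List.map_cons, List.sum_cons, hsgΘ,
      List.map_congr_left (g := fun χ => H.D.ε χ * (w χ * w χ) * iv (Z H v χ))
        fun χ hχ => by rw [hsg χ hχ]]
    ring
  have q2 : ((Θ :: l).map fun χ => sg (Z H v χ) * (w χ * vl (Z H v χ)) * iv (Z H v χ)).sum =
      (l.map fun χ => H.D.ε χ * (w χ * v χ) * iv (Z H v χ)).sum -
        H.D.d * (w Θ * v Θ) * iv (Z H v Θ) := by
    rw [List.map_cons, List.sum_cons, hsgΘ, hvl,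
      List.map_congr_left (g := fun χ => H.D.ε χ * (w χ * v χ) * iv (Z H v χ))
        fun χ hχ => by rw [hsg χ hχ, hvl]]
    ring
  have hmap : (Θ :: l).map (Z H v) = (Z H v Θ, l.map (Z H v)).1 :: (Z H v Θ, l.map (Z H v)).2 :=
    rfl
  have hdeg : ∀ χ ∈ Θ :: l, (sd (Z H v χ)).natAbs = dg χ ∧ dg χ ∈ DS := by
    intro χ hχ
    have h1 := natAbs_sd H (hf χ).1
    refine ⟨h1, ?_⟩
    rw [← h1]
    exact deg_mem _ hl3 _ (by rw [← hmap]; exact List.mem_map_of_mem hχ)
  rcases hK with hK | hK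
  · -- `|K| = 12`
    have hidx := index_five H h5 (i := 4080384) (by rw [hK])
    have hg := fun χ => five_facts H h5 (i := 4080384) (by exact_mod_cast hidx) hw χ
    have hix : (centralizer ({x} : Set G)).index = 4080384 := by exact_mod_cast hidx x hx hx1
    obtain ⟨N, r3⟩ := int_sum H hΘ hx23 hx23 hxw hxw (q := fun χ => iv (Z H v χ))
      (iv_mul_dg H hf)
    obtain ⟨N', r4⟩ := int_sum H hΘ hx23 hy23 hxw hyv (q := fun χ => iv (Z H v χ))
      (iv_mul_dg H hf)
    rw [sum_NE H hl1 hl2, hix, H.hcard] at r3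
    rw [sum_NE H hl1 hl2, hix, hi', H.hcard] at r4
    simp only [List.map_cons, List.sum_cons, ht2, ha2, hs3, hvt, hva, hwt, hwa, hws, hiva, hivs,
      hivt] at r3 r4
    by_cases hstar : (Z H v Θ, l.map (Z H v)) = ((176003 : ℤ), ([-1039500, -154000, -154000,
        -52804, -25200, -4497, -4497, 351999] : List ℤ))
    · rw [Prod.mk.injEq] at hstar
      obtain ⟨e1, e2⟩ := hstar
      refine YStar.false_of_degrees H h5 hK (l := s :: l) hl1 hl2 ?_ ?_
      · rw [List.map_cons, hs1]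
        congr 1
        have h1 : l.map dg = (l.map (Z H v)).map fun z => (sd z).natAbs := by
          rw [List.map_map]
          exact List.map_congr_left fun χ _ => (natAbs_sd H (hf χ).1).symm
        rw [h1, e2]
        decide
      · have h1 := natAbs_sd H (hf Θ).1
        rw [e1, H.D.deg_X Θ hΘ] at h1
        rw [← h1]
        decide
    · have h1 := five12 _ hl3 hstar
      rw [← hmap] at h1
      refine five_spec (v := w) h1 ?_ q0 ?_ ?_
      · intro χ hχ
        obtain ⟨g1, g2, g3, g4⟩ := hg χ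
        obtain ⟨g5, g6⟩ := hdeg χ hχ
        rw [g5]
        exact arith12 _ g6 _ ((five_small H h5 hw χ).1 hK) g1 g2 g3 g4
      · rw [q1]
        omega
      · rw [q2]
        omega
  · -- `|K| = 192`
    have hidx := index_five H h5 (i := 255024) (by rw [hK])
    have hg := fun χ => five_facts H h5 (i := 255024) (by exact_mod_cast hidx) hw χ
    have hix : (centralizer ({x} : Set G)).index = 255024 := by exact_mod_cast hidx x hx hx1
    obtain ⟨N, r3⟩ := int_sum H hΘ hx23 hx23 hxw hxw (q := fun χ => iv (Z H v χ))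
      (iv_mul_dg H hf)
    rw [sum_NE H hl1 hl2, hix, H.hcard] at r3
    simp only [List.map_cons, List.sum_cons, ht2, ha2, hs3, hwt, hwa, hws, hiva, hivs,
      hivt] at r3
    have h1 := five192 _ hl3
    rw [← hmap] at h1
    refine five_spec (v := w) h1 ?_ q0 ?_ (one_dvd _)
    · intro χ hχ
      obtain ⟨g1, g2, g3, g4⟩ := hg χ
      obtain ⟨g5, g6⟩ := hdeg χ hχ
      rw [g5]
      exact arith192 _ g6 _ ((five_small H h5 hw χ).2 hK) g1 g2 g3 g4
    · rw [q1]
      omega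

/-- **No character of degree 3520 in the principal 7-block.** -/
theorem not_3520 {R : Sylow 5 G} {K : Subgroup G} {M : Ideal AlgInt}
    {B : Finset (IrrCharacter G)} {ε : IrrCharacter G → ℤ} {a b c d : IrrCharacter G}
    (h5 : B5 R K M B ε a b c d) {S : Sylow 7 G}
    {K' : Subgroup G} {M' : Ideal AlgInt} {B' : Finset (IrrCharacter G)}
    {ε' : IrrCharacter G → ℤ} {l' : List (IrrCharacter G)} (h7 : B7six S K' M' B' ε' l' b)
    (hK' : Nat.card K' = 24) : (-3520 : ℤ) ∉ l'.map fun χ => ε' χ * (dg χ : ℤ) := by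
  intro h
  obtain ⟨s, hs, hs1⟩ := List.mem_map.1 h
  have hs2 : s ∈ B' := (h7.mem s).2 (List.mem_cons_of_mem _ hs)
  refine false_of_3520 H h5 h7 hK' hs2 ?_
  rcases h7.loc.ε_mem s hs2 with h1 | h1 <;> rw [h1] at hs1 <;> omega

omit H in
theorem arith22 : ∀ p ∈ pairs6, p.2 = 24 → (-3520 : ℤ) ∈ p.1 ∨ (22 : ℤ) ∈ p.1 ∨
    p.1 = [-12144, -1518, -1035, 2024, 6336, 6336] := by
  decide +kernel

/-- **A character of degree 22.** -/
theorem mem_22 {R : Sylow 5 G} {K : Subgroup G} {M : Ideal AlgInt}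
    {B : Finset (IrrCharacter G)} {ε : IrrCharacter G → ℤ} {a b c d : IrrCharacter G}
    (h5 : B5 R K M B ε a b c d) {S : Sylow 7 G}
    {K' : Subgroup G} {M' : Ideal AlgInt} {B' : Finset (IrrCharacter G)}
    {ε' : IrrCharacter G → ℤ} {l' : List (IrrCharacter G)} (h7 : B7six S K' M' B' ε' l' b)
    (hK' : Nat.card K' = 24) : (22 : ℤ) ∈ l'.map fun χ => ε' χ * (dg χ : ℤ) := by
  rcases arith22 _ h7.mem_pairs hK' with h | h | h
  · exact absurd h (not_3520 H h5 h7 hK')
  · exact h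
  · exact absurd h (SixFilter.ne_first H h5 h7)

end Cfsg.Agent.SporadicA.M24.Y
end
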